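import Cfsg.Agent.H6.M11.Stage11
import Cfsg.Agent.Prune
set_option linter.all false

section
prune_inst 0x7fffeffbfbfff9dfffff7e7faededffdffbfbfffe6dff9cbffe06bffbbbf7b92cbe5fbad0bebb9fe1ed7e89410f87b53ffffeeffea6fdc7ffffd5ff45ffbffcffdf7bd0951d588341fb82ffe83f0778e7f3fffffffffffffffffffffffffffbeffffffffffff

-- part: H6/M11/LemF
section
prune_inst 0x400022000000000510020000000000010000000000200004040040020080400840040004020022040028000000001000000000000000000000000200000000000000000c00000006000080000000000000000000000000000000000000000000000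
set_option linter.all false
open scoped Cfsg.Agent.FastGrp

-- part: H6/M11/TabL
section
/-!
# Table of traces for `L₂(11)` (helper6)

Generated: `t_abc` is the trace of the word `abc` in terms of the representative of its class in `L₂(11)`.
-/

set_option autoImplicit false
set_option linter.unusedSectionVars false
set_option maxRecDepth 100000

namespace Cfsg.Agent.H6.M11

open Module LinearMap

variable {G : Type*} [Group G] {v : ℕ → G} {k : Type*} [Field k] {V : Type*} [AddCommGroup V] [Module k V]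
  {R : G →* End k V}

theorem SatL.op_eq (h : SatL v) {a b : List ℕ} (hr : (a, b) ∈ baseLL) : op v R a = op v R b := by
  unfold op
  rw [h.base hr]

theorem SatL.tw_eq (h : SatL v) {a b : List ℕ} (c : List ℕ) (hr : (c, a, b) ∈ certLL) : tw v R a = tw v R b :=
  tw_of_conj (h.cert hr)

theorem SatL.t_65 (h : SatL v) : tw v R [6, 5] = tw v R [6] := h.tw_eq [5, 5, 5, 5, 5] (by decide +kernel)
theorem SatL.t_76 (h : SatL v) : tw v R [7, 6] = tw v R [7] := h.tw_eq [6, 6, 6] (by decide +kernel)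
theorem SatL.t_557 (h : SatL v) : tw v R [5, 5, 7] = tw v R [5, 5, 5, 5, 5, 5, 5, 5, 5, 5] := h.tw_eq [7, 5, 7] (by decide +kernel)
theorem SatL.t_655 (h : SatL v) : tw v R [6, 5, 5] = tw v R [6] := h.tw_eq [5, 5, 5, 5, 5, 5, 5, 5, 5, 5] (by decide +kernel)
theorem SatL.t_665 (h : SatL v) : tw v R [6, 6, 5] = tw v R [6, 6] := h.tw_eq [5, 5, 5, 5] (by decide +kernel)
theorem SatL.t_666 (h : SatL v) : tw v R [6, 6, 6] = tw v R [6, 6] := h.tw_eq [7] (by decide +kernel)
theorem SatL.t_766 (h : SatL v) : tw v R [7, 6, 6] = tw v R [7] := h.tw_eq [6] (by decide +kernel)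
theorem SatL.t_5557 (h : SatL v) : tw v R [5, 5, 5, 7] = tw v R [6] := h.tw_eq [5, 5, 7, 6, 5, 5] (by decide +kernel)
theorem SatL.t_6555 (h : SatL v) : tw v R [6, 5, 5, 5] = tw v R [6] := h.tw_eq [5, 5, 5, 5] (by decide +kernel)
theorem SatL.t_6655 (h : SatL v) : tw v R [6, 6, 5, 5] = tw v R [6, 6] := h.tw_eq [5, 5, 5, 5, 5, 5, 5, 5] (by decide +kernel)
theorem SatL.t_6665 (h : SatL v) : tw v R [6, 6, 6, 5] = tw v R [6, 6, 6] := h.tw_eq [5, 5, 5, 5, 5, 5, 5, 5] (by decide +kernel)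
theorem SatL.t_6666 (h : SatL v) : tw v R [6, 6, 6, 6] = tw v R [6] := h.tw_eq [7] (by decide +kernel)
theorem SatL.t_7666 (h : SatL v) : tw v R [7, 6, 6, 6] = tw v R [7] := h.tw_eq [6, 7] (by decide +kernel)
theorem SatL.t_55557 (h : SatL v) : tw v R [5, 5, 5, 5, 7] = tw v R [6, 6] := h.tw_eq [5, 6, 7, 5, 6, 5] (by decide +kernel)
theorem SatL.t_65555 (h : SatL v) : tw v R [6, 5, 5, 5, 5] = tw v R [6] := h.tw_eq [5, 5, 5, 5, 5, 5, 5, 5, 5] (by decide +kernel)
theorem SatL.t_66555 (h : SatL v) : tw v R [6, 6, 5, 5, 5] = tw v R [6, 6] := h.tw_eq [5] (by decide +kernel)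
theorem SatL.t_66655 (h : SatL v) : tw v R [6, 6, 6, 5, 5] = tw v R [6, 6, 6] := h.tw_eq [5, 5, 5, 5, 5] (by decide +kernel)
theorem SatL.t_66665 (h : SatL v) : tw v R [6, 6, 6, 6, 5] = tw v R [6, 6, 6, 6] := h.tw_eq [5, 5, 5, 5, 5, 5, 5] (by decide +kernel)
theorem SatL.t_76666 (h : SatL v) : tw v R [7, 6, 6, 6, 6] = tw v R [7] := h.tw_eq [6, 6] (by decide +kernel)
theorem SatL.t_655555 (h : SatL v) : tw v R [6, 5, 5, 5, 5, 5] = tw v R [6] := h.tw_eq [5, 5, 5] (by decide +kernel)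
theorem SatL.t_665555 (h : SatL v) : tw v R [6, 6, 5, 5, 5, 5] = tw v R [6, 6] := h.tw_eq [5, 5, 5, 5, 5] (by decide +kernel)
theorem SatL.t_666555 (h : SatL v) : tw v R [6, 6, 6, 5, 5, 5] = tw v R [6, 6, 6] := h.tw_eq [5, 5] (by decide +kernel)
theorem SatL.t_666655 (h : SatL v) : tw v R [6, 6, 6, 6, 5, 5] = tw v R [6, 6, 6, 6] := h.tw_eq [5, 5, 5] (by decide +kernel)
theorem SatL.t_5555557 (h : SatL v) : tw v R [5, 5, 5, 5, 5, 5, 7] = tw v R [5, 5, 5, 5, 5, 7] := h.tw_eq [5, 7, 5, 6, 5] (by decide +kernel)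
theorem SatL.t_6555555 (h : SatL v) : tw v R [6, 5, 5, 5, 5, 5, 5] = tw v R [6] := h.tw_eq [5, 5, 5, 5, 5, 5, 5, 5] (by decide +kernel)
theorem SatL.t_6655555 (h : SatL v) : tw v R [6, 6, 5, 5, 5, 5, 5] = tw v R [6, 6] := h.tw_eq [5, 5, 5, 5, 5, 5, 5, 5, 5] (by decide +kernel)
theorem SatL.t_6665555 (h : SatL v) : tw v R [6, 6, 6, 5, 5, 5, 5] = tw v R [6, 6, 6] := h.tw_eq [5, 5, 5, 5, 5, 5, 5, 5, 5, 5] (by decide +kernel)
theorem SatL.t_6666555 (h : SatL v) : tw v R [6, 6, 6, 6, 5, 5, 5] = tw v R [6, 6, 6, 6] := h.tw_eq [5, 5, 5, 5, 5, 5, 5, 5, 5, 5] (by decide +kernel)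
theorem SatL.t_55555557 (h : SatL v) : tw v R [5, 5, 5, 5, 5, 5, 5, 7] = tw v R [6, 6] := h.tw_eq [5, 5, 7, 5, 5, 6, 6] (by decide +kernel)
theorem SatL.t_65555555 (h : SatL v) : tw v R [6, 5, 5, 5, 5, 5, 5, 5] = tw v R [6] := h.tw_eq [5, 5] (by decide +kernel)
theorem SatL.t_66555555 (h : SatL v) : tw v R [6, 6, 5, 5, 5, 5, 5, 5] = tw v R [6, 6] := h.tw_eq [5, 5] (by decide +kernel)
theorem SatL.t_66655555 (h : SatL v) : tw v R [6, 6, 6, 5, 5, 5, 5, 5] = tw v R [6, 6, 6] := h.tw_eq [5, 5, 5, 5, 5, 5, 5] (by decide +kernel)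
theorem SatL.t_66665555 (h : SatL v) : tw v R [6, 6, 6, 6, 5, 5, 5, 5] = tw v R [6, 6, 6, 6] := h.tw_eq [5, 5, 5, 5, 5, 5] (by decide +kernel)
theorem SatL.t_555555557 (h : SatL v) : tw v R [5, 5, 5, 5, 5, 5, 5, 5, 7] = tw v R [6] := h.tw_eq [5, 7, 6, 6, 5, 6, 6] (by decide +kernel)
theorem SatL.t_655555555 (h : SatL v) : tw v R [6, 5, 5, 5, 5, 5, 5, 5, 5] = tw v R [6] := h.tw_eq [5, 5, 5, 5, 5, 5, 5] (by decide +kernel)
theorem SatL.t_665555555 (h : SatL v) : tw v R [6, 6, 5, 5, 5, 5, 5, 5, 5] = tw v R [6, 6] := h.tw_eq [5, 5, 5, 5, 5, 5] (by decide +kernel)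
theorem SatL.t_666555555 (h : SatL v) : tw v R [6, 6, 6, 5, 5, 5, 5, 5, 5] = tw v R [6, 6, 6] := h.tw_eq [5, 5, 5, 5] (by decide +kernel)
theorem SatL.t_666655555 (h : SatL v) : tw v R [6, 6, 6, 6, 5, 5, 5, 5, 5] = tw v R [6, 6, 6, 6] := h.tw_eq [5, 5] (by decide +kernel)
theorem SatL.t_5555555557 (h : SatL v) : tw v R [5, 5, 5, 5, 5, 5, 5, 5, 5, 7] = tw v R [5] := h.tw_eq [7, 5] (by decide +kernel)
theorem SatL.t_6555555555 (h : SatL v) : tw v R [6, 5, 5, 5, 5, 5, 5, 5, 5, 5] = tw v R [6] := h.tw_eq [5] (by decide +kernel)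
theorem SatL.t_6655555555 (h : SatL v) : tw v R [6, 6, 5, 5, 5, 5, 5, 5, 5, 5] = tw v R [6, 6] := h.tw_eq [5, 5, 5, 5, 5, 5, 5, 5, 5, 5] (by decide +kernel)
theorem SatL.t_6665555555 (h : SatL v) : tw v R [6, 6, 6, 5, 5, 5, 5, 5, 5, 5] = tw v R [6, 6, 6] := h.tw_eq [5] (by decide +kernel)
theorem SatL.t_6666555555 (h : SatL v) : tw v R [6, 6, 6, 6, 5, 5, 5, 5, 5, 5] = tw v R [6, 6, 6, 6] := h.tw_eq [5, 5, 5, 5, 5, 5, 5, 5, 5] (by decide +kernel)
theorem SatL.t_55555555557 (h : SatL v) : tw v R [5, 5, 5, 5, 5, 5, 5, 5, 5, 5, 7] = tw v R [5, 7] := h.tw_eq [6, 5, 6, 5, 7, 5, 6] (by decide +kernel)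
theorem SatL.t_65555555555 (h : SatL v) : tw v R [6, 5, 5, 5, 5, 5, 5, 5, 5, 5, 5] = tw v R [6] := h.tw_eq [5, 5, 5, 5, 5, 5] (by decide +kernel)
theorem SatL.t_66555555555 (h : SatL v) : tw v R [6, 6, 5, 5, 5, 5, 5, 5, 5, 5, 5] = tw v R [6, 6] := h.tw_eq [5, 5, 5] (by decide +kernel)
theorem SatL.t_66655555555 (h : SatL v) : tw v R [6, 6, 6, 5, 5, 5, 5, 5, 5, 5, 5] = tw v R [6, 6, 6] := h.tw_eq [5, 5, 5, 5, 5, 5, 5, 5, 5] (by decide +kernel)
theorem SatL.t_66665555555 (h : SatL v) : tw v R [6, 6, 6, 6, 5, 5, 5, 5, 5, 5, 5] = tw v R [6, 6, 6, 6] := h.tw_eq [5, 5, 5, 5, 5] (by decide +kernel)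
theorem SatL.t_665555555555 (h : SatL v) : tw v R [6, 6, 5, 5, 5, 5, 5, 5, 5, 5, 5, 5] = tw v R [6, 6] := h.tw_eq [5, 5, 5, 5, 5, 5, 5] (by decide +kernel)
theorem SatL.t_666555555555 (h : SatL v) : tw v R [6, 6, 6, 5, 5, 5, 5, 5, 5, 5, 5, 5] = tw v R [6, 6, 6] := h.tw_eq [5, 5, 5, 5, 5, 5] (by decide +kernel)
theorem SatL.t_666655555555 (h : SatL v) : tw v R [6, 6, 6, 6, 5, 5, 5, 5, 5, 5, 5, 5] = tw v R [6, 6, 6, 6] := h.tw_eq [5] (by decide +kernel)
theorem SatL.t_6665555555555 (h : SatL v) : tw v R [6, 6, 6, 5, 5, 5, 5, 5, 5, 5, 5, 5, 5] = tw v R [6, 6, 6] := h.tw_eq [5, 5, 5] (by decide +kernel)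
theorem SatL.t_6666555555555 (h : SatL v) : tw v R [6, 6, 6, 6, 5, 5, 5, 5, 5, 5, 5, 5, 5] = tw v R [6, 6, 6, 6] := h.tw_eq [5, 5, 5, 5, 5, 5, 5, 5] (by decide +kernel)
theorem SatL.t_66665555555555 (h : SatL v) : tw v R [6, 6, 6, 6, 5, 5, 5, 5, 5, 5, 5, 5, 5, 5] = tw v R [6, 6, 6, 6] := h.tw_eq [5, 5, 5, 5] (by decide +kernel)
theorem SatL.t_555557555557555557 (h : SatL v) : tw v R [5, 5, 5, 5, 5, 7, 5, 5, 5, 5, 5, 7, 5, 5, 5, 5, 5, 7] = tw v R [7] := h.tw_eq [6, 6, 5, 6] (by decide +kernel)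

end Cfsg.Agent.H6.M11
end

-- part: H6/M11/LemF
section
/-!
# Characteristic 3: representations of `L₂(11)` of degree 6 with a fixed vector (helper6)
-/

set_option autoImplicit false
set_option linter.unusedSectionVars false
set_option linter.unusedVariables false
set_option maxRecDepth 100000

namespace Cfsg.Agent.H6.M11

open Module LinearMap

variable {G : Type*} [Group G] {v : ℕ → G} {k : Type*} [Field k] {V : Type*} [AddCommGroup V] [Module k V]
  [FiniteDimensional k V] {R : G →* End k V} {ζ : k}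

/-! ### characteristic 3 -/

section char3

variable (h3 : (3 : k) = 0)

include h3

theorem two_ne_of3 : (2 : k) ≠ 0 := fun h => one_ne_zero (α := k) (by linear_combination h3 - h)
theorem five_ne_of3 : ((5 : ℕ) : k) ≠ 0 := fun h => one_ne_zero (α := k) (by push_cast at h; linear_combination 2 * h3 - h)
theorem eleven_ne_of3 : ((11 : ℕ) : k) ≠ 0 := fun h =>
  one_ne_zero (α := k) (by push_cast at h; linear_combination 4 * h3 - h)

theorem three_end : (3 : End k V) = 0 := by
  have : (3 : End k V) = algebraMap k (End k V) 3 := by rw [map_ofNat]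
  rw [this, h3, map_zero]

/-- casts in characteristic 3 -/
theorem mod_three {a b : ℕ} (h : (a : k) = (b : k)) : a % 3 = b % 3 := by
  have key : ∀ c : ℕ, (c : k) = ((c % 3 : ℕ) : k) := by
    intro c
    conv_lhs => rw [← Nat.div_add_mod c 3]
    push_cast
    rw [h3, zero_mul, zero_add]
  rw [key a, key b] at h
  have ha := Nat.mod_lt a (show 0 < 3 by norm_num)
  have hb := Nat.mod_lt b (show 0 < 3 by norm_num)
  have h2 := two_ne_of3 h3
  have h1 : (1 : k) ≠ 0 := one_ne_zero
  clear key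
  generalize a % 3 = x at *
  generalize b % 3 = y at *
  have hx : x = 0 ∨ x = 1 ∨ x = 2 := by omega
  have hy : y = 0 ∨ y = 1 ∨ y = 2 := by omega
  rcases hx with rfl | rfl | rfl <;> rcases hy with rfl | rfl | rfl <;> first | rfl | exfalso
  · exact h1 (by push_cast at h; linear_combination -h)
  · exact h2 (by push_cast at h; linear_combination -h)
  · exact h1 (by push_cast at h; linear_combination h)
  · exact h1 (by push_cast at h; linear_combination -h)
  · exact h2 (by push_cast at h; linear_combination h)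
  · exact h1 (by push_cast at h; linear_combination h)

/-- the trace of an element of order 3 -/
theorem trace_of_cube {A : End k V} (hA : A ^ 3 = 1) : LinearMap.trace k V A = (finrank k V : k) := by
  have h1 : (A - 1) ^ 3 = 0 := by
    have : (A - 1) ^ 3 = A ^ 3 - 1 - 3 * (A ^ 2 - A) := by noncomm_ring
    rw [this, hA, three_end h3, sub_self, zero_mul, sub_zero]
  have h2 : IsNilpotent (A - 1) := ⟨3, h1⟩
  have h4 := (LinearMap.isNilpotent_trace_of_isNilpotent h2).eq_zero
  rw [map_sub, LinearMap.trace_one, sub_eq_zero] at h4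
  exact h4

/-- the trace of an element of order 6 -/
theorem trace_of_six {A : End k V} (hA : A ^ 6 = 1) : LinearMap.trace k V A = LinearMap.trace k V (A ^ 3) := by
  have h1 : (A - A ^ 3) ^ 3 = 0 := by
    have : (A - A ^ 3) ^ 3 = A ^ 3 - A ^ 6 * A ^ 3 - 3 * (A ^ 5 - A ^ 7) := by noncomm_ring
    rw [this, hA, three_end h3, one_mul, sub_self, zero_mul, sub_zero]
  have h2 : IsNilpotent (A - A ^ 3) := ⟨3, h1⟩
  have h4 := (LinearMap.isNilpotent_trace_of_isNilpotent h2).eq_zero
  rwa [map_sub, sub_eq_zero] at h4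

end char3

/-! ### the eigenvalues of `x` -/

theorem op_pow (w : List ℕ) (n : ℕ) : (op v R w) ^ n = op v R ((List.replicate n w).flatten) := by
  induction n with
  | zero => rw [pow_zero, List.replicate_zero]; exact (op_nil v R).symm
  | succ n ih => rw [pow_succ', ih, List.replicate_succ, List.flatten_cons, op_append]

theorem SatL.pow_eleven (h : SatL v) : (op v R [5]) ^ 11 = 1 := by
  rw [op_pow, ← op_nil v R]
  exact h.op_eq (by decide +kernel)

theorem SatL.pow_five (h : SatL v) : (op v R [6]) ^ 5 = 1 := by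
  rw [op_pow, ← op_nil v R]
  exact h.op_eq (by decide +kernel)

theorem SatL.d_mem (h : SatL v) {μ : k} {u : V} (hu : u ∈ End.eigenspace (op v R [5]) μ) :
    op v R [6] u ∈ End.eigenspace (op v R [5]) (μ ^ 3) := by
  rw [End.mem_eigenspace_iff] at hu ⊢
  have r0 : op v R [5, 6] = op v R [6, 5, 5, 5] := h.op_eq (by decide +kernel)
  rw [← Module.End.mul_apply, ← op_cons, r0, op_cons, op_cons v R 5 [5, 5], op_cons v R 5 [5]]
  simp only [Module.End.mul_apply, hu, map_smul, smul_smul]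
  congr 1
  ring

/-- multiplicities of the eigenvalues of `x` on a subspace invariant under `x` and `d` -/
theorem SatL.eigen (h : SatL v) (hζ : IsPrimitiveRoot ζ 11) (S : Submodule k V) (hS5 : ∀ u ∈ S, op v R [5] u ∈ S)
    (hS6 : ∀ u ∈ S, op v R [6] u ∈ S) :
    ∃ m a b : ℕ, (∀ c : ℕ, (c = 1 ∨ c = 3 ∨ c = 4 ∨ c = 5 ∨ c = 9) →
        finrank k (S ⊓ End.eigenspace (op v R [5]) (ζ ^ c) : Submodule k V) = a) ∧
      (∀ c : ℕ, (c = 2 ∨ c = 6 ∨ c = 7 ∨ c = 8 ∨ c = 10) →
        finrank k (S ⊓ End.eigenspace (op v R [5]) (ζ ^ c) : Submodule k V) = b) ∧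
      finrank k (S ⊓ End.eigenspace (op v R [5]) 1 : Submodule k V) = m ∧ finrank k S = m + 5 * a + 5 * b := by
  have h11 := hζ.pow_eq_one
  have hX := h.pow_eleven (R := R)
  have step : ∀ b c : ℕ, (3 * b) % 11 = c % 11 → finrank k (S ⊓ End.eigenspace (op v R [5]) (ζ ^ b) : Submodule k V) ≤
      finrank k (S ⊓ End.eigenspace (op v R [5]) (ζ ^ c) : Submodule k V) := by
    intro b c h1
    have e1 : (ζ ^ b) ^ 3 = ζ ^ c := by
      rw [← pow_mul, mul_comm b 3, pow_eq_pow_mod _ h11, h1, ← pow_eq_pow_mod _ h11]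
    refine finrank_le_of_mapsTo (op_injective v R [6]) ?_
    intro u hu
    rw [← e1]
    obtain ⟨hu1, hu2⟩ := Submodule.mem_inf.1 hu
    exact Submodule.mem_inf.2 ⟨hS6 u hu1, h.d_mem hu2⟩
  have a1 := step 1 3 rfl
  have a2 := step 3 9 rfl
  have a3 := step 9 5 rfl
  have a4 := step 5 4 rfl
  have a5 := step 4 1 rfl
  have b1 := step 2 6 rfl
  have b2 := step 6 7 rfl
  have b3 := step 7 10 rfl
  have b4 := step 10 8 rfl
  have b5 := step 8 2 rfl
  have E1 : ∀ c : ℕ, (c = 1 ∨ c = 3 ∨ c = 4 ∨ c = 5 ∨ c = 9) →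
      finrank k (S ⊓ End.eigenspace (op v R [5]) (ζ ^ c) : Submodule k V) =
      finrank k (S ⊓ End.eigenspace (op v R [5]) (ζ ^ 1) : Submodule k V) := by
    rintro c (rfl | rfl | rfl | rfl | rfl) <;> (clear * - a1 a2 a3 a4 a5; omega)
  have E2 : ∀ c : ℕ, (c = 2 ∨ c = 6 ∨ c = 7 ∨ c = 8 ∨ c = 10) →
      finrank k (S ⊓ End.eigenspace (op v R [5]) (ζ ^ c) : Submodule k V) =
      finrank k (S ⊓ End.eigenspace (op v R [5]) (ζ ^ 2) : Submodule k V) := by
    rintro c (rfl | rfl | rfl | rfl | rfl) <;> (clear * - b1 b2 b3 b4 b5; omega)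
  have E0 : finrank k (S ⊓ End.eigenspace (op v R [5]) (ζ ^ 0) : Submodule k V) =
      finrank k (S ⊓ End.eigenspace (op v R [5]) 1 : Submodule k V) := by
    rw [pow_zero]
  refine ⟨_, _, _, E1, E2, rfl, ?_⟩
  rw [finrank_eq_sum hζ (by norm_num) hX S hS5]
  rw [Fin.sum_univ_eq_sum_range (fun b => finrank k (S ⊓ End.eigenspace (op v R [5]) (ζ ^ b) : Submodule k V)) 11]
  simp only [Finset.sum_range_succ, Finset.sum_range_zero, zero_add]
  rw [E0, E1 3 (by norm_num), E1 4 (by norm_num), E1 5 (by norm_num), E1 9 (by norm_num), E2 6 (by norm_num),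
    E2 7 (by norm_num), E2 8 (by norm_num), E2 10 (by norm_num)]
  ring

theorem SatL.trace_five (h : SatL v) (hζ : IsPrimitiveRoot ζ 11) {m a b : ℕ}
    (ha : ∀ c : ℕ, (c = 1 ∨ c = 3 ∨ c = 4 ∨ c = 5 ∨ c = 9) → finrank k (End.eigenspace (op v R [5]) (ζ ^ c)) = a)
    (hb : ∀ c : ℕ, (c = 2 ∨ c = 6 ∨ c = 7 ∨ c = 8 ∨ c = 10) → finrank k (End.eigenspace (op v R [5]) (ζ ^ c)) = b)
    (hm : finrank k (End.eigenspace (op v R [5]) 1) = m) :
    tw v R [5] = m + a * (ζ + ζ ^ 3 + ζ ^ 4 + ζ ^ 5 + ζ ^ 9) + b * (ζ ^ 2 + ζ ^ 6 + ζ ^ 7 + ζ ^ 8 + ζ ^ 10) ∧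
      tw v R [5, 5, 5, 5, 5, 5, 5, 5, 5, 5] =
        m + b * (ζ + ζ ^ 3 + ζ ^ 4 + ζ ^ 5 + ζ ^ 9) + a * (ζ ^ 2 + ζ ^ 6 + ζ ^ 7 + ζ ^ 8 + ζ ^ 10) := by
  have h11 := hζ.pow_eq_one
  have hX := h.pow_eleven (R := R)
  have E0 : finrank k (End.eigenspace (op v R [5]) (ζ ^ 0)) = m := by
    rw [pow_zero, hm]
  constructor
  · have h1 := trace_eq_sum hζ (by norm_num) hX 1
    rw [pow_one] at h1
    rw [tw, h1, Fin.sum_univ_eq_sum_range (fun b => ζ ^ (b * 1) * (finrank k (End.eigenspace (op v R [5]) (ζ ^ b)) : k)) 11]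
    simp only [Finset.sum_range_succ, Finset.sum_range_zero, zero_add]
    rw [E0, ha 1 (by norm_num), ha 3 (by norm_num), ha 4 (by norm_num), ha 5 (by norm_num), ha 9 (by norm_num),
      hb 2 (by norm_num), hb 6 (by norm_num), hb 7 (by norm_num), hb 8 (by norm_num), hb 10 (by norm_num)]
    ring
  · have h1 := trace_eq_sum hζ (by norm_num) hX 10
    have e : op v R [5, 5, 5, 5, 5, 5, 5, 5, 5, 5] = (op v R [5]) ^ 10 := op_replicate 10 5
    rw [tw, e, h1,
      Fin.sum_univ_eq_sum_range (fun b => ζ ^ (b * 10) * (finrank k (End.eigenspace (op v R [5]) (ζ ^ b)) : k)) 11]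
    simp only [Finset.sum_range_succ, Finset.sum_range_zero, zero_add]
    rw [E0, ha 1 (by norm_num), ha 3 (by norm_num), ha 4 (by norm_num), ha 5 (by norm_num), ha 9 (by norm_num),
      hb 2 (by norm_num), hb 6 (by norm_num), hb 7 (by norm_num), hb 8 (by norm_num), hb 10 (by norm_num)]
    have q : ∀ m : ℕ, ζ ^ m = ζ ^ (m % 11) := fun m => pow_eq_pow_mod m h11
    rw [q (1 * 10), q (2 * 10), q (3 * 10), q (4 * 10), q (5 * 10), q (6 * 10), q (7 * 10), q (8 * 10), q (9 * 10),
      q (10 * 10), q (0 * 10)]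
    norm_num only [_root_.pow_zero, _root_.one_mul, _root_.pow_one]
    ring

theorem SatL.trace_zero (h : SatL v) (hζ : IsPrimitiveRoot ζ 11) {b : ℕ} (hb : b ≤ 11)
    (h0 : finrank k (End.eigenspace (op v R [5]) (ζ ^ b)) = 0) (w : List ℕ) :
    ∑ i ∈ Finset.range 11, ζ ^ (((11 - b) * i) % 11) * tw v R (List.replicate i 5 ++ w) = 0 := by
  have h11 := hζ.pow_eq_one
  have hX := h.pow_eleven (R := R)
  have hζ0 : ζ ≠ 0 := hζ.ne_zero (by norm_num)
  have h11k : ((11 : ℕ) : k) ≠ 0 := (hζ.neZero').out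
  have hP := isProj_sp h11k hζ0 h11 hX b
  have hbot : End.eigenspace (op v R [5]) (ζ ^ b) = ⊥ := Submodule.finrank_eq_zero.1 h0
  have hz : sp 11 ζ (op v R [5]) b = 0 := by
    ext u
    have h1 := hP.map_mem u
    rw [hbot, Submodule.mem_bot] at h1
    exact h1
  have h1 : LinearMap.trace k V (sp 11 ζ (op v R [5]) b * op v R w) = 0 := by rw [hz, zero_mul, map_zero]
  unfold sp av at h1
  rw [smul_mul_assoc, map_smul, smul_eq_mul, Finset.sum_mul, map_sum] at h1
  have h2 := (mul_eq_zero.1 h1).resolve_left (inv_ne_zero h11k)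
  rw [← h2]
  refine Finset.sum_congr rfl fun i _ => ?_
  rw [smul_pow, smul_mul_assoc, map_smul, smul_eq_mul, inv_pow_red h11 hb, tw, op_append, op_replicate]

theorem SatL.trace_w (h : SatL v) (hζ : IsPrimitiveRoot ζ 11) {b : ℕ} (hb : b ≤ 11)
    (h0 : finrank k (End.eigenspace (op v R [5]) (ζ ^ b)) = 0) :
    tw v R [7] + ζ ^ (((11 - b) * 1) % 11) * tw v R [5, 7] +
      ζ ^ (((11 - b) * 2) % 11) * tw v R [5, 5, 5, 5, 5, 5, 5, 5, 5, 5] +
      ζ ^ (((11 - b) * 3) % 11) * tw v R [6] + ζ ^ (((11 - b) * 4) % 11) * tw v R [6, 6] +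
      ζ ^ (((11 - b) * 5) % 11) * tw v R [5, 5, 5, 5, 5, 7] + ζ ^ (((11 - b) * 6) % 11) * tw v R [5, 5, 5, 5, 5, 7] +
      ζ ^ (((11 - b) * 7) % 11) * tw v R [6, 6] + ζ ^ (((11 - b) * 8) % 11) * tw v R [6] +
      ζ ^ (((11 - b) * 9) % 11) * tw v R [5] + ζ ^ (((11 - b) * 10) % 11) * tw v R [5, 7] = 0 := by
  have h1 := h.trace_zero hζ hb h0 [7]
  simp only [Finset.sum_range_succ, Finset.sum_range_zero, zero_add, List.replicate_succ, List.replicate_zero,
    List.cons_append, List.nil_append, h.t_557, h.t_5557, h.t_55557, h.t_5555557,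
    h.t_55555557, h.t_555555557, h.t_5555555557, h.t_55555555557] at h1
  rw [Nat.mul_zero, Nat.zero_mod, pow_zero, one_mul] at h1
  exact h1

/-- trace of a power of `d` in terms of the fixed space of `x` -/
theorem SatL.trace_d (h : SatL v) (h11 : ((11 : ℕ) : k) ≠ 0) (j : ℕ) (hj : j = 1 ∨ j = 2 ∨ j = 3 ∨ j = 4) :
    LinearMap.trace k V (op v R (List.replicate j 6) * av 11 (op v R [5])) = tw v R (List.replicate j 6) := by
  have h0 : LinearMap.trace k V (op v R (List.replicate j 6) * av 11 (op v R [5])) =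
      ((11 : ℕ) : k)⁻¹ * ∑ i ∈ Finset.range 11, tw v R (List.replicate j 6 ++ List.replicate i 5) := by
    rw [av, mul_smul_comm, map_smul, smul_eq_mul, Finset.mul_sum, map_sum]
    congr 1
    refine Finset.sum_congr rfl fun i _ => ?_
    rw [tw, op_append, op_replicate i 5]
  have h1 : ∀ i ∈ Finset.range 11, tw v R (List.replicate j 6 ++ List.replicate i 5) = tw v R (List.replicate j 6) := by
    intro i hi
    rw [Finset.mem_range] at hi
    rcases hj with rfl | rfl | rfl | rfl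
    · interval_cases i
      · rfl
      · exact h.t_65
      · exact h.t_655
      · exact h.t_6555
      · exact h.t_65555
      · exact h.t_655555
      · exact h.t_6555555
      · exact h.t_65555555
      · exact h.t_655555555
      · exact h.t_6555555555
      · exact h.t_65555555555
    · interval_cases i
      · rfl
      · exact h.t_665
      · exact h.t_6655
      · exact h.t_66555
      · exact h.t_665555
      · exact h.t_6655555
      · exact h.t_66555555
      · exact h.t_665555555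
      · exact h.t_6655555555
      · exact h.t_66555555555
      · exact h.t_665555555555
    · interval_cases i
      · rfl
      · exact h.t_6665
      · exact h.t_66655
      · exact h.t_666555
      · exact h.t_6665555
      · exact h.t_66655555
      · exact h.t_666555555
      · exact h.t_6665555555
      · exact h.t_66655555555
      · exact h.t_666555555555
      · exact h.t_6665555555555
    · interval_cases i
      · rfl
      · exact h.t_66665
      · exact h.t_666655
      · exact h.t_6666555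
      · exact h.t_66665555
      · exact h.t_666655555
      · exact h.t_6666555555
      · exact h.t_66665555555
      · exact h.t_666655555555
      · exact h.t_6666555555555
      · exact h.t_66665555555555
  rw [h0, Finset.sum_congr rfl h1, Finset.sum_const, Finset.card_range, nsmul_eq_mul, ← mul_assoc,
    inv_mul_cancel₀ h11, one_mul]

/-- `w` commutes with the average over `⟨d⟩` -/
theorem SatL.w_av (h : SatL v) (h5 : ((5 : ℕ) : k) ≠ 0) :
    op v R [7] * av 5 (op v R [6]) = av 5 (op v R [6]) * op v R [7] := by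
  have r1 : op v R [7] * op v R [6] = op v R [6, 6, 6, 6] * op v R [7] := by
    rw [← op_append, ← op_append]
    exact h.op_eq (by decide +kernel)
  have r2 : op v R [6] * op v R [7] = op v R [7] * op v R [6, 6, 6, 6] := by
    rw [← op_append, ← op_append]
    exact h.op_eq (by decide +kernel)
  have e4 : op v R [6, 6, 6, 6] = (op v R [6]) ^ 4 := op_replicate 4 6
  have b1 := pow_mul_av (h.pow_five (R := R)) 4
  have b2 : av 5 (op v R [6]) * (op v R [6]) ^ 4 = av 5 (op v R [6]) := by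
    rw [← ((comm_av (Commute.refl (op v R [6]))).pow_left 4).eq, b1]
  have a1 : av 5 (op v R [6]) * (op v R [7] * av 5 (op v R [6])) = op v R [7] * av 5 (op v R [6]) := by
    apply av_mul_of h5
    rw [← mul_assoc, r2, mul_assoc, e4, b1]
  have a2 : (av 5 (op v R [6]) * op v R [7]) * av 5 (op v R [6]) = av 5 (op v R [6]) * op v R [7] := by
    apply mul_av_of h5
    rw [mul_assoc, r1, ← mul_assoc, e4, b2]
  rw [← a1, ← mul_assoc, a2]

theorem SatL.trace_wd (h : SatL v) (h5 : ((5 : ℕ) : k) ≠ 0) :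
    LinearMap.trace k V (op v R [7] * av 5 (op v R [6])) = tw v R [7] := by
  have h0 : LinearMap.trace k V (op v R [7] * av 5 (op v R [6])) =
      ((5 : ℕ) : k)⁻¹ * ∑ i ∈ Finset.range 5, tw v R ([7] ++ List.replicate i 6) := by
    rw [av, mul_smul_comm, map_smul, smul_eq_mul, Finset.mul_sum, map_sum]
    congr 1
    refine Finset.sum_congr rfl fun i _ => ?_
    rw [tw, op_append, op_replicate i 6]
  have h1 : ∀ i ∈ Finset.range 5, tw v R ([7] ++ List.replicate i 6) = tw v R [7] := by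
    intro i hi
    rw [Finset.mem_range] at hi
    interval_cases i
    · rfl
    · exact h.t_76
    · exact h.t_766
    · exact h.t_7666
    · exact h.t_76666
  rw [h0, Finset.sum_congr rfl h1, Finset.sum_const, Finset.card_range, nsmul_eq_mul, ← mul_assoc,
    inv_mul_cancel₀ h5, one_mul]

/-- **Lemma F.** A representation of `L₂(11)` of degree 6 in characteristic 3 in which only one class of non-trivial
characters of `⟨x⟩` occurs and `d` centralizes the fixed vector of `x`, fixes this vector. -/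
theorem SatL.lemF (h : SatL v) (h3 : (3 : k) = 0) (hζ : IsPrimitiveRoot ζ 11) {ξ : k} (hξ : IsPrimitiveRoot ξ 5)
    (hn : finrank k V = 6)
    (h0 : ∀ c : ℕ, (c = 2 ∨ c = 6 ∨ c = 7 ∨ c = 8 ∨ c = 10) → finrank k (End.eigenspace (op v R [5]) (ζ ^ c)) = 0)
    (hm : finrank k (End.eigenspace (op v R [5]) 1) = 1) (hd : ∀ u, op v R [5] u = u → op v R [6] u = u) :
    ∀ u, op v R [5] u = u → op v R [7] u = u := by
  have h5k := five_ne_of3 h3
  have h11k := eleven_ne_of3 h3
  have h2k := two_ne_of3 h3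
  have h11 := hζ.pow_eq_one
  -- traces
  obtain ⟨m, a, b, ha, hb, hm', hdim⟩ := h.eigen (R := R) hζ ⊤ (fun _ _ => trivial) (fun _ _ => trivial)
  have top' : ∀ c : k, finrank k (⊤ ⊓ End.eigenspace (op v R [5]) c : Submodule k V) =
      finrank k (End.eigenspace (op v R [5]) c) := fun c => by rw [top_inf_eq]
  simp only [top'] at ha hb hm'
  rw [finrank_top] at hdim
  have hb0 : b = 0 := by rw [← hb 2 (by norm_num), h0 2 (by norm_num)]
  have hm1 : m = 1 := by rw [← hm', hm]
  have ha1 : a = 1 := by omega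
  subst hb0 hm1 ha1
  obtain ⟨T1, T2⟩ := h.trace_five hζ ha hb hm'
  have TD : ∀ j, (j = 1 ∨ j = 2 ∨ j = 3 ∨ j = 4) → tw v R (List.replicate j 6) = 1 := by
    intro j hj
    rw [← h.trace_d h11k j hj]
    have hP := isProj_av h11k (h.pow_eleven (R := R))
    have e1 : op v R (List.replicate j 6) * av 11 (op v R [5]) = av 11 (op v R [5]) := by
      ext u
      rw [Module.End.mul_apply]
      have e2 := mem_fix.1 (hP.map_mem u)
      generalize av 11 (op v R [5]) u = y at *
      rw [op_replicate]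
      clear hj
      induction j with
      | zero => rfl
      | succ j ih => rw [pow_succ, Module.End.mul_apply, hd _ e2, ih]
    rw [e1, trace_isProj hP, fix, hm, Nat.cast_one]
  have T57 : tw v R [5, 7] = 0 := by
    have e1 : (op v R [5, 7]) ^ 3 = 1 := by
      rw [op_pow, ← op_nil v R]
      exact h.op_eq (by decide +kernel)
    rw [tw, trace_of_cube h3 e1, hn]
    push_cast
    linear_combination 2 * h3
  have T6 : tw v R [5, 5, 5, 5, 5, 7] = tw v R [7] := by
    have e1 : (op v R [5, 5, 5, 5, 5, 7]) ^ 6 = 1 := by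
      rw [op_pow, ← op_nil v R]
      exact h.op_eq (by decide +kernel)
    rw [tw, trace_of_six h3 e1, op_pow]
    exact h.t_555557555557555557
  have D1 : tw v R [6] = 1 := TD 1 (by norm_num)
  have D2 : tw v R [6, 6] = 1 := TD 2 (by norm_num)
  have D3 : tw v R [6, 6, 6] = 1 := TD 3 (by norm_num)
  have D4 : tw v R [6, 6, 6, 6] = 1 := TD 4 (by norm_num)
  have S2 := h.trace_w hζ (by norm_num) (h0 2 (by norm_num))
  have S6 := h.trace_w hζ (by norm_num) (h0 6 (by norm_num))
  have S7 := h.trace_w hζ (by norm_num) (h0 7 (by norm_num))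
  have S8 := h.trace_w hζ (by norm_num) (h0 8 (by norm_num))
  have S10 := h.trace_w hζ (by norm_num) (h0 10 (by norm_num))
  rw [T57, T6, D1, D2, T1, T2] at S2 S6 S7 S8 S10
  norm_num only [_root_.MulZeroClass.mul_zero, _root_.add_zero, _root_.MulZeroClass.zero_mul, _root_.one_mul, _root_.mul_one, _root_.pow_one] at S2 S6 S7 S8 S10
  have hs := sum_zero hζ
  have TW : tw v R [7] = 2 := by
    have key : 4 * tw v R [7] = 8 := by
      generalize tw v R [7] = TW at *
      linear_combination S2 + S6 + S7 + S8 + S10 - ((5 : k) * ζ ^ 1 + 4 * ζ ^ 2 + 5 * ζ ^ 3 + 2 * ζ ^ 4 + 3 * ζ ^ 5 +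
        2 * ζ ^ 6 + 3 * ζ ^ 7 + ζ ^ 9) * h11 - (8 + TW) * hs
    linear_combination key - (tw v R [7] - 2) * h3
  -- the fixed space of `d`
  have P5 := h.pow_five (R := R)
  have hPd := isProj_av h5k P5
  have td : ∀ j, (j = 1 ∨ j = 2 ∨ j = 3 ∨ j = 4) → LinearMap.trace k V (op v R [6] ^ j) = 1 := by
    intro j hj
    have h1 := TD j hj
    rw [tw, op_replicate] at h1
    exact h1
  have hξ5 := hξ.pow_eq_one
  have hξ0 : ξ ≠ 0 := hξ.ne_zero (by norm_num)
  have hξs : 1 + ξ + ξ ^ 2 + ξ ^ 3 + ξ ^ 4 = 0 := by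
    have h5 : (ξ - 1) * (1 + ξ + ξ ^ 2 + ξ ^ 3 + ξ ^ 4) = 0 := by
      linear_combination hξ5
    exact (mul_eq_zero.1 h5).resolve_left (sub_ne_zero.2 (hξ.ne_one (by norm_num)))
  have ej : ∀ c : ℕ, c < 5 → 0 < c → 1 ≤ finrank k (End.eigenspace (op v R [6]) (ξ ^ c)) := by
    intro c hc hc0
    have hP := isProj_sp h5k hξ0 hξ5 P5 c
    have h1 := trace_isProj hP
    have h2 : LinearMap.trace k V (sp 5 ξ (op v R [6]) c) = 1 := by
      unfold sp av
      rw [map_smul, smul_eq_mul, map_sum]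
      have e0 : ∀ i : ℕ, LinearMap.trace k V (((ξ ^ c)⁻¹ • op v R [6]) ^ i) =
          (ξ ^ c)⁻¹ ^ i * LinearMap.trace k V (op v R [6] ^ i) := by
        intro i
        rw [smul_pow, map_smul, smul_eq_mul]
      simp only [e0, Finset.sum_range_succ, Finset.sum_range_zero, zero_add, td 1 (by norm_num), td 2 (by norm_num),
        td 3 (by norm_num), td 4 (by norm_num), pow_zero, LinearMap.trace_one, one_mul, mul_one, hn]
      have e1 : (ξ ^ c)⁻¹ ≠ 1 := by
        intro e
        have e2 : ξ ^ c = 1 := by rw [← inv_inv (ξ ^ c), e, inv_one]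
        exact (hξ.pow_ne_one_of_pos_of_lt (by omega) hc) e2
      have e3 : ((ξ ^ c)⁻¹) ^ 5 = 1 := by
        rw [inv_pow, ← pow_mul, mul_comm, pow_mul, hξ5, one_pow, inv_one]
      generalize (ξ ^ c)⁻¹ = η at *
      have e4 : 1 + η + η ^ 2 + η ^ 3 + η ^ 4 = 0 := by
        have h5 : (η - 1) * (1 + η + η ^ 2 + η ^ 3 + η ^ 4) = 0 := by
          linear_combination e3
        exact (mul_eq_zero.1 h5).resolve_left (sub_ne_zero.2 e1)
      rw [inv_mul_eq_iff_eq_mul₀ h5k]
      push_cast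
      linear_combination e4
    rw [h2] at h1
    by_contra hcon
    have h3 : finrank k (End.eigenspace (op v R [6]) (ξ ^ c)) = 0 := by omega
    rw [h3, Nat.cast_zero] at h1
    exact one_ne_zero h1
  have e0 : finrank k (fix (op v R [6])) % 3 = 2 % 3 := by
    apply mod_three h3
    rw [← trace_isProj hPd, av, map_smul, smul_eq_mul, map_sum]
    simp only [Finset.sum_range_succ, Finset.sum_range_zero, zero_add, td 1 (by norm_num), td 2 (by norm_num),
        td 3 (by norm_num), td 4 (by norm_num), pow_zero, LinearMap.trace_one, hn]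
    rw [inv_mul_eq_iff_eq_mul₀ h5k]
    push_cast
    ring
  have esum := finrank_top_eq_sum hξ (by norm_num) P5
  rw [Fin.sum_univ_eq_sum_range (fun b => finrank k (End.eigenspace (op v R [6]) (ξ ^ b))) 5] at esum
  simp only [Finset.sum_range_succ, Finset.sum_range_zero, zero_add] at esum
  rw [pow_zero, hn] at esum
  have f1 := ej 1 (by norm_num) (by norm_num)
  have f2 := ej 2 (by norm_num) (by norm_num)
  have f3 := ej 3 (by norm_num) (by norm_num)
  have f4 := ej 4 (by norm_num) (by norm_num)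
  have e2 : finrank k (fix (op v R [6])) = 2 := by
    have : finrank k (fix (op v R [6])) = finrank k (End.eigenspace (op v R [6]) 1) := rfl
    omega
  -- the involution `w` on it
  have ZZ : op v R [7] * (op v R [7] * av 5 (op v R [6])) = av 5 (op v R [6]) := by
    have e1 : op v R [7] * op v R [7] = 1 := by
      rw [← op_append, ← op_nil v R]
      exact h.op_eq (by decide +kernel)
    rw [← mul_assoc, e1, one_mul]
  obtain ⟨g1, g2⟩ := two_dims h2k hPd (h.w_av h5k) ZZ
  rw [h.trace_wd h5k, TW] at g2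
  generalize hA : finrank k (fix (op v R [6]) ⊓ End.eigenspace (op v R [7]) 1 : Submodule k V) = A at *
  generalize hB : finrank k (fix (op v R [6]) ⊓ End.eigenspace (op v R [7]) (-1) : Submodule k V) = B at *
  have g3 : (A : k) = ((2 + B : ℕ) : k) := by push_cast; linear_combination -g2
  have g4 := mod_three h3 g3
  have g5 : A = 2 := by (clear * - e2 g1 g4; omega)
  have g6 : fix (op v R [6]) ≤ End.eigenspace (op v R [7]) 1 := le_of_finrank (by rw [hA, g5, e2])
  intro u hu
  have g7 := g6 (mem_fix.2 (hd u hu))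
  rw [End.mem_eigenspace_iff, one_smul] at g7
  exact g7

end Cfsg.Agent.H6.M11
end
end

-- part: H6/M11/Main3
section
prune_inst 0x220000000000120200000000000100000000000000040008400000000020000020040000000c8040080000001000000000000000000000000100000000000001000000000006000000000000000000000000000000000000000000000000000
set_option linter.all false
open scoped Cfsg.Agent.FastGrp

-- part: H6/M11/Orb12
section
/-!
# Orbits of 12 vectors, characteristic 3 (helper6)
-/

set_option autoImplicit false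
set_option linter.unusedSectionVars false
set_option linter.unusedVariables false
set_option maxRecDepth 100000

namespace Cfsg.Agent.H6.M11

open Module LinearMap

section orb

variable {k : Type*} [Field k] {V : Type*} [AddCommGroup V] [Module k V]

/-- the span of an orbit -/
def spanO (X : End k V) (x0 u : V) : Submodule k V := Submodule.span k (insert x0 (Set.range fun i : ℕ => (X ^ i) u))

/-- an orbit of 12 vectors -/
structure Twelve (X T : End k V) (x0 u : V) (π : ℕ → ℕ) : Prop where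
  pow : X ^ 11 = 1
  fix : X x0 = x0
  Tx : T x0 = u
  Tu : T u = x0
  Ti : ∀ i, 1 ≤ i → i ≤ 10 → T ((X ^ i) u) = (X ^ (π i)) u
  perm : (Finset.Icc 1 10).image π = Finset.Icc 1 10

variable {X T : End k V} {x0 u : V} {π : ℕ → ℕ}

theorem x0_mem : x0 ∈ spanO X x0 u := Submodule.subset_span (Set.mem_insert _ _)

theorem u_mem (i : ℕ) : (X ^ i) u ∈ spanO X x0 u := Submodule.subset_span (Set.mem_insert_of_mem _ ⟨i, rfl⟩)

/-- invariance of the span -/
theorem map_mem_spanO {A : End k V} (h0 : A x0 ∈ spanO X x0 u) (h1 : ∀ i : ℕ, A ((X ^ i) u) ∈ spanO X x0 u) {y : V}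
    (hy : y ∈ spanO X x0 u) : A y ∈ spanO X x0 u := by
  unfold spanO at hy
  induction hy using Submodule.span_induction with
  | mem y hy =>
    rcases hy with rfl | ⟨i, rfl⟩
    · exact h0
    · exact h1 i
  | zero => rw [map_zero]; exact Submodule.zero_mem _
  | add a b _ _ ha hb => rw [map_add]; exact Submodule.add_mem _ ha hb
  | smul c a _ ha => rw [map_smul]; exact Submodule.smul_mem _ _ ha

theorem X_mem (hf : X x0 = x0) {y : V} (hy : y ∈ spanO X x0 u) : X y ∈ spanO X x0 u := by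
  refine map_mem_spanO ?_ ?_ hy
  · rw [hf]; exact x0_mem
  · intro i
    rw [← Module.End.mul_apply, ← pow_succ']
    exact u_mem _

theorem pow_mod (hX : X ^ 11 = 1) (i : ℕ) : X ^ i = X ^ (i % 11) := by
  conv_lhs => rw [← Nat.div_add_mod i 11, pow_add, pow_mul, hX, one_pow, one_mul]

theorem map_mem_spanO' (hX : X ^ 11 = 1) {A : End k V} (h0 : A x0 ∈ spanO X x0 u) (hu : A u ∈ spanO X x0 u)
    (h1 : ∀ i : ℕ, 1 ≤ i → i ≤ 10 → A ((X ^ i) u) ∈ spanO X x0 u) {y : V}
    (hy : y ∈ spanO X x0 u) : A y ∈ spanO X x0 u := by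
  refine map_mem_spanO h0 (fun i => ?_) hy
  rw [pow_mod hX]
  have h2 : i % 11 < 11 := Nat.mod_lt _ (by norm_num)
  rcases Nat.eq_zero_or_pos (i % 11) with h3 | h3
  · rw [h3, pow_zero]; exact hu
  · exact h1 _ h3 (by omega)

namespace Twelve

theorem T_mem (h : Twelve X T x0 u π) {y : V} (hy : y ∈ spanO X x0 u) : T y ∈ spanO X x0 u := by
  refine map_mem_spanO' h.pow ?_ ?_ ?_ hy
  · rw [h.Tx]; exact u_mem 0
  · rw [h.Tu]; exact x0_mem
  · intro i hi hi'
    rw [h.Ti i hi hi']
    exact u_mem _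

theorem range_eq : Finset.range 11 = insert 0 (Finset.Icc 1 10) := by decide

theorem sum_range (f : ℕ → V) : ∑ i ∈ Finset.range 11, f i = f 0 + ∑ i ∈ Finset.Icc 1 10, f i := by
  rw [range_eq, Finset.sum_insert (by simp only [_root_.Finset.mem_Icc, _root_.nonpos_iff_eq_zero, _root_.one_ne_zero, _root_.zero_le, _root_.and_true, _root_.not_false_eq_true])]

/-- the sum of the orbit -/
def sumv (X : End k V) (x0 u : V) : V := x0 + (u + ∑ i ∈ Finset.Icc 1 10, (X ^ i) u)

theorem av_u (h11 : ((11 : ℕ) : k) ≠ 0) : u + ∑ i ∈ Finset.Icc 1 10, (X ^ i) u = ((11 : ℕ) : k) • av 11 X u := by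
  rw [av, LinearMap.smul_apply, LinearMap.sum_apply, smul_smul, mul_inv_cancel₀ h11, one_smul, sum_range, pow_zero]
  rfl

theorem X_sum (h : Twelve X T x0 u π) (h11 : ((11 : ℕ) : k) ≠ 0) : X (sumv X x0 u) = sumv X x0 u := by
  rw [sumv, av_u h11, map_add, h.fix, map_smul, av_apply_mem h.pow]

theorem T_sum (h : Twelve X T x0 u π) : T (sumv X x0 u) = sumv X x0 u := by
  have h1 : ∑ i ∈ Finset.Icc 1 10, T ((X ^ i) u) = ∑ i ∈ Finset.Icc 1 10, (X ^ i) u := by
    rw [Finset.sum_congr rfl fun i hi => h.Ti i (Finset.mem_Icc.1 hi).1 (Finset.mem_Icc.1 hi).2]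
    have hinj : Set.InjOn π (Finset.Icc 1 10 : Finset ℕ) := by
      apply Finset.card_image_iff.1
      rw [h.perm]
    conv_rhs => rw [← h.perm]
    rw [Finset.sum_image hinj]
  rw [sumv, map_add, map_add, map_sum, h.Tx, h.Tu, h1]
  abel

/-- the twelve lemma -/
theorem exists_dual (h : Twelve X T x0 u π) (h3 : (3 : k) = 0) (hx0 : x0 ≠ 0) (hs : sumv X x0 u = 0) :
    ∃ φ : V →ₗ[k] k, φ x0 = 1 ∧ (∀ y, φ (X y) = φ y) ∧ ∀ y ∈ spanO X x0 u, φ (T y) = φ y := by
  have h11 := eleven_ne_of3 h3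
  obtain ⟨φ1, hφ1⟩ : ∃ φ1 : Module.Dual k V, φ1 x0 ≠ 0 := by
    by_contra hc
    push Not at hc
    exact hx0 ((Module.forall_dual_apply_eq_zero_iff k x0).1 hc)
  have hav : av 11 X u = x0 := by
    rw [sumv, av_u h11] at hs
    have e : ((11 : ℕ) : k) = -1 := by push_cast; linear_combination 4 * h3
    rw [e, neg_one_smul, add_neg_eq_zero] at hs
    exact hs.symm
  let φ : V →ₗ[k] k := ((φ1 x0)⁻¹ • φ1) ∘ₗ av 11 X
  have e0 : φ x0 = 1 := by
    show (φ1 x0)⁻¹ * φ1 (av 11 X x0) = 1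
    rw [av_apply_of_fix h11 h.fix, inv_mul_cancel₀ hφ1]
  have eX : ∀ y, φ (X y) = φ y := by
    intro y
    show (φ1 x0)⁻¹ * φ1 (av 11 X (X y)) = (φ1 x0)⁻¹ * φ1 (av 11 X y)
    rw [← Module.End.mul_apply, av_mul_self_right h.pow]
  have eu : φ u = 1 := by
    show (φ1 x0)⁻¹ * φ1 (av 11 X u) = 1
    rw [hav, inv_mul_cancel₀ hφ1]
  have ei : ∀ i : ℕ, φ ((X ^ i) u) = 1 := by
    intro i
    induction i with
    | zero => exact eu
    | succ i ih => rw [pow_succ', Module.End.mul_apply, eX, ih]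
  refine ⟨φ, e0, eX, ?_⟩
  intro y hy
  unfold spanO at hy
  induction hy using Submodule.span_induction with
  | mem y hy =>
    rcases hy with rfl | ⟨i, rfl⟩
    · rw [h.Tx, eu, e0]
    · show φ (T ((X ^ i) u)) = φ ((X ^ i) u)
      rw [ei, pow_mod h.pow]
      have h2 : i % 11 < 11 := Nat.mod_lt _ (by norm_num)
      rcases Nat.eq_zero_or_pos (i % 11) with h3 | h3
      · rw [h3, pow_zero]
        show φ (T u) = 1
        rw [h.Tu, e0]
      · rw [h.Ti _ h3 (by omega), ei]
  | zero => rw [map_zero]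
  | add a b _ _ ha hb => rw [map_add, map_add, map_add, ha, hb]
  | smul c a _ ha => rw [map_smul, map_smul, map_smul, ha]

end Twelve

/-- the fixed vectors of `X` in the span -/
theorem finrank_fix_le [FiniteDimensional k V] (h11 : ((11 : ℕ) : k) ≠ 0) (hX : X ^ 11 = 1) (hf : X x0 = x0) :
    finrank k (spanO X x0 u ⊓ End.eigenspace X 1 : Submodule k V) ≤ 2 := by
  have h1 : (spanO X x0 u ⊓ End.eigenspace X 1 : Submodule k V) ≤ Submodule.span k {x0, av 11 X u} := by
    intro y hy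
    obtain ⟨hy1, hy2⟩ := Submodule.mem_inf.1 hy
    rw [End.mem_eigenspace_iff, one_smul] at hy2
    have h2 : ∀ z ∈ spanO X x0 u, av 11 X z ∈ Submodule.span k {x0, av 11 X u} := by
      intro z hz
      unfold spanO at hz
      induction hz using Submodule.span_induction with
      | mem z hz =>
        rcases hz with rfl | ⟨i, rfl⟩
        · rw [av_apply_of_fix h11 hf]; exact Submodule.subset_span (by simp)
        · show av 11 X ((X ^ i) u) ∈ _
          have h3 : av 11 X ((X ^ i) u) = av 11 X u := by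
            rw [← Module.End.mul_apply, ← ((comm_av (Commute.refl X)).pow_left i).eq, pow_mul_av hX]
          rw [h3]; exact Submodule.subset_span (by simp)
      | zero => rw [map_zero]; exact Submodule.zero_mem _
      | add a b _ _ ha hb => rw [map_add]; exact Submodule.add_mem _ ha hb
      | smul c a _ ha => rw [map_smul]; exact Submodule.smul_mem _ _ ha
    have h4 := h2 y hy1
    rwa [av_apply_of_fix h11 hy2] at h4
  refine (Submodule.finrank_mono h1).trans ?_
  classical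
  have h2 := finrank_span_finset_le_card (R := k) ({x0, av 11 X u} : Finset V)
  rw [Finset.coe_pair] at h2
  exact h2.trans Finset.card_le_two

end orb

end Cfsg.Agent.H6.M11
end

-- part: H6/M11/Irr3
section
/-!
# Irreducible representations of the Mathieu group of degree 11 in characteristic 3 (helper6)
-/

set_option autoImplicit false
set_option linter.unusedSectionVars false
set_option linter.unusedVariables false
set_option maxRecDepth 100000

namespace Cfsg.Agent.H6.M11

open Module LinearMap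

variable {G : Type*} [Group G] {v : ℕ → G} {k : Type*} [Field k] {V : Type*} [AddCommGroup V] [Module k V]
  [FiniteDimensional k V] {R : G →* End k V} {ζ ξ : k}

/-- invariant subspaces are trivial -/
def Irr (v : ℕ → G) (R : G →* End k V) : Prop :=
  ∀ S : Submodule k V, (∀ u ∈ S, op v R [5] u ∈ S) → (∀ u ∈ S, op v R [8] u ∈ S) → S = ⊥ ∨ S = ⊤

/-- the permutations -/
def pt (i : ℕ) : ℕ := [0, 2, 1, 5, 10, 3, 6, 7, 8, 9, 4].getD i 0
def pw (i : ℕ) : ℕ := [0, 10, 5, 7, 8, 2, 9, 3, 4, 6, 1].getD i 0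
def aw (i : ℕ) : ℕ := [0, 10, 9, 8, 7, 6, 5, 4, 3, 2, 1].getD i 0
def bw (i : ℕ) : ℕ := [0, 0, 1, 3, 2, 4, 4, 2, 3, 1, 0].getD i 0
def lt (i : ℕ) : List ℕ := [[],
  [5, 5, 5, 5, 6, 6, 7, 5, 5, 5, 5, 5, 5, 5, 5, 5, 5],
  [5, 6, 6, 7, 5, 5, 5, 5, 5, 5, 5],
  [5, 6, 6, 6, 6, 7, 5, 5, 5, 5, 5, 5, 5],
  [5, 5, 6, 6, 6, 6, 7, 5, 5, 5, 5, 5, 5],
  [5, 5, 5, 5, 6, 6, 6, 6, 7, 5, 5, 5, 5, 5, 5, 5, 5, 5, 5],
  [5, 5, 5, 5, 5, 7, 5, 5, 5, 5, 5, 5],
  [5, 5, 5, 5, 5, 5, 5, 6, 6, 6, 7, 5, 5, 5, 5],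
  [5, 6, 6, 6, 6, 7, 5, 5, 5, 5, 5, 5, 5, 5, 5, 5],
  [6, 6, 7],
  [5, 5, 5, 5, 5, 6, 6, 6, 6, 7, 5, 5, 5, 5, 5, 5, 5, 5, 5]].getD i []

theorem op_replicate' (i n : ℕ) : op v R (List.replicate n i) = (op v R [i]) ^ n := op_replicate n i

theorem SatL.bruhat (h : SatL v) (i : ℕ) (hi : 1 ≤ i) (hi' : i ≤ 10) :
    op v R [7] * ((op v R [5]) ^ i * op v R [7]) =
      (op v R [5]) ^ (pw i) * (op v R [7] * ((op v R [5]) ^ (aw i) * (op v R [6]) ^ (bw i))) := by
  have key : (([7] : List ℕ) ++ (List.replicate i 5 ++ [7]), (List.replicate (pw i) 5 ++ ([7] ++ (List.replicate (aw i) 5 ++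
      List.replicate (bw i) 6)))) ∈ baseLL := by
    interval_cases i <;> decide +kernel
  have h1 := h.op_eq (R := R) key
  simpa only [op_append, op_replicate'] using h1

theorem Sat.tt (h : Sat v) (i : ℕ) (hi : 1 ≤ i) (hi' : i ≤ 10) :
    op v R [8] * ((op v R [5]) ^ i * op v R [8]) = (op v R [5]) ^ (pt i) * (op v R [8] * op v R (lt i)) := by
  have key : (([8] : List ℕ) ++ (List.replicate i 5 ++ [8]), (List.replicate (pt i) 5 ++ ([8] ++ lt i))) ∈ baseL := by
    interval_cases i <;> decide +kernel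
  have h1 := h.op_eq (R := R) key
  simpa only [op_append, op_replicate'] using h1

theorem Sat.t_sq (h : Sat v) (u : V) : op v R [8] (op v R [8] u) = u := by
  rw [← Module.End.mul_apply, ← op_append, show op v R ([8] ++ [8]) = op v R [] from h.op_eq (by decide +kernel), op_nil]
  rfl

theorem SatL.w_sq (h : SatL v) (u : V) : op v R [7] (op v R [7] u) = u := by
  rw [← Module.End.mul_apply, ← op_append, show op v R ([7] ++ [7]) = op v R [] from h.op_eq (by decide +kernel), op_nil]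
  rfl

/-- words in letters fixing a vector -/
theorem op_fix {x0 : V} : ∀ (w : List ℕ), (∀ i ∈ w, op v R [i] x0 = x0) → op v R w x0 = x0 := by
  intro w
  induction w with
  | nil => intro _; rw [op_nil]; rfl
  | cons i w ih =>
    intro hw
    rw [op_cons, Module.End.mul_apply, ih fun j hj => hw j (List.mem_cons_of_mem _ hj), hw i List.mem_cons_self]

theorem lt_mem (i : ℕ) (hi : 1 ≤ i) (hi' : i ≤ 10) : ∀ j ∈ lt i, j = 5 ∨ j = 6 ∨ j = 7 := by
  interval_cases i <;> decide

theorem pt_perm : (Finset.Icc 1 10).image pt = Finset.Icc 1 10 := by decide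
theorem pw_perm : (Finset.Icc 1 10).image pw = Finset.Icc 1 10 := by decide

theorem pow_fix {X : End k V} {x0 : V} (h : X x0 = x0) (i : ℕ) : (X ^ i) x0 = x0 := by
  induction i with
  | zero => rfl
  | succ i ih => rw [pow_succ, Module.End.mul_apply, h, ih]

/-- the orbit under the group of degree 11 of a vector fixed by `L₂(11)` -/
theorem Sat.twelve_t (h : Sat v) {x0 : V} (f5 : op v R [5] x0 = x0) (f6 : op v R [6] x0 = x0)
    (f7 : op v R [7] x0 = x0) : Twelve (op v R [5]) (op v R [8]) x0 (op v R [8] x0) pt where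
  pow := h.toL.pow_eleven
  fix := f5
  Tx := rfl
  Tu := h.t_sq x0
  Ti := by
    intro i hi hi'
    have h1 := congrArg (fun f : End k V => f x0) (h.tt (R := R) i hi hi')
    simp only [Module.End.mul_apply] at h1
    rw [op_fix (lt i) (by
      intro j hj
      rcases lt_mem i hi hi' j hj with rfl | rfl | rfl
      · exact f5
      · exact f6
      · exact f7)] at h1
    exact h1
  perm := pt_perm

/-- the orbit under `L₂(11)` of a vector fixed by `x, d` -/
theorem SatL.twelve_w (h : SatL v) {x0 : V} (f5 : op v R [5] x0 = x0) (f6 : op v R [6] x0 = x0) :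
    Twelve (op v R [5]) (op v R [7]) x0 (op v R [7] x0) pw where
  pow := h.pow_eleven
  fix := f5
  Tx := rfl
  Tu := h.w_sq x0
  Ti := by
    intro i hi hi'
    have h1 := congrArg (fun f : End k V => f x0) (h.bruhat (R := R) i hi hi')
    simp only [Module.End.mul_apply] at h1
    rw [pow_fix f6, pow_fix f5] at h1
    exact h1
  perm := pw_perm

/-- a vector fixed by `x` and `t` -/
theorem zero_of_fix (irr : Irr v R) (hn : 2 ≤ finrank k V) {y : V} (f5 : op v R [5] y = y) (f8 : op v R [8] y = y) :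
    y = 0 := by
  by_contra hy
  have h1 : ∀ (A : End k V), A y = y → ∀ u ∈ Submodule.span k {y}, A u ∈ Submodule.span k {y} := by
    intro A hA u hu
    rw [Submodule.mem_span_singleton] at hu ⊢
    obtain ⟨c, rfl⟩ := hu
    exact ⟨c, by rw [map_smul, hA]⟩
  have h2 : finrank k (Submodule.span k {y}) = 1 := finrank_span_singleton hy
  rcases irr (Submodule.span k {y}) (h1 _ f5) (h1 _ f8) with h3 | h3
  · rw [h3, finrank_bot] at h2
    omega
  · rw [h3, finrank_top] at h2
    omega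

/-- `L₂(11)` has no fixed vectors -/
theorem Sat.no_fix (h : Sat v) (h3 : (3 : k) = 0) (irr : Irr v R) (hn : 2 ≤ finrank k V) {x0 : V}
    (f5 : op v R [5] x0 = x0) (f6 : op v R [6] x0 = x0) (f7 : op v R [7] x0 = x0) : x0 = 0 := by
  by_contra hx0
  have hT := h.twelve_t f5 f6 f7
  have hs := zero_of_fix irr hn (hT.X_sum (eleven_ne_of3 h3)) hT.T_sum
  obtain ⟨φ, e0, eX, eT⟩ := hT.exists_dual h3 hx0 hs
  have hU : spanO (op v R [5]) x0 (op v R [8] x0) = ⊤ := by
    refine (irr _ (fun u hu => X_mem f5 hu) (fun u hu => hT.T_mem hu)).resolve_left ?_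
    intro h1
    have h2 : x0 ∈ spanO (op v R [5]) x0 (op v R [8] x0) := x0_mem
    rw [h1, Submodule.mem_bot] at h2
    exact hx0 h2
  have hker : LinearMap.ker φ = ⊥ := by
    refine (irr (LinearMap.ker φ) (fun u hu => ?_) (fun u hu => ?_)).resolve_right ?_
    · rw [LinearMap.mem_ker] at hu ⊢
      rw [eX, hu]
    · rw [LinearMap.mem_ker] at hu ⊢
      rw [eT u (by rw [hU]; trivial), hu]
    · intro h1
      have h2 : x0 ∈ LinearMap.ker φ := by rw [h1]; trivial
      rw [LinearMap.mem_ker, e0] at h2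
      exact one_ne_zero h2
  have h4 := LinearMap.finrank_range_add_finrank_ker φ
  rw [hker, finrank_bot, add_zero] at h4
  have h5 : finrank k (LinearMap.range φ) ≤ 1 := (Submodule.finrank_le _).trans (by rw [Module.finrank_self])
  omega

end Cfsg.Agent.H6.M11
end

-- part: H6/M11/Dual3
section
/-!
# Dual representation and invariant subspaces of `L₂(11)` (helper6)
-/

set_option autoImplicit false
set_option linter.unusedSectionVars false
set_option linter.unusedVariables false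
set_option maxRecDepth 100000

namespace Cfsg.Agent.H6.M11

open Module LinearMap

variable {G : Type*} [Group G] {v : ℕ → G} {k : Type*} [Field k] {V : Type*} [AddCommGroup V] [Module k V]
  [FiniteDimensional k V] {R : G →* End k V} {ζ ξ : k}

/-- the dual representation -/
noncomputable def dl (R : G →* End k V) : G →* End k (Module.Dual k V) where
  toFun g := (R g⁻¹).dualMap
  map_one' := by rw [inv_one, map_one]; rfl
  map_mul' a b := by rw [mul_inv_rev, map_mul]; rfl

theorem dl_apply (g : G) (ψ : Module.Dual k V) (u : V) : dl R g ψ u = ψ (R g⁻¹ u) := rfl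

theorem comp_mem {S : Submodule k (Module.Dual k V)} {i m : ℕ} (hS : ∀ ψ ∈ S, op v ((dl R :)) [i] ψ ∈ S)
    (hp : (ev v [i]) ^ (m + 1) = 1) {ψ : Module.Dual k V} (hψ : ψ ∈ S) : ψ ∘ₗ op v R [i] ∈ S := by
  have h1 : ∀ n : ℕ, ((op v ((dl R :)) [i]) ^ n) ψ ∈ S := by
    intro n
    induction n with
    | zero => exact hψ
    | succ n ih => rw [pow_succ', Module.End.mul_apply]; exact hS _ ih
  have h2 : ((op v ((dl R :)) [i]) ^ m) ψ = ψ ∘ₗ op v R [i] := by
    unfold op
    rw [← map_pow]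
    ext u
    rw [dl_apply, LinearMap.comp_apply]
    have h3 : (ev v [i] ^ m)⁻¹ = ev v [i] := by
      rw [inv_eq_iff_mul_eq_one, ← pow_succ, hp]
    rw [h3]
  rw [← h2]
  exact h1 m

theorem Irr.dual (h : Sat v) (irr : Irr v R) : Irr v ((dl R :)) := by
  intro S h5 h8
  have e5 : (ev v [5]) ^ (10 + 1) = 1 := by
    have h1 : ev v [5, 5, 5, 5, 5, 5, 5, 5, 5, 5, 5] = ev v [] := h.base (by decide +kernel)
    rw [ev_nil] at h1
    rw [← h1]
    simp only [ev_cons, ev_nil, mul_one]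
    simp only [pow_succ, pow_zero, one_mul, mul_assoc]
  have e8 : (ev v [8]) ^ (1 + 1) = 1 := by
    have h1 : ev v [8, 8] = ev v [] := h.base (by decide +kernel)
    rw [ev_nil] at h1
    rw [← h1]
    simp only [ev_cons, ev_nil, mul_one]
    simp only [pow_succ, pow_zero, one_mul]
  have h1 := irr S.dualCoannihilator (fun u hu => by
    rw [Submodule.mem_dualCoannihilator] at hu ⊢
    intro φ hφ
    exact hu _ (comp_mem h5 e5 hφ)) (fun u hu => by
    rw [Submodule.mem_dualCoannihilator] at hu ⊢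
    intro φ hφ
    exact hu _ (comp_mem h8 e8 hφ))
  have h2 := Subspace.dualCoannihilator_dualAnnihilator_eq (W := S)
  rcases h1 with h1 | h1
  · right
    rw [← h2, h1, Submodule.dualAnnihilator_bot]
  · left
    rw [← h2, h1, Submodule.dualAnnihilator_top]

/-- no invariant functional of `L₂(11)` -/
theorem Sat.no_dual (h : Sat v) (h3 : (3 : k) = 0) (irr : Irr v R) (hn : 2 ≤ finrank k V) {ψ : Module.Dual k V}
    (f5 : ∀ u, ψ (op v R [5] u) = ψ u) (f6 : ∀ u, ψ (op v R [6] u) = ψ u) (f7 : ∀ u, ψ (op v R [7] u) = ψ u) :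
    ψ = 0 := by
  have key : ∀ i, (∀ u, ψ (op v R [i] u) = ψ u) → op v ((dl R :)) [i] ψ = ψ := by
    intro i hi
    ext u
    show ψ (R (ev v [i])⁻¹ u) = ψ u
    rw [← hi (R (ev v [i])⁻¹ u)]
    unfold op
    rw [← Module.End.mul_apply, ← map_mul, mul_inv_cancel, map_one]
    rfl
  refine h.no_fix h3 (irr.dual h) ?_ (key 5 f5) (key 6 f6) (key 7 f7)
  rw [Subspace.dual_finrank_eq]
  exact hn

/-- an invariant subspace of `L₂(11)` on which `x` is trivial -/
theorem Sat.bot_of (h : Sat v) (h3 : (3 : k) = 0) (irr : Irr v R) (hn : 2 ≤ finrank k V) {S : Submodule k V}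
    (i6 : ∀ u ∈ S, op v R [6] u ∈ S) (i7 : ∀ u ∈ S, op v R [7] u ∈ S) (hX : ∀ u ∈ S, op v R [5] u = u) : S = ⊥ := by
  have r1 : op v R [7] = op v R [5, 7, 5, 7, 5] := by
    have e1 : op v R [5, 7, 5, 7, 5, 7] = op v R [] := h.toL.op_eq (by decide +kernel)
    have e2 : op v R [7, 7] = op v R [] := h.toL.op_eq (by decide +kernel)
    calc op v R [7] = op v R [5, 7, 5, 7, 5, 7] * op v R [7] := by rw [e1, op_nil, one_mul]
      _ = op v R [5, 7, 5, 7, 5] * op v R [7, 7] := by rw [← op_append, ← op_append]; rfl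
      _ = op v R [5, 7, 5, 7, 5] := by rw [e2, op_nil, mul_one]
  have r2 : op v R [7, 5, 5, 7] = op v R [5, 5, 5, 5, 5, 7, 5, 5, 5, 5, 5, 5, 5, 5, 5, 6] :=
    h.toL.op_eq (by decide +kernel)
  have hW : ∀ u ∈ S, op v R [7] u = u := by
    intro u hu
    have h1 := congrArg (fun f : End k V => f u) r1
    simp only [op_cons v R 5 [7, 5, 7, 5], op_cons v R 7 [5, 7, 5], op_cons v R 5 [7, 5], op_cons v R 7 [5],
      Module.End.mul_apply] at h1
    rw [hX u hu, hX _ (i7 u hu), h.toL.w_sq, hX u hu] at h1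
    exact h1
  have hD : ∀ u ∈ S, op v R [6] u = u := by
    intro u hu
    have h1 := congrArg (fun f : End k V => f u) r2
    have e1 : ∀ y ∈ S, op v R [7, 5, 5, 7] y = y := fun y hy => op_fix _ (by
      intro j hj
      fin_cases hj
      · exact hW y hy
      · exact hX y hy
      · exact hX y hy
      · exact hW y hy)
    have e2 : ∀ y ∈ S, op v R [5, 5, 5, 5, 5, 7, 5, 5, 5, 5, 5, 5, 5, 5, 5] y = y := fun y hy => op_fix _ (by
      intro j hj
      have hj' : j = 5 ∨ j = 7 := by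
        fin_cases hj <;> simp
      rcases hj' with rfl | rfl
      · exact hX y hy
      · exact hW y hy)
    rw [e1 u hu, show ([5, 5, 5, 5, 5, 7, 5, 5, 5, 5, 5, 5, 5, 5, 5, 6] : List ℕ) =
      [5, 5, 5, 5, 5, 7, 5, 5, 5, 5, 5, 5, 5, 5, 5] ++ [6] from rfl, op_append, Module.End.mul_apply,
      e2 _ (i6 u hu)] at h1
    exact h1.symm
  rw [eq_bot_iff]
  intro u hu
  exact h.no_fix h3 irr hn (hX u hu) (hD u hu) (hW u hu)

/-- an invariant subspace of `L₂(11)` with `x` trivial on the quotient -/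
theorem Sat.top_of (h : Sat v) (h3 : (3 : k) = 0) (irr : Irr v R) (hn : 2 ≤ finrank k V) {S : Submodule k V}
    (i7 : ∀ u ∈ S, op v R [7] u ∈ S) (hX : ∀ u, op v R [5] u - u ∈ S) : S = ⊤ := by
  by_contra hS
  have r1 : op v R [7] = op v R [5, 7, 5, 7, 5] := by
    have e1 : op v R [5, 7, 5, 7, 5, 7] = op v R [] := h.toL.op_eq (by decide +kernel)
    have e2 : op v R [7, 7] = op v R [] := h.toL.op_eq (by decide +kernel)
    calc op v R [7] = op v R [5, 7, 5, 7, 5, 7] * op v R [7] := by rw [e1, op_nil, one_mul]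
      _ = op v R [5, 7, 5, 7, 5] * op v R [7, 7] := by rw [← op_append, ← op_append]; rfl
      _ = op v R [5, 7, 5, 7, 5] := by rw [e2, op_nil, mul_one]
  have r2 : op v R [7, 5, 5, 7] = op v R [5, 5, 5, 5, 5, 7, 5, 5, 5, 5, 5, 5, 5, 5, 5, 6] :=
    h.toL.op_eq (by decide +kernel)
  obtain ⟨ψ', hψ'⟩ : ∃ ψ' : Module.Dual k (V ⧸ S), ψ' ≠ 0 := by
    have hnt : Nontrivial (V ⧸ S) := Submodule.Quotient.nontrivial_iff.2 hS
    exact exists_ne 0
  let q := S.mkQ
  have qX : ∀ u, q (op v R [5] u) = q u := fun u => (Submodule.Quotient.eq S).2 (hX u)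
  have qc : ∀ a b, q a = q b → q (op v R [7] a) = q (op v R [7] b) := by
    intro a b hab
    refine (Submodule.Quotient.eq S).2 ?_
    rw [← map_sub]
    exact i7 _ ((Submodule.Quotient.eq S).1 hab)
  have qW : ∀ u, q (op v R [7] u) = q u := by
    intro u
    have h1 := congrArg (fun f : End k V => f u) r1
    simp only [op_cons v R 5 [7, 5, 7, 5], op_cons v R 7 [5, 7, 5], op_cons v R 5 [7, 5], op_cons v R 7 [5],
      Module.End.mul_apply] at h1
    rw [h1, qX, qc _ _ (qX _), h.toL.w_sq, qX]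
  have qD : ∀ u, q (op v R [6] u) = q u := by
    intro u
    have h1 := congrArg (fun f : End k V => q (f u)) r2
    have e : ∀ (i : ℕ) (w : List ℕ) (y : V), (∀ z, q (op v R [i] z) = q z) → q (op v R (i :: w) y) = q (op v R w y) := by
      intro i w y hi
      rw [op_cons, Module.End.mul_apply, hi]
    rw [e 7 _ _ qW, e 5 _ _ qX, e 5 _ _ qX, qW, e 5 _ _ qX, e 5 _ _ qX, e 5 _ _ qX, e 5 _ _ qX, e 5 _ _ qX,
      e 7 _ _ qW, e 5 _ _ qX, e 5 _ _ qX, e 5 _ _ qX, e 5 _ _ qX, e 5 _ _ qX, e 5 _ _ qX, e 5 _ _ qX, e 5 _ _ qX,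
      e 5 _ _ qX] at h1
    exact h1.symm
  have h4 : ψ' ∘ₗ q = 0 := by
    refine h.no_dual h3 irr hn (ψ := ψ' ∘ₗ q) ?_ ?_ ?_
    · intro u; show ψ' (q _) = ψ' (q _); rw [qX]
    · intro u; show ψ' (q _) = ψ' (q _); rw [qD]
    · intro u; show ψ' (q _) = ψ' (q _); rw [qW]
  apply hψ'
  ext u
  exact congrArg (fun f : Module.Dual k V => f u) h4

end Cfsg.Agent.H6.M11
end

-- part: H6/M11/Dim3
section
/-!
# The degrees of representations of the Mathieu group of degree 11 in characteristic 3 (helper6)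
-/

set_option autoImplicit false
set_option linter.unusedSectionVars false
set_option linter.unusedVariables false
set_option maxRecDepth 100000

namespace Cfsg.Agent.H6.M11

open Module LinearMap

variable {G : Type*} [Group G] {v : ℕ → G} {k : Type*} [Field k] {V : Type*} [AddCommGroup V] [Module k V]
  [FiniteDimensional k V] {R : G →* End k V} {ζ ξ : k}

/-! ### restriction to an invariant subspace -/

section res

variable (R) (S : Submodule k V)

/-- the stabilizer of a subspace -/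
def stabS : Subgroup G where
  carrier := {g | (∀ u ∈ S, R g u ∈ S) ∧ ∀ u ∈ S, R g⁻¹ u ∈ S}
  one_mem' := by
    refine ⟨fun u hu => ?_, fun u hu => ?_⟩
    · rw [map_one]; exact hu
    · rw [inv_one, map_one]; exact hu
  mul_mem' := by
    rintro a b ⟨ha, ha'⟩ ⟨hb, hb'⟩
    refine ⟨fun u hu => ?_, fun u hu => ?_⟩
    · rw [map_mul]; exact ha _ (hb _ hu)
    · rw [mul_inv_rev, map_mul]; exact hb' _ (ha' _ hu)
  inv_mem' := by
    rintro a ⟨ha, ha'⟩
    refine ⟨ha', fun u hu => ?_⟩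
    rw [inv_inv]
    exact ha _ hu

/-- the restricted representation -/
noncomputable def resS : stabS R S →* End k S where
  toFun g := (R g).restrict g.2.1
  map_one' := by
    ext u
    show R (1 : G) u = u
    rw [map_one]
    rfl
  map_mul' a b := by
    ext u
    show R ((a : G) * (b : G)) u = R a (R b u)
    rw [map_mul]
    rfl

open Classical in
/-- the letters in the stabilizer -/
noncomputable def vS (v : ℕ → G) : ℕ → stabS R S := fun i => if hi : v i ∈ stabS R S then ⟨v i, hi⟩ else 1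

variable {R S}

theorem coe_ev_vS {w : List ℕ} (hw : ∀ i ∈ w, v i ∈ stabS R S) : ((ev (vS R S v) w : stabS R S) : G) = ev v w := by
  induction w with
  | nil => rfl
  | cons i w ih =>
    rw [ev_cons, ev_cons, Subgroup.coe_mul, ih fun j hj => hw j (List.mem_cons_of_mem _ hj)]
    congr 1
    unfold vS
    rw [dif_pos (hw i List.mem_cons_self)]

theorem letters_LL : ∀ r ∈ relLL, (∀ i ∈ r.1, i = 5 ∨ i = 6 ∨ i = 7) ∧ (∀ i ∈ r.2, i = 5 ∨ i = 6 ∨ i = 7) := by
  decide +kernel

theorem SatL.toS (h : SatL v) (hS : ∀ i, i = 5 ∨ i = 6 ∨ i = 7 → v i ∈ stabS R S) : SatL (vS R S v) := by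
  intro r hr
  obtain ⟨h1, h2⟩ := letters_LL r hr
  apply Subtype.ext
  rw [coe_ev_vS (fun i hi => hS i (h1 i hi)), coe_ev_vS (fun i hi => hS i (h2 i hi))]
  exact h r hr

theorem op_resS {w : List ℕ} (hw : ∀ i ∈ w, v i ∈ stabS R S) (u : S) :
    ((op (vS R S v) (resS R S) w u : S) : V) = op v R w u := by
  show R ((ev (vS R S v) w : stabS R S) : G) u = op v R w u
  rw [coe_ev_vS hw]
  rfl

theorem finrank_resS {w : List ℕ} (hw : ∀ i ∈ w, v i ∈ stabS R S) (μ : k) :
    finrank k (End.eigenspace (op (vS R S v) (resS R S) w) μ) =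
      finrank k (S ⊓ End.eigenspace (op v R w) μ : Submodule k V) := by
  have h1 : Submodule.map S.subtype (End.eigenspace (op (vS R S v) (resS R S) w) μ) =
      S ⊓ End.eigenspace (op v R w) μ := by
    ext u
    rw [Submodule.mem_map, Submodule.mem_inf]
    constructor
    · rintro ⟨y, hy, rfl⟩
      refine ⟨y.2, ?_⟩
      rw [End.mem_eigenspace_iff] at hy ⊢
      have h2 := congrArg (fun z : S => (z : V)) hy
      rw [op_resS hw] at h2
      exact h2
    · rintro ⟨hu, hu'⟩
      refine ⟨⟨u, hu⟩, ?_, rfl⟩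
      rw [End.mem_eigenspace_iff] at hu' ⊢
      apply Subtype.ext
      rw [op_resS hw]
      exact hu'
  rw [← h1, Submodule.finrank_map_subtype_eq]

theorem op_one_apply (i : ℕ) (u : V) : op v R [i] u = R (v i) u := by
  rw [op, ev_cons, ev_nil, mul_one]

theorem mem_stabS {i m : ℕ} (hS : ∀ u ∈ S, op v R [i] u ∈ S) (hp : (ev v [i]) ^ (m + 1) = 1) : v i ∈ stabS R S := by
  have e : ev v [i] = v i := by rw [ev_cons, ev_nil, mul_one]
  rw [e] at hp
  refine ⟨fun u hu => ?_, fun u hu => ?_⟩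
  · rw [← op_one_apply]; exact hS u hu
  · have h1 : (v i)⁻¹ = (v i) ^ m := by
      rw [inv_eq_iff_mul_eq_one, ← pow_succ', hp]
    rw [h1, map_pow]
    have h2 : ∀ n : ℕ, ((R (v i)) ^ n) u ∈ S := by
      intro n
      induction n with
      | zero => exact hu
      | succ n ih =>
        rw [pow_succ', Module.End.mul_apply, ← op_one_apply]
        exact hS _ ih
    exact h2 m

end res

theorem SatL.ev_pow (h : SatL v) : (ev v [5]) ^ (10 + 1) = 1 ∧ (ev v [6]) ^ (4 + 1) = 1 ∧ (ev v [7]) ^ (1 + 1) = 1 := by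
  refine ⟨?_, ?_, ?_⟩
  · have h1 : ev v [5, 5, 5, 5, 5, 5, 5, 5, 5, 5, 5] = ev v [] := h.base (by decide +kernel)
    rw [ev_nil] at h1
    rw [← h1]
    simp only [ev_cons, ev_nil, mul_one]
    simp only [pow_succ, pow_zero, one_mul, mul_assoc]
  · have h1 : ev v [6, 6, 6, 6, 6] = ev v [] := h.base (by decide +kernel)
    rw [ev_nil] at h1
    rw [← h1]
    simp only [ev_cons, ev_nil, mul_one]
    simp only [pow_succ, pow_zero, one_mul, mul_assoc]
  · have h1 : ev v [7, 7] = ev v [] := h.base (by decide +kernel)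
    rw [ev_nil] at h1
    rw [← h1]
    simp only [ev_cons, ev_nil, mul_one]
    simp only [pow_succ, pow_zero, one_mul]

/-- Lemma F for an invariant subspace -/
theorem SatL.lemF_sub (h : SatL v) (h3 : (3 : k) = 0) (hζ : IsPrimitiveRoot ζ 11) (hξ : IsPrimitiveRoot ξ 5)
    {S : Submodule k V} (i5 : ∀ u ∈ S, op v R [5] u ∈ S) (i6 : ∀ u ∈ S, op v R [6] u ∈ S)
    (i7 : ∀ u ∈ S, op v R [7] u ∈ S) (hn : finrank k S = 6)
    (hm : finrank k (S ⊓ End.eigenspace (op v R [5]) 1 : Submodule k V) = 1)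
    (hd : ∀ u ∈ S, op v R [5] u = u → op v R [6] u = u) :
    ∀ u ∈ S, op v R [5] u = u → op v R [7] u = u := by
  obtain ⟨p5, p6, p7⟩ := h.ev_pow
  have hS : ∀ i, i = 5 ∨ i = 6 ∨ i = 7 → v i ∈ stabS R S := by
    rintro i (rfl | rfl | rfl)
    · exact mem_stabS i5 p5
    · exact mem_stabS i6 p6
    · exact mem_stabS i7 p7
  have w5 : ∀ i ∈ ([5] : List ℕ), v i ∈ stabS R S := by
    intro i hi; rw [List.mem_singleton] at hi; subst hi; exact hS 5 (by norm_num)
  have w6 : ∀ i ∈ ([6] : List ℕ), v i ∈ stabS R S := by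
    intro i hi; rw [List.mem_singleton] at hi; subst hi; exact hS 6 (by norm_num)
  have w7 : ∀ i ∈ ([7] : List ℕ), v i ∈ stabS R S := by
    intro i hi; rw [List.mem_singleton] at hi; subst hi; exact hS 7 (by norm_num)
  have h' := h.toS hS
  obtain ⟨m, a, b, ha, hb, hm', hdim⟩ := h.eigen (R := R) hζ S i5 i6
  have hd' : ∀ u : S, op (vS R S v) (resS R S) [5] u = u → op (vS R S v) (resS R S) [6] u = u := by
    intro u hu
    apply Subtype.ext
    rw [op_resS w6]
    apply hd u u.2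
    rw [← op_resS w5, hu]
  have hm'' : finrank k (End.eigenspace (op (vS R S v) (resS R S) [5]) 1) = 1 := by
    rw [finrank_resS w5, hm]
  have hcase : b = 0 ∨ a = 0 := by (clear * - hn hdim; omega)
  have key : ∀ u : S, op (vS R S v) (resS R S) [5] u = u → op (vS R S v) (resS R S) [7] u = u := by
    rcases hcase with hb0 | ha0
    · refine h'.lemF h3 hζ hξ hn ?_ hm'' hd'
      intro c hc
      rw [finrank_resS w5, hb c hc, hb0]
    · have hζ' : IsPrimitiveRoot (ζ ^ 10) 11 := hζ.pow_of_coprime 10 (by norm_num)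
      refine h'.lemF h3 hζ' hξ hn ?_ hm'' hd'
      intro c hc
      rw [finrank_resS w5, ← pow_mul]
      have e : ζ ^ (10 * c) = ζ ^ ((10 * c) % 11) := pow_eq_pow_mod _ hζ.pow_eq_one
      rw [e]
      rw [ha _ (by rcases hc with rfl | rfl | rfl | rfl | rfl <;> norm_num), ha0]
  intro u hu hu'
  have h1 := key ⟨u, hu⟩ (by
    apply Subtype.ext
    rw [op_resS w5]
    exact hu')
  have h2 := congrArg (fun z : S => (z : V)) h1
  rw [op_resS w7] at h2
  exact h2

/-! ### `d` is trivial on the fixed space of `x` -/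

theorem SatL.d_av (h : SatL v) (h11 : ((11 : ℕ) : k) ≠ 0) :
    op v R [6] * av 11 (op v R [5]) = av 11 (op v R [5]) * op v R [6] := by
  have hX := h.pow_eleven (R := R)
  have r1 : op v R [6] * op v R [5] = op v R [5, 5, 5, 5] * op v R [6] := by
    rw [← op_append, ← op_append]
    exact h.op_eq (by decide +kernel)
  have r2 : op v R [5] * op v R [6] = op v R [6] * op v R [5, 5, 5] := by
    rw [← op_append, ← op_append]
    exact h.op_eq (by decide +kernel)
  have e4 : op v R [5, 5, 5, 5] = (op v R [5]) ^ 4 := op_replicate 4 5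
  have e3 : op v R [5, 5, 5] = (op v R [5]) ^ 3 := op_replicate 3 5
  have b2 : av 11 (op v R [5]) * (op v R [5]) ^ 4 = av 11 (op v R [5]) := by
    rw [← ((comm_av (Commute.refl (op v R [5]))).pow_left 4).eq, pow_mul_av hX]
  have a1 : av 11 (op v R [5]) * (op v R [6] * av 11 (op v R [5])) = op v R [6] * av 11 (op v R [5]) := by
    apply av_mul_of h11
    rw [← mul_assoc, r2, mul_assoc, e3, pow_mul_av hX]
  have a2 : (av 11 (op v R [5]) * op v R [6]) * av 11 (op v R [5]) = av 11 (op v R [5]) * op v R [6] := by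
    apply mul_av_of h11
    rw [mul_assoc, r1, ← mul_assoc, e4, b2]
  rw [← a1, ← mul_assoc, a2]

theorem Sat.d_trivial (h : Sat v) (h3 : (3 : k) = 0) (hξ : IsPrimitiveRoot ξ 5)
    (hm : finrank k (End.eigenspace (op v R [5]) 1) ≤ 2) : ∀ u, op v R [5] u = u → op v R [6] u = u := by
  have h5k := five_ne_of3 h3
  have h11k := eleven_ne_of3 h3
  have P5 := h.toL.pow_five (R := R)
  have hX := h.toL.pow_eleven (R := R)
  have hξ5 := hξ.pow_eq_one
  have hξ0 : ξ ≠ 0 := hξ.ne_zero (by norm_num)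
  have hPx := isProj_av h11k hX
  have hcomm : Commute (op v R [6]) (av 11 (op v R [5])) := h.toL.d_av h11k
  have td : ∀ j, (j = 1 ∨ j = 2 ∨ j = 3 ∨ j = 4) →
      LinearMap.trace k V (op v R [6] ^ j * av 11 (op v R [5])) = tw v R [6] := by
    intro j hj
    rw [← op_replicate, h.toL.trace_d h11k j hj]
    rcases hj with rfl | rfl | rfl | rfl
    · rfl
    · exact h.t_66
    · exact h.toL.t_666.trans h.t_66
    · exact h.toL.t_6666
  have hE : (fix (op v R [5]) : Submodule k V) = End.eigenspace (op v R [5]) 1 := rfl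
  have cj : ∀ c : ℕ, 0 < c → c < 5 →
      5 * (finrank k (End.eigenspace (op v R [6]) (ξ ^ c) ⊓ fix (op v R [5]) : Submodule k V) : k) =
        (finrank k (fix (op v R [5])) : k) - tw v R [6] := by
    intro c hc0 hc
    have hP := isProj_sp h5k hξ0 hξ5 P5 c
    have hcm : Commute (sp 5 ξ (op v R [6]) c) (av 11 (op v R [5])) := by
      unfold sp
      exact (comm_av ((hcomm.smul_left _).symm)).symm
    have hPP := IsProj.mul hP hPx hcm
    rw [← trace_isProj hPP, ← trace_isProj hPx]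
    unfold sp
    rw [av, smul_mul_assoc, map_smul, smul_eq_mul, Finset.sum_mul, map_sum]
    have e0 : ∀ i : ℕ, LinearMap.trace k V (((ξ ^ c)⁻¹ • op v R [6]) ^ i * av 11 (op v R [5])) =
        (ξ ^ c)⁻¹ ^ i * LinearMap.trace k V (op v R [6] ^ i * av 11 (op v R [5])) := by
      intro i
      rw [smul_pow, smul_mul_assoc, map_smul, smul_eq_mul]
    simp only [e0, Finset.sum_range_succ, Finset.sum_range_zero, zero_add, td 1 (by norm_num), td 2 (by norm_num),
      td 3 (by norm_num), td 4 (by norm_num), pow_zero, one_mul]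
    have e1 : (ξ ^ c)⁻¹ ≠ 1 := by
      intro e
      have e2 : ξ ^ c = 1 := by rw [← inv_inv (ξ ^ c), e, inv_one]
      exact (hξ.pow_ne_one_of_pos_of_lt (by omega) hc) e2
    have e3 : ((ξ ^ c)⁻¹) ^ 5 = 1 := by
      rw [inv_pow, ← pow_mul, mul_comm, pow_mul, hξ5, one_pow, inv_one]
    generalize (ξ ^ c)⁻¹ = η at *
    have e4 : 1 + η + η ^ 2 + η ^ 3 + η ^ 4 = 0 := by
      have h5 : (η - 1) * (1 + η + η ^ 2 + η ^ 3 + η ^ 4) = 0 := by
        linear_combination e3
      exact (mul_eq_zero.1 h5).resolve_left (sub_ne_zero.2 e1)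
    have h5k' : (5 : k) ≠ 0 := by exact_mod_cast h5k
    push_cast
    rw [← mul_assoc, mul_inv_cancel₀ h5k', one_mul]
    linear_combination tw v R [6] * e4
  have hle : ∀ c : ℕ, finrank k (End.eigenspace (op v R [6]) (ξ ^ c) ⊓ fix (op v R [5]) : Submodule k V) ≤ 2 :=
    fun c => (Submodule.finrank_mono inf_le_right).trans hm
  have heq : ∀ c : ℕ, 0 < c → c < 5 →
      finrank k (End.eigenspace (op v R [6]) (ξ ^ c) ⊓ fix (op v R [5]) : Submodule k V) =
      finrank k (End.eigenspace (op v R [6]) (ξ ^ 1) ⊓ fix (op v R [5]) : Submodule k V) := by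
    intro c hc0 hc
    have h5k' : (5 : k) ≠ 0 := by exact_mod_cast h5k
    have h1 := mul_left_cancel₀ h5k' ((cj c hc0 hc).trans (cj 1 (by norm_num) (by norm_num)).symm)
    have h2 := mod_three h3 h1
    have h4 := hle c
    have h5 := hle 1
    omega
  have hinv : ∀ u ∈ fix (op v R [5]), op v R [6] u ∈ fix (op v R [5]) := by
    intro u hu
    exact mem_of_comm hPx hcomm hu
  have hsum := finrank_eq_sum hξ (by norm_num) P5 (fix (op v R [5])) hinv
  rw [Fin.sum_univ_eq_sum_range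
    (fun b => finrank k (fix (op v R [5]) ⊓ End.eigenspace (op v R [6]) (ξ ^ b) : Submodule k V)) 5] at hsum
  simp only [Finset.sum_range_succ, Finset.sum_range_zero, zero_add] at hsum
  have hcm : ∀ b : ℕ, finrank k (fix (op v R [5]) ⊓ End.eigenspace (op v R [6]) (ξ ^ b) : Submodule k V) =
      finrank k (End.eigenspace (op v R [6]) (ξ ^ b) ⊓ fix (op v R [5]) : Submodule k V) := fun b => by rw [inf_comm]
  rw [hcm 1, hcm 2, hcm 3, hcm 4, heq 2 (by norm_num) (by norm_num), heq 3 (by norm_num) (by norm_num),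
    heq 4 (by norm_num) (by norm_num)] at hsum
  have hm' : finrank k (fix (op v R [5])) ≤ 2 := hm
  have h0 : finrank k (fix (op v R [5]) ⊓ End.eigenspace (op v R [6]) (ξ ^ 0) : Submodule k V) =
      finrank k (fix (op v R [5])) := by omega
  rw [pow_zero] at h0
  have h1 := le_of_finrank h0
  intro u hu
  have h2 := h1 (mem_fix.2 hu)
  rw [End.mem_eigenspace_iff, one_smul] at h2
  exact h2

/-- hyperplanes -/
theorem finrank_inf_ker (φ : V →ₗ[k] k) (U : Submodule k V) {x : V} (hx : x ∈ U) (hφ : φ x = 1) :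
    finrank k (U ⊓ LinearMap.ker φ : Submodule k V) + 1 = finrank k U := by
  have h1 := LinearMap.finrank_range_add_finrank_ker (φ.domRestrict U)
  have h2 : LinearMap.range (φ.domRestrict U) = ⊤ := by
    rw [LinearMap.range_eq_top]
    intro c
    exact ⟨c • ⟨x, hx⟩, by rw [map_smul, LinearMap.domRestrict_apply, hφ, smul_eq_mul, mul_one]⟩
  have h3 : Submodule.map U.subtype (LinearMap.ker (φ.domRestrict U)) = U ⊓ LinearMap.ker φ := by
    ext y
    rw [Submodule.mem_map, Submodule.mem_inf]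
    constructor
    · rintro ⟨z, hz, rfl⟩
      exact ⟨z.2, hz⟩
    · rintro ⟨hy, hy'⟩
      exact ⟨⟨y, hy⟩, hy', rfl⟩
  rw [h2, finrank_top, Module.finrank_self] at h1
  rw [← h3, Submodule.finrank_map_subtype_eq]
  omega

end Cfsg.Agent.H6.M11
end

-- part: H6/M11/Main3
section
/-!
# The degrees of representations of the Mathieu group of degree 11 in characteristic 3, conclusion (helper6)
-/

set_option autoImplicit false
set_option linter.unusedSectionVars false
set_option linter.unusedVariables false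
set_option maxRecDepth 100000

namespace Cfsg.Agent.H6.M11

open Module LinearMap

variable {G : Type*} [Group G] {v : ℕ → G} {k : Type*} [Field k] {V : Type*} [AddCommGroup V] [Module k V]
  [FiniteDimensional k V] {R : G →* End k V} {ζ ξ : k}

/-- an invariant subspace of `L₂(11)` which is neither trivial -/
theorem Sat.step (h : Sat v) (h3 : (3 : k) = 0) (hζ : IsPrimitiveRoot ζ 11) (irr : Irr v R) (hn : 2 ≤ finrank k V)
    {a b : ℕ}
    (ha : ∀ c : ℕ, (c = 1 ∨ c = 3 ∨ c = 4 ∨ c = 5 ∨ c = 9) → finrank k (End.eigenspace (op v R [5]) (ζ ^ c)) = a)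
    (hb : ∀ c : ℕ, (c = 2 ∨ c = 6 ∨ c = 7 ∨ c = 8 ∨ c = 10) → finrank k (End.eigenspace (op v R [5]) (ζ ^ c)) = b)
    {S : Submodule k V} (i5 : ∀ u ∈ S, op v R [5] u ∈ S) (i6 : ∀ u ∈ S, op v R [6] u ∈ S)
    (i7 : ∀ u ∈ S, op v R [7] u ∈ S) (h0 : S ≠ ⊥) (h1 : S ≠ ⊤) :
    ∃ m1 a1 b1 : ℕ, finrank k S = m1 + 5 * a1 + 5 * b1 ∧
      finrank k (S ⊓ End.eigenspace (op v R [5]) 1 : Submodule k V) = m1 ∧ 0 < a1 + b1 ∧ a1 + b1 < a + b := by
  obtain ⟨m1, a1, b1, ha1, hb1, hm1, hdim⟩ := h.toL.eigen (R := R) hζ S i5 i6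
  refine ⟨m1, a1, b1, hdim, hm1, ?_, ?_⟩
  · by_contra hcon
    have h2 : a1 = 0 ∧ b1 = 0 := by omega
    apply h0
    refine h.bot_of h3 irr hn i6 i7 ?_
    have h4 : S ≤ End.eigenspace (op v R [5]) 1 := le_of_finrank (by rw [hm1, hdim]; omega)
    intro u hu
    have h5 := h4 hu
    rw [End.mem_eigenspace_iff, one_smul] at h5
    exact h5
  · have hla : a1 ≤ a := by
      rw [← ha1 1 (by norm_num), ← ha 1 (by norm_num)]
      exact Submodule.finrank_mono inf_le_right
    have hlb : b1 ≤ b := by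
      rw [← hb1 2 (by norm_num), ← hb 2 (by norm_num)]
      exact Submodule.finrank_mono inf_le_right
    by_contra hcon
    have h2 : a1 = a ∧ b1 = b := by omega
    apply h1
    refine h.top_of h3 irr hn i7 ?_
    have h4 : ∀ c : ℕ, 1 ≤ c → c ≤ 10 → End.eigenspace (op v R [5]) (ζ ^ c) ≤ S := by
      intro c hc hc'
      apply le_of_finrank
      rw [inf_comm]
      have hcase : (c = 1 ∨ c = 3 ∨ c = 4 ∨ c = 5 ∨ c = 9) ∨ (c = 2 ∨ c = 6 ∨ c = 7 ∨ c = 8 ∨ c = 10) := by (clear * - hc hc'; omega)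
      rcases hcase with hc | hc
      · rw [ha1 c hc, ha c hc, h2.1]
      · rw [hb1 c hc, hb c hc, h2.2]
    intro u
    have hX := h.toL.pow_eleven (R := R)
    have hζ0 : ζ ≠ 0 := hζ.ne_zero (by norm_num)
    have h11k := eleven_ne_of3 h3
    have e1 : ∑ c : Fin 11, sp 11 ζ (op v R [5]) c = 1 := sum_sp hζ (by norm_num)
    have e2 : op v R [5] u - u = ∑ c : Fin 11, (ζ ^ (c : ℕ) - 1) • sp 11 ζ (op v R [5]) c u := by
      have e3 : op v R [5] u = ∑ c : Fin 11, ζ ^ (c : ℕ) • sp 11 ζ (op v R [5]) c u := by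
        calc op v R [5] u = (op v R [5] * ∑ c : Fin 11, sp 11 ζ (op v R [5]) c) u := by rw [e1, mul_one]
          _ = _ := by
            rw [Finset.mul_sum, LinearMap.sum_apply]
            refine Finset.sum_congr rfl fun c _ => ?_
            rw [mul_sp hζ0 hζ.pow_eq_one hX, LinearMap.smul_apply]
      have e4 : u = ∑ c : Fin 11, sp 11 ζ (op v R [5]) c u := by
        rw [← LinearMap.sum_apply, e1]
        rfl
      conv_lhs => rw [e3]
      conv_lhs => rhs; rw [e4]
      rw [← Finset.sum_sub_distrib]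
      exact Finset.sum_congr rfl fun c _ => by rw [sub_smul, one_smul]
    rw [e2]
    refine Submodule.sum_mem _ fun c _ => ?_
    rcases Nat.eq_zero_or_pos (c : ℕ) with hc | hc
    · rw [hc, pow_zero, sub_self, zero_smul]
      exact Submodule.zero_mem _
    · refine S.smul_mem _ (h4 c hc (by omega) ?_)
      exact (isProj_sp h11k hζ0 hζ.pow_eq_one hX c).map_mem u

/-- the span of the orbit of an eigenvector of `x, d` is invariant -/
theorem SatL.span_inv (h : SatL v) {x0 : V} {c : k} (f5 : op v R [5] x0 = x0) (f6 : op v R [6] x0 = c • x0) :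
    (∀ u ∈ spanO (op v R [5]) x0 (op v R [7] x0), op v R [5] u ∈ spanO (op v R [5]) x0 (op v R [7] x0)) ∧
    (∀ u ∈ spanO (op v R [5]) x0 (op v R [7] x0), op v R [6] u ∈ spanO (op v R [5]) x0 (op v R [7] x0)) ∧
    (∀ u ∈ spanO (op v R [5]) x0 (op v R [7] x0), op v R [7] u ∈ spanO (op v R [5]) x0 (op v R [7] x0)) := by
  have hdp : ∀ n : ℕ, ((op v R [6]) ^ n) x0 = c ^ n • x0 := by
    intro n
    induction n with
    | zero => rw [pow_zero, pow_zero, one_smul]; rfl
    | succ n ih => rw [pow_succ', Module.End.mul_apply, ih, map_smul, f6, smul_smul, pow_succ]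
  refine ⟨fun u hu => X_mem f5 hu, fun u hu => map_mem_spanO ?_ ?_ hu, fun u hu => map_mem_spanO' h.pow_eleven ?_ ?_ ?_ hu⟩
  · rw [f6]
    exact Submodule.smul_mem _ _ x0_mem
  · have r1 : op v R [6] * op v R [5] = (op v R [5]) ^ 4 * op v R [6] := by
      rw [← op_append, ← op_replicate, ← op_append]
      exact h.op_eq (by decide +kernel)
    have r2 : ∀ i : ℕ, op v R [6] * (op v R [5]) ^ i = (op v R [5]) ^ (4 * i) * op v R [6] := by
      intro i
      induction i with
      | zero => rw [Nat.mul_zero, pow_zero, mul_one, one_mul]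
      | succ i ih => rw [pow_succ, ← mul_assoc, ih, mul_assoc, r1, ← mul_assoc, ← pow_add]; rfl
    have r3 : op v R [6] * op v R [7] = op v R [7] * (op v R [6]) ^ 4 := by
      rw [← op_append, ← op_replicate, ← op_append]
      exact h.op_eq (by decide +kernel)
    intro i
    have e1 : op v R [6] ((op v R [5] ^ i) (op v R [7] x0)) = c ^ 4 • ((op v R [5] ^ (4 * i)) (op v R [7] x0)) := by
      have e2 : op v R [6] ((op v R [5] ^ i) (op v R [7] x0)) =
          (op v R [5] ^ (4 * i)) (op v R [7] ((op v R [6] ^ 4) x0)) := by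
        rw [← Module.End.mul_apply (op v R [6]), r2, Module.End.mul_apply, ← Module.End.mul_apply (op v R [6]), r3,
          Module.End.mul_apply]
      rw [e2, hdp, map_smul, map_smul]
    rw [e1]
    exact Submodule.smul_mem _ _ (u_mem _)
  · exact u_mem 0
  · rw [h.w_sq]
    exact x0_mem
  · intro i hi hi'
    have h1 := congrArg (fun f : End k V => f x0) (h.bruhat (R := R) i hi hi')
    simp only [Module.End.mul_apply] at h1
    rw [hdp, map_smul, map_smul, map_smul, pow_fix f5] at h1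
    rw [h1]
    exact Submodule.smul_mem _ _ (u_mem _)

/-- **the degrees** -/
theorem Sat.dim_three (h : Sat v) (h3 : (3 : k) = 0) (hζ : IsPrimitiveRoot ζ 11) (hξ : IsPrimitiveRoot ξ 5)
    (irr : Irr v R) (hX1 : op v R [5] ≠ 1) (hn2 : 2 ≤ finrank k V) (hn : finrank k V ≤ 12) :
    finrank k V = 5 ∨ finrank k V = 10 := by
  have h11k := eleven_ne_of3 h3
  have hX := h.toL.pow_eleven (R := R)
  obtain ⟨m, a, b, ha, hb, hm, hdim⟩ := h.toL.eigen (R := R) hζ ⊤ (fun _ _ => trivial) (fun _ _ => trivial)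
  have top' : ∀ c : k, finrank k (⊤ ⊓ End.eigenspace (op v R [5]) c : Submodule k V) =
      finrank k (End.eigenspace (op v R [5]) c) := fun c => by rw [top_inf_eq]
  simp only [top'] at ha hb hm
  rw [finrank_top] at hdim
  have hab : 0 < a + b := by
    by_contra hcon
    have h2 : a = 0 ∧ b = 0 := by omega
    apply hX1
    have h4 : (⊤ : Submodule k V) ≤ End.eigenspace (op v R [5]) 1 := le_of_finrank (by
      rw [top_inf_eq, hm, finrank_top, hdim]; omega)
    ext u
    have h5 := h4 (Submodule.mem_top (x := u))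
    rw [End.mem_eigenspace_iff, one_smul] at h5
    exact h5
  by_contra hcon
  have hm1 : 1 ≤ m := by (clear * - hn2 hn hdim hcon; omega)
  -- an eigenvector of `d`
  obtain ⟨x0, c, hx0, f5, f6⟩ : ∃ (x0 : V) (c : k), x0 ≠ 0 ∧ op v R [5] x0 = x0 ∧ op v R [6] x0 = c • x0 := by
    have hinv : ∀ u ∈ fix (op v R [5]), op v R [6] u ∈ fix (op v R [5]) := by
      intro u hu
      exact mem_of_comm (isProj_av h11k hX) (h.toL.d_av h11k) hu
    have hsum := finrank_eq_sum hξ (by norm_num) (h.toL.pow_five (R := R)) (fix (op v R [5])) hinv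
    have h1 : finrank k (fix (op v R [5])) = m := hm
    obtain ⟨j, -, hj⟩ : ∃ j ∈ (Finset.univ : Finset (Fin 5)),
        finrank k (fix (op v R [5]) ⊓ End.eigenspace (op v R [6]) (ξ ^ (j : ℕ)) : Submodule k V) ≠ 0 := by
      by_contra hc
      push Not at hc
      rw [Finset.sum_eq_zero hc, h1] at hsum
      omega
    have h2 : (fix (op v R [5]) ⊓ End.eigenspace (op v R [6]) (ξ ^ (j : ℕ)) : Submodule k V) ≠ ⊥ := by
      intro hc
      rw [hc, finrank_bot] at hj
      exact hj rfl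
    obtain ⟨x0, hx, hx0⟩ := (Submodule.ne_bot_iff _).1 h2
    obtain ⟨g1, g2⟩ := Submodule.mem_inf.1 hx
    exact ⟨x0, ξ ^ (j : ℕ), hx0, mem_fix.1 g1, End.mem_eigenspace_iff.1 g2⟩
  obtain ⟨i5, i6, i7⟩ := h.toL.span_inv f5 f6
  have hUb : spanO (op v R [5]) x0 (op v R [7] x0) ≠ ⊥ := by
    intro h1
    have h2 : x0 ∈ spanO (op v R [5]) x0 (op v R [7] x0) := x0_mem
    rw [h1, Submodule.mem_bot] at h2
    exact hx0 h2
  have hone : a + b = 1 → spanO (op v R [5]) x0 (op v R [7] x0) = ⊤ := by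
    intro hab1
    by_contra hU
    obtain ⟨m1, a1, b1, -, -, g1, g2⟩ := h.step h3 hζ irr hn2 ha hb i5 i6 i7 hUb hU
    omega
  have hm2 : m ≤ 2 := by
    by_cases hab1 : a + b = 1
    · have h1 := finrank_fix_le (u := op v R [7] x0) h11k hX f5
      rw [hone hab1, top_inf_eq, hm] at h1
      exact h1
    · omega
  have hd := h.d_trivial h3 hξ (by rw [hm]; exact hm2)
  have f6' := hd x0 f5
  have hT := h.toL.twelve_w f5 f6'
  have hsX := hT.X_sum h11k
  have hs := h.no_fix h3 irr hn2 hsX (hd _ hsX) hT.T_sum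
  obtain ⟨φ, e0, eX, eW⟩ := hT.exists_dual h3 hx0 hs
  have hφav : ∀ y, φ (av 11 (op v R [5]) y) = φ y := by
    intro y
    have e1 : ∀ i : ℕ, φ ((op v R [5] ^ i) y) = φ y := by
      intro i
      induction i with
      | zero => rfl
      | succ i ih => rw [pow_succ', Module.End.mul_apply, eX, ih]
    rw [av, LinearMap.smul_apply, LinearMap.sum_apply, map_smul, map_sum, Finset.sum_congr rfl fun i _ => e1 i,
      Finset.sum_const, Finset.card_range, nsmul_eq_mul, smul_eq_mul, ← mul_assoc, inv_mul_cancel₀ h11k, one_mul]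
  have eD : ∀ y, φ (op v R [6] y) = φ y := by
    intro y
    rw [← hφav (op v R [6] y), ← Module.End.mul_apply, ← h.toL.d_av h11k, Module.End.mul_apply,
      hd _ (av_apply_mem hX y), hφav]
  have hUt : spanO (op v R [5]) x0 (op v R [7] x0) ≠ ⊤ := by
    intro hU
    have h1 := h.no_dual h3 irr hn2 (ψ := φ) eX eD (fun u => eW u (by rw [hU]; trivial))
    rw [h1, LinearMap.zero_apply] at e0
    exact zero_ne_one e0
  obtain ⟨m1, a1, b1, hdim1, hm1', g1, g2⟩ := h.step h3 hζ irr hn2 ha hb i5 i6 i7 hUb hUt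
  have hm1le : m1 ≤ 2 := by
    rw [← hm1']
    refine le_trans (Submodule.finrank_mono inf_le_right) (by rw [hm]; exact hm2)
  have hxU : x0 ∈ spanO (op v R [5]) x0 (op v R [7] x0) ⊓ End.eigenspace (op v R [5]) 1 :=
    Submodule.mem_inf.2 ⟨x0_mem, by rw [End.mem_eigenspace_iff, one_smul]; exact f5⟩
  have hm1pos : 0 < m1 := by
    rw [← hm1']
    have : Nontrivial (spanO (op v R [5]) x0 (op v R [7] x0) ⊓ End.eigenspace (op v R [5]) 1 : Submodule k V) := by
      rw [Submodule.nontrivial_iff_ne_bot]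
      intro h1
      rw [h1, Submodule.mem_bot] at hxU
      exact hx0 hxU
    exact finrank_pos
  have final : ∀ S : Submodule k V, (∀ u ∈ S, op v R [5] u ∈ S) → (∀ u ∈ S, op v R [6] u ∈ S) →
      (∀ u ∈ S, op v R [7] u ∈ S) → finrank k S = 6 →
      finrank k (S ⊓ End.eigenspace (op v R [5]) 1 : Submodule k V) = 1 → False := by
    intro S j5 j6 j7 hS6 hS1
    have h1 := h.toL.lemF_sub h3 hζ hξ j5 j6 j7 hS6 hS1 (fun u _ hu => hd u hu)
    have h2 : (S ⊓ End.eigenspace (op v R [5]) 1 : Submodule k V) ≠ ⊥ := by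
      intro hc
      rw [hc, finrank_bot] at hS1
      exact zero_ne_one hS1
    obtain ⟨y, hy, hy0⟩ := (Submodule.ne_bot_iff _).1 h2
    obtain ⟨y1, y2⟩ := Submodule.mem_inf.1 hy
    rw [End.mem_eigenspace_iff, one_smul] at y2
    exact hy0 (h.no_fix h3 irr hn2 y2 (hd y y2) (h1 y y1 y2))
  rcases (show m1 = 1 ∨ m1 = 2 by omega) with hm1'' | hm1''
  · exact final _ i5 i6 i7 (by omega) (by rw [hm1', hm1''])
  · refine final (spanO (op v R [5]) x0 (op v R [7] x0) ⊓ LinearMap.ker φ) ?_ ?_ ?_ ?_ ?_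
    · intro u hu
      obtain ⟨u1, u2⟩ := Submodule.mem_inf.1 hu
      refine Submodule.mem_inf.2 ⟨i5 u u1, ?_⟩
      rw [LinearMap.mem_ker] at u2 ⊢
      rw [eX, u2]
    · intro u hu
      obtain ⟨u1, u2⟩ := Submodule.mem_inf.1 hu
      refine Submodule.mem_inf.2 ⟨i6 u u1, ?_⟩
      rw [LinearMap.mem_ker] at u2 ⊢
      rw [eD, u2]
    · intro u hu
      obtain ⟨u1, u2⟩ := Submodule.mem_inf.1 hu
      refine Submodule.mem_inf.2 ⟨i7 u u1, ?_⟩
      rw [LinearMap.mem_ker] at u2 ⊢
      rw [eW u u1, u2]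
    · have h1 := finrank_inf_ker φ _ (x0_mem (X := op v R [5]) (x0 := x0) (u := op v R [7] x0)) e0
      omega
    · have h1 := finrank_inf_ker φ _ hxU e0
      rw [hm1'] at h1
      rw [inf_right_comm]
      omega

end Cfsg.Agent.H6.M11
end

private theorem dce_f29e6c86ad02 : _root_.True := by
  try have : _root_.True := by simp only [_root_.Cfsg.Agent.H6.M11.Twelve.sumv.eq_1]
  try have : _root_.True := by simp only [_root_.Cfsg.Agent.H6.M11.op.eq_1]
  exact _root_.True.intro
end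

-- part: H6/M11/Main11
section
set_option linter.all false
open scoped Cfsg.Agent.FastGrp

/-!
# Cores isomorphic to the Mathieu group of degree 11, dimension at most 12 (helper6)
-/

set_option autoImplicit false
set_option linter.unusedSectionVars false
set_option linter.unusedVariables false
set_option maxRecDepth 100000

namespace Cfsg.Agent.H6.M11

open Matrix Module Cfsg Cfsg.Geo Cfsg.Agent.H915.LD

universe u

variable {ι : Type} [Fintype ι] [DecidableEq ι] {F : Type u} [Field F] [Finite F] {P : Subgroup (GL ι F)}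

theorem irr_rep (hC : Core P) {v : ℕ → P} (hv : Sat v) (hcl : Subgroup.closure ({v 5, v 8} : Set P) = ⊤) (k : Type*)
    [Field k] [Algebra F k] : Irr v (rep P k) := by
  intro S h5 h8
  have e5 : (ev v [5]) ^ (10 + 1) = 1 := hv.toL.ev_pow.1
  have e8 : (ev v [8]) ^ (1 + 1) = 1 := by
    have h1 : ev v [8, 8] = ev v [] := hv.base (by decide +kernel)
    rw [ev_nil] at h1
    rw [← h1]
    simp only [ev_cons, ev_nil, mul_one]
    simp only [pow_succ, pow_zero, one_mul]
  have h1 : stabS (rep P k) S = ⊤ := by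
    rw [eq_top_iff, ← hcl, Subgroup.closure_le]
    rintro g (rfl | hg)
    · exact mem_stabS h5 e5
    · rw [Set.mem_singleton_iff.1 hg]
      exact mem_stabS h8 e8
  refine invariant k hC S fun g x hx => ?_
  have hg : g ∈ stabS (rep P k) S := by rw [h1]; trivial
  exact hg.1 x hx

/-- the dimension in characteristic 3, for every group with such letters -/
theorem dim_of_three [Fact (Nat.Prime 3)] [CharP F 3] (hC : Core P) {v : ℕ → P} (hv : Sat v)
    (hcl : Subgroup.closure ({v 5, v 8} : Set P) = ⊤) (hv5 : v 5 ≠ 1) (hn : Fintype.card ι ≤ 12) :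
    Fintype.card ι = 5 ∨ Fintype.card ι = 10 := by
  have hck : CharP (AlgebraicClosure F) 3 := charP_of_injective_algebraMap (algebraMap F _).injective 3
  obtain ⟨ξ, hξ⟩ := exists_root (AlgebraicClosure F) 5 (cast_ne _ Nat.prime_three Nat.prime_five (by norm_num))
  obtain ⟨ζ, hζ⟩ := exists_root (AlgebraicClosure F) 11 (cast_ne _ Nat.prime_three (by norm_num) (by norm_num))
  have h3 : (3 : AlgebraicClosure F) = 0 := by
    have := CharP.cast_eq_zero (AlgebraicClosure F) 3
    exact_mod_cast this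
  have h := hv.dim_three (R := rep P (AlgebraicClosure F)) h3 hζ hξ (irr_rep hC hv hcl _) (by
    intro h
    have h1 := rep_eq_one _ h
    rw [ev_cons, ev_nil, mul_one] at h1
    exact hv5 h1) (by rw [Module.finrank_fintype_fun_eq_card]; exact hC.two_le)
    (by rw [Module.finrank_fintype_fun_eq_card]; exact hn)
  rwa [Module.finrank_fintype_fun_eq_card] at h

/-- **Stage 1 for the Mathieu group of degree 11, characteristic 3.** -/
theorem m11_three [Fact (Nat.Prime 3)] [CharP F 3] (hC : Core P) (h : Spor.IsoM11 (Soc P))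
    (hn : Fintype.card ι ≤ 12) :
    (Fintype.card ι = 5 ∨ Fintype.card ι = 10) ∧ Fr P 3 := by
  obtain ⟨e, -⟩ := exists_letters hC h
  have hP : Spor.IsoM11 P := ⟨e⟩
  let v : ℕ → P := fun i => e.symm (v11 i)
  have hv : Sat v := sat_11.map e.symm.toMonoidHom
  have hev : ∀ w, ev v w = e.symm (ev v11 w) := fun w => (map_ev v11 e.symm.toMonoidHom w).symm
  have hv5 : v 5 ≠ 1 := by
    intro h0
    have h1 : ev v [5] = 1 := by rw [ev_cons, ev_nil, mul_one, h0]
    have h2 : orderOf (ev v [5]) = 11 := by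
      rw [hev]
      exact (MulEquiv.orderOf_eq _ _).trans orders_11.2.2.2
    rw [h1, orderOf_one] at h2
    exact absurd h2 (by norm_num)
  have hcl : Subgroup.closure ({v 5, v 8} : Set P) = ⊤ := by
    have h2 := congrArg (Subgroup.map e.symm.toMonoidHom) closure_11
    rw [MonoidHom.map_closure, Set.image_pair, Subgroup.map_top_of_surjective _ e.symm.surjective] at h2
    exact h2
  refine ⟨dim_of_three hC hv hcl hv5 hn, Fr.of_reg' 3 ?_⟩
  intro g hg hreg
  have hreg' : ¬ 3 ∣ orderOf (⟨g, hg⟩ : P) := by rwa [Subgroup.orderOf_mk]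
  have h1 := tr_isConj (H180.KM11.m11_conj_cube hP ⟨g, hg⟩ hreg')
  have h2 := tr_pow_char 3 g 1
  rw [pow_one] at h2
  rw [← h2]
  exact h1.symm

/-- **Stage 1 for the Mathieu group of degree 11.** -/
theorem m11 (hC : Core P) (p : ℕ) [hp : Fact p.Prime] [CharP F p] (h : Spor.IsoM11 (Soc P))
    (hn : Fintype.card ι ≤ 12) :
    SD P ∨ (Fintype.card ι = 5 ∧ p = 3 ∧ Fr P p) ∨
      (Fintype.card ι = 10 ∧ (((p % 8 = 1 ∨ p % 8 = 3) ∧ Fr P p) ∨ ((p % 8 = 5 ∨ p % 8 = 7) ∧ Cj P p))) := by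
  by_cases hp3 : p = 3
  · subst hp3
    obtain ⟨h1 | h1, h2⟩ := m11_three hC h hn
    · exact Or.inr (Or.inl ⟨h1, rfl, h2⟩)
    · exact Or.inr (Or.inr ⟨h1, Or.inl ⟨Or.inr rfl, h2⟩⟩)
  · rcases m11_ne_three hC p hp3 h hn with h1 | h1
    · exact Or.inl h1
    · exact Or.inr (Or.inr h1)

end Cfsg.Agent.H6.M11
end
end
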