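import Mathlib
import Cfsg.Agent.CoThreeStd.MTwelveCent
import Cfsg.Agent.H994.TwoGen.M11
import Cfsg.Agent.H180.KM11Cube
import Cfsg.Agent.Prune
set_option linter.all false

-- part: H6/M11/Rel
section
prune_inst 0x7f00000000000000000000000000000000000000000000000000000000000000000000000000000000000000000000000000000000000000000000000000000000000000000000000000000000000000003fffffffffffffffffffffffffffbeffbdffffffff
set_option linter.all false
open scoped Cfsg.Agent.FastGrp

/-- decoders of the packed data (elaboration time only) -/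
private noncomputable def pk61d (b S i : Nat) : Nat := Nat.mod (Nat.shiftRight S (Nat.mul b i)) (Nat.shiftLeft (nat_lit 1) b)
private noncomputable def pk61c {α : Type} (t : Nat) (a : α) (f : Nat → α) : α := Nat.rec a (fun k _ => f k) t
private noncomputable def pk61f {α : Type} (t : Nat) (f : Nat → α) : α := Nat.rec (f Nat.zero) (fun k _ => f (Nat.succ k)) t
private noncomputable def pk61l {α : Type} (f : Nat → α) (s e : Nat) (tl : List α) : List α :=
  pk61f e fun e => Nat.rec tl (fun k ih => List.cons (pk61f (Nat.sub e (Nat.succ k)) f) ih) (Nat.sub e s)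
private noncomputable def pk61o {α : Type} (O : (n : Nat) → OfNat α n → α) (I : (n : Nat) → OfNat α n) (t : Nat) : α :=
  pk61c t (O (nat_lit 0) (I (nat_lit 0))) fun k => O (Nat.succ k) (I (Nat.succ k))

/-!
# Relations of the Mathieu group of degree 11 (helper6)

Letters: `0 = e₁, 1 = e₂` (elementary abelian of order 9), `2 = y, 3 = s` (semidihedral of order 16), `4 = e₃` (order 3,
centralizes `y⁴`), `5 = x` (order 11), `6 = d` (order 5, normalizes `x`), `7 = w` (`x, d, w` generate `L₂(11)`),
`8 = t`. `Sat v` : the elements `v 0, …, v 8` satisfy the relations `relL`.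
-/

set_option autoImplicit false
set_option maxRecDepth 100000

namespace Cfsg.Agent.H6.M11

/-- value of a word -/
def ev {G : Type*} [Group G] (v : ℕ → G) (w : List ℕ) : G := (w.map v).prod

/-- relations -/
noncomputable def baseL : List (List ℕ × List ℕ) :=
  (by
  refine (?fq9001 : (fun (On : (n : Nat) → OfNat Nat n → Nat) (In : (n : Nat) → OfNat Nat n) => ((pk61l (fun i1 => (_root_.Prod.mk ((fun g1 : Nat → Nat => pk61l (fun i2 => (pk61o On In (pk61d (nat_lit 4) 
    (nat_lit 0x3423332232322223122220222231344122022652223232323224222222234234222232120768585555555555885555555558855555555885555555885555558855555885555885558855885875555555555775555555557755555555775555555775555557755555775555775557755775788757575675677666665555555555543222242222222342342244441303120223332222222210111000) i2))) (g1 i1) (g1 (Nat.succ i1)) List.nil) fun j => (pk61d (nat_lit 9) 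
    (nat_lit 0x1369a4c65d2b93486391a8bc52230f85c1e06fa7bbd1e2ef76bb1d6ea74b75a4c85fadd60aa52a853c92439f4e86c3297cb456299449649239148035198b84a220f87034180b0502410040180600) j)) ((fun g1 : Nat → Nat => pk61l (fun i2 => (pk61o On In (pk61d (nat_lit 4) 
    (nat_lit 0x44332223222222322233322222222112222001134322022115556232222222222222222232342242222222343222222110021002222121040413023240432025555555557666655555855557668555555555555555555576666585555555555557666555555585555555555555755555855555555555555557666655558555555555766665585555555555555555576666585555555555557665855555555555766555585557565575555556665557555566555575556666555557555555555666655555575566555555575555555566655555555755555556555555555755555555555555575555555555766666555534442222422422222223423311302100210322201) i2))) (g1 i1) (g1 (Nat.succ i1)) List.nil) fun j => (pk61d (nat_lit 10) 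
    (nat_lit 0x20981a017e9f57c1ea791e177ddc761d4731c8701bd6e9b16a9a56859c65591629725954c4d52242cf3380d32fcbc2c8a72748a1f46b160480cc330cc2e0a4290a42909821078150481203c0d02406008020080000000) j)))) (nat_lit 0) (nat_lit 68) List.nil) : List (List ℕ × List ℕ)))
    = ?xq9001 → (List (List ℕ × List ℕ))) ?hq9001; (case hq9001 => (set_option maxRecDepth 1000000 in conv => lhs; reduce)); intro _; exact ?xq9001 (@OfNat.ofNat Nat) instOfNatNat : List (List ℕ × List ℕ))

/-- conjugations `(c, u, w)` : `c u = w c` -/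
noncomputable def certL : List (List ℕ × List ℕ × List ℕ) :=
  let y0 : List (List ℕ × List ℕ × List ℕ) := (by
  refine (?fq9002 : (fun (On : (n : Nat) → OfNat Nat n → Nat) (In : (n : Nat) → OfNat Nat n) => (pk61l (fun i0 => (_root_.Prod.mk ((fun g0 : Nat → Nat => pk61l (fun i1 => (pk61o On In (pk61d (nat_lit 4) 
    (nat_lit 0x1466044320741045575785740623534440470428437227241021086610066244435344343562485740047421212711243147220207031132886165345624434326441166641243427211084204) i1))) (g0 i0) (g0 (Nat.succ i0)) List.nil) fun j => (pk61d (nat_lit 8) 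
    (nat_lit 0x9a9894918e8b898886827f7b797774706e6d6a6866645f5d5b595553514d4949464442403d3a373433312f2d2b292625221e1c1915120f0d0c0b09060300) j)) (_root_.Prod.mk ((fun g0 : Nat → Nat => pk61l (fun i1 => (pk61o On In (pk61d (nat_lit 3) 
    (nat_lit 0x90124924fdb6db6da924927232424924990124924c9012492648092492f6db6db524924e449249c8d24925234924938c94924932124924c04924932424924c80924932404924c9092492202492489012492f6db6db6db6db524927224924a449249389249c8d249291a4924e34924946924926ca4924984924932524926424924c04924992124932024926480924c9492491092492012492448492488092491202492f6db6db6db6d4924e44924a449249c4924944927234925234924e34924a349249b492493292493092493252493212493) i1))) (g0 i0) (g0 (Nat.succ i0)) List.nil) fun j => (pk61d (nat_lit 10) 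
    (nat_lit 0x8ca2686e10815fa7bde4769d0719bc6c9a867994629805d96c5895853d464f5344ad224651041cfe3d4ec38cda344c82fcb62b4a426c92224801e0701a06016050120400e0300a0200601002000) j)) ((fun g0 : Nat → Nat => pk61l (fun i1 => (pk61o On In (pk61d (nat_lit 3) 
    (nat_lit 0x241a49349249500349249061a4924924924925aa41a49249061249249241b0d2483492492492492492492492492d6db6db6861a49249861a4920c3492) i1))) (g0 i0) (g0 (Nat.succ i0)) List.nil) fun j => (pk61d (nat_lit 8) 
    (nat_lit 0xa19f9e9d9b999891908f8e8c8b89878583817f78716f6e6d6c6b6968615f5e57555351504e4c4a48413a33312f28271d1b1912110f0e0d0c0a0806040200) j))))) (nat_lit 0) (nat_lit 61) List.nil : List (List ℕ × List ℕ × List ℕ)))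
    = ?xq9002 → (List (List ℕ × List ℕ × List ℕ))) ?hq9002; (case hq9002 => (set_option maxRecDepth 1000000 in conv => lhs; reduce)); intro _; exact ?xq9002 (@OfNat.ofNat Nat) instOfNatNat : List (List ℕ × List ℕ × List ℕ))
  let y1 : List (List ℕ × List ℕ × List ℕ) := (by
  refine (?fq9003 : (fun (On : (n : Nat) → OfNat Nat n → Nat) (In : (n : Nat) → OfNat Nat n) (tl : List (List ℕ × List ℕ × List ℕ)) => (pk61l (fun i0 => (_root_.Prod.mk ((fun g0 : Nat → Nat => pk61l (fun i1 => (pk61o On In (pk61d (nat_lit 4) 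
    (nat_lit 0x214322102228400181873320812662406324641166062422616347534328481432222102256610433232028087313542532132004666316663472614306214062242453424222210743743704382528433831366474465088701252166644244062) i1))) (g0 i0) (g0 (Nat.succ i0)) List.nil) fun j => (pk61d (nat_lit 8) 
    (nat_lit 0xc3c0bcb9b6b4b3b1b0aeaba9a6a4a19f9c999694918d8a89888683807d7a7673716e6c6a686663605e5a57534f4c4a4642403e3b393734302d2927252221201e1b18151312100b08060400) j)) (_root_.Prod.mk ((fun g0 : Nat → Nat => pk61l (fun i1 => (pk61o On In (pk61d (nat_lit 3) 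
    (nat_lit 0x249264849264049264809265249241249244a4924424924024924484924404924480925edb6db6db6a49391249489249c4924a249c8d24a46924e349251a4926d24926524930924992924c84926024932424990124c90126524920924912924884924024922424910124890125edb6db6da927224948924e249289391a4a469271a4946924da49265249849264a499092602499212640499202692491492412491292442490092448491012448097b6db6da9391252249c) i1))) (g0 i0) (g0 (Nat.succ i0)) List.nil) fun j => (pk61d (nat_lit 9) 
    (nat_lit 0x7afc7dbe9f2f87bbd9eaf479bc9e2f097dbb5bed161ad54e99459f4de61299146e290d833fdf0f17538db8d56731d82bb5aabd52a34ea5d228b429fcf2733699cc25b2a93c92431e8dc622b1287c3214078280a00) j)) ((fun g0 : Nat → Nat => pk61l (fun i1 => (pk61o On In (pk61d (nat_lit 3) 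
    (nat_lit 0x24186924924924924924924924924924c3b6db6db5b01b0c34924934920c369241a4924924924924924926d076db6db6861b4184924936906d24926d24924924924926da496a92492492490) i1))) (g0 i0) (g0 (Nat.succ i0)) List.nil) fun j => (pk61d (nat_lit 8) 
    (nat_lit 0xc9c7c5c3c1bab3b1afada69f9e9c9291908f8e8d8c8a8881807e7c7a78777573716f6d665f585756555349474544434140393837353332302e2c2b2a28261f18171615141311100f080100) j))))) (nat_lit 0) (nat_lit 74) tl : List (List ℕ × List ℕ × List ℕ)))
    = ?xq9003 → (List (List ℕ × List ℕ × List ℕ))) ?hq9003; (case hq9003 => (set_option maxRecDepth 1000000 in conv => lhs; reduce)); intro _; exact ?xq9003 (@OfNat.ofNat Nat) instOfNatNat y0 : List (List ℕ × List ℕ × List ℕ))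
  (by
  refine (?fq9004 : (fun (On : (n : Nat) → OfNat Nat n → Nat) (In : (n : Nat) → OfNat Nat n) (tl : List (List ℕ × List ℕ × List ℕ)) => (pk61l (fun i0 => (_root_.Prod.mk ((fun g0 : Nat → Nat => pk61l (fun i1 => (pk61o On In (pk61d (nat_lit 4) 
    (nat_lit 0x6441443062316632210431437328218241604581713666217331320000075342063534306244263416661444332113274408431441753428812011017032123757634611660621420625343255631431118372121002072227301164662062443444710732282754263422) i1))) (g0 i0) (g0 (Nat.succ i0)) List.nil) fun j => (pk61d (nat_lit 8) 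
    (nat_lit 0xd6d2d1d0ccc8c7c5c1bebbb8b6b2aeacaba9a6a4a29f9e9c9b9a9693908c8b898683817f7f7d7a7774706d6c6b68666462615f5e5c5a575453514f4c48474340403e3b3736343332312f2d2b292726221e1c181716141412110f0e0b0908050200) j)) (_root_.Prod.mk ((fun g0 : Nat → Nat => pk61l (fun i1 => (pk61o On In (pk61d (nat_lit 3) 
    (nat_lit 0x49289c8d291a4e34946926d249949309264a4c84980932426404c901a492292412489491092012448488091202db6f6db6d4e44a449c4947235234e34a349b493293093253213013243203492292092252212012242202240db7b6dae452271292371a8d36932984c964301a48a412251080448206dedb238a46da6594112401e1) i1))) (g0 i0) (g0 (Nat.succ i0)) List.nil) fun j => (pk61d (nat_lit 9) 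
    (nat_lit 0x158a9d3a93449fcea6b3095c9a431c8bc4a1b0881bf9f2f477ba9cae06e361a8d06632188c05e2e168b0562a148a04e26128904622108803e1e0e870361a4cc6330174b4572a1449c4b24114843f1e0e46c33180b45427120843e1d0d8642e15098441e0d058240e05018080200) j)) ((fun g0 : Nat → Nat => pk61l (fun i1 => (pk61o On In (pk61d (nat_lit 3) 
    (nat_lit 0x1a4924900d34920c30d24834924936924925b501301b49249249061a4924186d24924921adb6db6dad861b01349261869249240616db6db686924926934800c0) i1))) (g0 i0) (g0 (Nat.succ i0)) List.nil) fun j => (pk61d (nat_lit 8) 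
    (nat_lit 0xaba9a2a1a09e9d9c9a98969492908e8c8584838281807e7c7b7a79787776757473717069676563615f5d5b595756555452504e4d4c4b4a403f3e3d3b39383736353432302f2d2b2a28262524232221201f1514130c0b0b09080706050403020100) j))))) (nat_lit 0) (nat_lit 96) tl : List (List ℕ × List ℕ × List ℕ)))
    = ?xq9004 → (List (List ℕ × List ℕ × List ℕ))) ?hq9004; (case hq9004 => (set_option maxRecDepth 1000000 in conv => lhs; reduce)); intro _; exact ?xq9004 (@OfNat.ofNat Nat) instOfNatNat y1 : List (List ℕ × List ℕ × List ℕ))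

/-- relations of `L₂(11)`, letters `5, 6, 7` -/
noncomputable def baseLL : List (List ℕ × List ℕ) :=
  (by
  refine (?fq9005 : (fun (On : (n : Nat) → OfNat Nat n → Nat) (In : (n : Nat) → OfNat Nat n) => ((pk61l (fun i1 => (_root_.Prod.mk ((fun g1 : Nat → Nat => pk61l (fun i2 => (pk61o On In (pk61d (nat_lit 3) 
    (nat_lit 0x1edb6db6dfedb6db6ff6db6dbfdb6db7fb6db7fb6dbfdb6ff6dfedfeff6db7db6df6db7db6df6db7db6dfb7d6ef7df7fdb6d6db6db6d) i2))) (g1 i1) (g1 (Nat.succ i1)) List.nil) fun j => (pk61d (nat_lit 8) 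
    (nat_lit 0x8f83786e655d56504b4744201e1c1a1812100b00) j)) ((fun g1 : Nat → Nat => pk61l (fun i2 => (pk61o On In (pk61d (nat_lit 3) 
    (nat_lit 0x17dd6fb6db76d6df6dbb5b6fb6edb5b6df6db6db76dadb6df6ed6db6df6db6dbb6b6db6df6db6dd6db6db7db6db6db6db7db6db6dbb6dfedb5b76b6d) i2))) (g1 i1) (g1 (Nat.succ i1)) List.nil) fun j => (pk61d (nat_lit 8) 
    (nat_lit 0x9f9c92877d6a5d4b382813130e09050000000000) j)))) (nat_lit 0) (nat_lit 19) List.nil) : List (List ℕ × List ℕ)))
    = ?xq9005 → (List (List ℕ × List ℕ))) ?hq9005; (case hq9005 => (set_option maxRecDepth 1000000 in conv => lhs; reduce)); intro _; exact ?xq9005 (@OfNat.ofNat Nat) instOfNatNat : List (List ℕ × List ℕ))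

/-- conjugations in `L₂(11)` -/
noncomputable def certLL : List (List ℕ × List ℕ × List ℕ) :=
  (by
  refine (?fq9006 : (fun (On : (n : Nat) → OfNat Nat n → Nat) (In : (n : Nat) → OfNat Nat n) => ((pk61l (fun i1 => (_root_.Prod.mk ((fun g1 : Nat → Nat => pk61l (fun i2 => (pk61o On In (pk61d (nat_lit 3) 
    (nat_lit 0x1aed6db6db6db6db6db6db6db6db6db6db6db6db6dbafbaeb6db6db6db6db6db7db6db6db6db6db76bb7bb5b6db6db6db6ddadf6eb6db6db6db6db6db6db6db6db6db75f7ef6db6db6db76db5b6db6db6db6db6db75faedbef6db6db6db6db6db6ef6fdf7b6db6db6db7dfb6d6db76) i2))) (g1 i1) (g1 (Nat.succ i1)) List.nil) fun j => (pk61d (nat_lit 9) 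
    (nat_lit 0x93c8e3f178a44e1b0680be1eaef7437dbcd469b459ecb62af96eb557aa14ca44ea7124883f9dce46f361a8ca622f974ac512811c823e1e0ec662b138843c1d0e0601c0b0501c0400) j)) (_root_.Prod.mk ((fun g1 : Nat → Nat => pk61l (fun i2 => (pk61o On In (Nat.add (nat_lit 5) (pk61d (nat_lit 2) 
    (nat_lit 0x80080080000000550000154000015000055000015000005000154000150000140000180000000154000540001400006000000055000540005000060000000000154005400140006000000000550054005000600000001540540140040015615415014018000056551505018000595141800610) i2)))) (g1 i1) (g1 (Nat.succ i1)) List.nil) fun j => (pk61d (nat_lit 9) 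
    (nat_lit 0xe66eb599fc961af56eb1d629b429bcb6471987c15f8f375385b0cf63afd6eaf53a7d30914520cf875379a4c65d2b9489a48218f87234180b050241007030150903c1809030100400) j)) ((fun g1 : Nat → Nat => pk61l (fun i2 => (pk61o On In (pk61d (nat_lit 3) 
    (nat_lit 0x7db6db6db6db6db6db6db6dbddb6db6daedb6db6daedb6db6db5b6db6dbb6db6db7b6db6db6db6edb6db6d6db6db6fdb6db6db6bf6db6dafdb6d6db6db6dfadb6db6d) i2))) (g1 i1) (g1 (Nat.succ i1)) List.nil) fun j => (pk61d (nat_lit 8) 
    (nat_lit 0xb1b0aca8a5a19e9c98959392908c89878685817e7c7b7a797572706f6d635f5c5a5953494542403f3534302d2b2a2827262522201f1e1d1c1a18170d0c0b0a00) j))))) (nat_lit 0) (nat_lit 63) List.nil) : List (List ℕ × List ℕ × List ℕ)))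
    = ?xq9006 → (List (List ℕ × List ℕ × List ℕ))) ?hq9006; (case hq9006 => (set_option maxRecDepth 1000000 in conv => lhs; reduce)); intro _; exact ?xq9006 (@OfNat.ofNat Nat) instOfNatNat : List (List ℕ × List ℕ × List ℕ))

/-- all relations of `L₂(11)` -/
noncomputable def relLL : List (List ℕ × List ℕ) := baseLL ++ certLL.map fun r => (r.1 ++ r.2.1, r.2.2 ++ r.1)

/-- all relations -/
noncomputable def relL : List (List ℕ × List ℕ) := (baseL ++ certL.map fun r => (r.1 ++ r.2.1, r.2.2 ++ r.1)) ++ relLL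

/-- the relations of `L₂(11)` hold -/
def SatL {G : Type*} [Group G] (v : ℕ → G) : Prop := ∀ r ∈ relLL, ev v r.1 = ev v r.2

/-- the relations hold -/
def Sat {G : Type*} [Group G] (v : ℕ → G) : Prop := ∀ r ∈ relL, ev v r.1 = ev v r.2

section

variable {G : Type*} [Group G] (v : ℕ → G)

@[simp] theorem ev_nil : ev v [] = 1 := rfl

theorem ev_cons (i : ℕ) (w : List ℕ) : ev v (i :: w) = v i * ev v w := by simp [ev]

theorem ev_append (u w : List ℕ) : ev v (u ++ w) = ev v u * ev v w := by simp [ev]

theorem map_ev {H : Type*} [Group H] (f : G →* H) (w : List ℕ) : f (ev v w) = ev (fun i => f (v i)) w := by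
  induction w with
  | nil => simp
  | cons i w ih => rw [ev_cons, map_mul, ih, ev_cons]

variable {v}

theorem Sat.map {H : Type*} [Group H] (h : Sat v) (f : G →* H) : Sat (fun i => f (v i)) := by
  intro r hr
  rw [← map_ev, ← map_ev, h r hr]

theorem Sat.of_injective {H : Type*} [Group H] {f : G →* H} (hf : Function.Injective f)
    (h : Sat (fun i => f (v i))) : Sat v := by
  intro r hr
  apply hf
  rw [map_ev, map_ev]
  exact h r hr

theorem Sat.base (h : Sat v) {a b : List ℕ} (hr : (a, b) ∈ baseL) : ev v a = ev v b :=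
  h (a, b) (List.mem_append_left _ (List.mem_append_left _ hr))

theorem Sat.cert (h : Sat v) {c a b : List ℕ} (hr : (c, a, b) ∈ certL) : ev v c * ev v a = ev v b * ev v c := by
  rw [← ev_append, ← ev_append]
  exact h (c ++ a, b ++ c) (List.mem_append_left _ (List.mem_append_right _ (List.mem_map.2 ⟨(c, a, b), hr, rfl⟩)))

theorem Sat.toL (h : Sat v) : SatL v := fun r hr => h r (List.mem_append_right _ hr)

theorem SatL.base (h : SatL v) {a b : List ℕ} (hr : (a, b) ∈ baseLL) : ev v a = ev v b :=
  h (a, b) (List.mem_append_left _ hr)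

theorem SatL.cert (h : SatL v) {c a b : List ℕ} (hr : (c, a, b) ∈ certLL) : ev v c * ev v a = ev v b * ev v c := by
  rw [← ev_append, ← ev_append]
  exact h (c ++ a, b ++ c) (List.mem_append_right _ (List.mem_map.2 ⟨(c, a, b), hr, rfl⟩))

theorem SatL.of_injective {H : Type*} [Group H] {f : G →* H} (hf : Function.Injective f)
    (h : SatL (fun i => f (v i))) : SatL v := by
  intro r hr
  apply hf
  rw [map_ev, map_ev]
  exact h r hr

end

end Cfsg.Agent.H6.M11

private theorem dce_aa505b80788d : _root_.True := by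
  try have : _root_.True := by simp only [_root_.Cfsg.Agent.H6.M11.ev.eq_1]
  exact _root_.True.intro
end

-- part: H6/M11/Reps
section
set_option linter.all false
open scoped Cfsg.Agent.FastGrp

-- part: H6/M11/Model
section
/-!
# The relations hold in the Mathieu groups of degrees 11 and 12 (helper6)
-/

set_option autoImplicit false
set_option maxRecDepth 100000

namespace Cfsg.Agent.H6.M11

open Cfsg Cfsg.Agent.CoThreeStd.MTwelve Cfsg.Agent.SporadicStructure.M11InvPerms

/-- words of the letters in the generators `y, p, q, r, s, b` of the group of degree 12 -/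
def W : ℕ → List ℕ
  | 0 => [5,2,3,4,5,1,0,5]
  | 1 => [0,5,2,3,1,5,1,5,3]
  | 2 => [3,4,5,1,5,4,1]
  | 3 => [2,3,1,2]
  | 4 => [1,5,4,5,1,5,1,2,3,0]
  | 5 => [2,5,1,2,3,4,5]
  | 6 => [4,3,5,3,4,1]
  | 7 => [2,5,3,1,0,5,2,1]
  | 8 => [5,1,2,3,4,2,3,2,1,5]
  | _ => []

/-- the letters in the group of degree 12 -/
def vH (i : ℕ) : Spor.M12 := wd (W i)

theorem ev_vH (w : List ℕ) : ev vH w = wd (w.flatMap W) := by
  induction w with
  | nil => rfl
  | cons i w ih => rw [ev_cons, ih, List.flatMap_cons, wd_append]; rfl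

private def ltT : ℕ := 0x170e0b14130407060a160d03150f0108111005120c020900000000000000000014160b1713010a10070e08031511040d0f0605090c02120000000000000000000e160b1513060f0c07140809170504120a01110310020d00000000000000000005160b0714010a08111504020f17100c0e03130912060d000000000000000000170a16110e120f061407030c0b1510021309050d040108000000000000000000170a1513140c07060e0f0d120b160902111005030408010000000000000000000a1716110e040506130b08020715090c14100f0d12010300000000000000000014071513170c0a10161108090b0e12020f060503010d040000000000000000001707051413080e10160a010215110d040f060b120c030900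

private noncomputable def ltS (i x : ℕ) : ℕ :=
  Bool.rec x (Nat.land (Nat.shiftRight ltT (Nat.add (Nat.shiftLeft i 8) (Nat.shiftLeft x 3))) 255) (Nat.ble i 8)

private noncomputable def ltA (w : List ℕ) (x : ℕ) : ℕ := List.rec x (fun i _ ih => ltS i ih) w

private theorem ltS_eq (i x : ℕ) (hx : x < 24) : ltS i x = act (W i) x := by
  rcases Nat.lt_or_ge i 9 with hi | hi
  · have h : ∀ i < 9, ∀ x < 24, ltS i x = act (W i) x := by decide +kernel
    exact h i hi x hx
  · obtain ⟨k, rfl⟩ := Nat.exists_eq_add_of_le hi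
    rw [Nat.add_comm]
    rfl

private theorem act_app (u w : List ℕ) (x : ℕ) : act (u ++ w) x = act u (act w x) := by
  induction u with
  | nil => rfl
  | cons i u ih => exact congrArg (fun y => (ptab i >>> (5 * y)) % 32) ih

private theorem ltA_eq (w : List ℕ) (x : ℕ) (hx : x < 24) : ltA w x = act (w.flatMap W) x := by
  induction w with
  | nil => rfl
  | cons i w ih =>
    rw [List.flatMap_cons, act_app, ← ltS_eq i _ (act_spec _ x hx).2, ← ih]
    rfl

private noncomputable def ltC (l : List (List ℕ × List ℕ)) : Bool :=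
  List.rec true (fun r _ ih => Bool.rec false ih (allB (fun x => Nat.beq (ltA r.1 x) (ltA r.2 x)) 24)) l

private theorem ltC_spec {l : List (List ℕ × List ℕ)} (h : ltC l = true) :
    ∀ r ∈ l, allB (fun x => Nat.beq (ltA r.1 x) (ltA r.2 x)) 24 = true := by
  induction l with
  | nil => intro r hr; cases hr
  | cons a l ih =>
    have h' : (Bool.rec false (ltC l) (allB (fun x => Nat.beq (ltA a.1 x) (ltA a.2 x)) 24) : Bool) = true := h
    cases e : allB (fun x => Nat.beq (ltA a.1 x) (ltA a.2 x)) 24
    · rw [e] at h'; cases h'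
    · rw [e] at h'
      intro r hr
      rcases List.mem_cons.1 hr with rfl | hr
      · exact e
      · exact ih h' r hr

theorem sat_H : Sat vH := by
  have h : ltC relL = true := by decide +kernel
  intro r hr
  rw [ev_vH, ev_vH]
  refine Subtype.ext (Equiv.ext fun z => ?_)
  have h2 := Nat.eq_of_beq_eq_true (allB_spec _ _ (ltC_spec h r hr) (enc z) (enc_lt z))
  rw [ltA_eq _ _ (enc_lt z), ltA_eq _ _ (enc_lt z), ← (act_spec _ _ (enc_lt z)).1, ← (act_spec _ _ (enc_lt z)).1,
    dec_enc] at h2
  rw [← dec_enc ((wd _).1 z), h2, dec_enc]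

theorem W_fix (i : ℕ) : act (W i) 0 = 0 := by
  rcases Nat.lt_or_ge i 9 with hi | hi
  · have h : ∀ i : Fin 9, act (W i) 0 = 0 := by decide +kernel
    exact h ⟨i, hi⟩
  · obtain ⟨k, rfl⟩ := Nat.exists_eq_add_of_le hi
    rw [Nat.add_comm]
    rfl

theorem vH_mem (i : ℕ) : (vH i : Equiv.Perm GolayPt) ∈ Spor.M11 := by
  refine Subgroup.mem_inf.2 ⟨(vH i).2, ?_⟩
  rw [MulAction.mem_stabilizer_iff]
  have h1 := (act_spec (W i) 0 (by norm_num)).1
  rw [W_fix] at h1
  have h2 : dec 0 = (some 0 : GolayPt) := by decide +kernel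
  have h3 := congrArg dec h1
  rw [dec_enc, h2] at h3
  exact h3

/-- the letters in the group of degree 11 -/
def v11 (i : ℕ) : Spor.M11 := ⟨vH i, vH_mem i⟩

theorem M11_le : Spor.M11 ≤ Spor.M12 := inf_le_left

theorem sat_11 : Sat v11 :=
  Sat.of_injective (f := Subgroup.inclusion M11_le) (Subgroup.inclusion_injective _) sat_H

theorem v11_five : (v11 5 : Equiv.Perm GolayPt) = Cfsg.Agent.H994.TwoGen.M11.X := by
  show ((wd (W 5)).1 : Equiv.Perm GolayPt) = _
  ext1 z
  have h1 := (act_spec (W 5) (enc z) (enc_lt z)).1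
  rw [dec_enc] at h1
  have h2 : ∀ z, act (W 5) (enc z) = enc (Cfsg.Agent.H994.TwoGen.M11.X z) := by decide +kernel
  rw [← dec_enc ((wd (W 5)).1 z), h1, h2, dec_enc]

theorem v11_eight : (v11 8 : Equiv.Perm GolayPt) = Cfsg.Agent.H994.TwoGen.M11.Y := by
  show ((wd (W 8)).1 : Equiv.Perm GolayPt) = _
  ext1 z
  have h1 := (act_spec (W 8) (enc z) (enc_lt z)).1
  rw [dec_enc] at h1
  have h2 : ∀ z, act (W 8) (enc z) = enc (Cfsg.Agent.H994.TwoGen.M11.Y z) := by decide +kernel
  rw [← dec_enc ((wd (W 8)).1 z), h1, h2, dec_enc]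

/-- `x` and `t` generate -/
theorem closure_11 : Subgroup.closure ({v11 5, v11 8} : Set Spor.M11) = ⊤ := by
  rw [eq_top_iff]
  intro g _
  have h1 : (Subgroup.closure ({v11 5, v11 8} : Set Spor.M11)).map Spor.M11.subtype =
      Subgroup.closure {Cfsg.Agent.H994.TwoGen.M11.X, Cfsg.Agent.H994.TwoGen.M11.Y} := by
    rw [MonoidHom.map_closure, Set.image_pair, Subgroup.coe_subtype, v11_five, v11_eight]
  rw [Cfsg.Agent.H994.TwoGen.M11.closure_eq] at h1
  have h2 : (g : Equiv.Perm GolayPt) ∈ (Subgroup.closure ({v11 5, v11 8} : Set Spor.M11)).map Spor.M11.subtype := by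
    rw [h1]; exact g.2
  obtain ⟨a, ha, hag⟩ := h2
  rwa [← Subtype.ext hag]

end Cfsg.Agent.H6.M11
end

-- part: H6/M11/Reps
section
/-!
# Class representatives of the Mathieu group of degree 11 (helper6)
-/

set_option autoImplicit false
set_option maxRecDepth 100000

namespace Cfsg.Agent.H6.M11

open Subgroup Cfsg.Agent.H92.KTools Cfsg.Agent.Cit.Eleven Cfsg.Agent.H180.KM11
open Cfsg.Agent
open Cfsg.Agent.CoThreeStd.MTwelve (eqW)

variable {L : Type*} [Group L]

/-- the list of the representatives built from elements of orders 6, 8, 5, 11 -/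
def repsOf (x6 x8 x5 x11 : L) : Fin 10 → L := ![1, x6 ^ 3, x6 ^ 2, x8 ^ 2, x5, x6, x8, x8⁻¹, x11, x11⁻¹]

/-- the orders of the representatives -/
def ordsOf : Fin 10 → ℕ := ![1, 2, 3, 4, 5, 6, 8, 8, 11, 11]

theorem orderOf_reps {x6 x8 x5 x11 : L} (h6 : orderOf x6 = 6) (h8 : orderOf x8 = 8) (h5 : orderOf x5 = 5)
    (h11 : orderOf x11 = 11) (i : Fin 10) : orderOf (repsOf x6 x8 x5 x11 i) = ordsOf i := by
  have h3 : orderOf (x6 ^ 2) = 3 := by
    rw [orderOf_pow_of_dvd (by norm_num) (by rw [h6]; norm_num), h6]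
  have h2 : orderOf (x6 ^ 3) = 2 := by
    rw [orderOf_pow_of_dvd (by norm_num) (by rw [h6]; norm_num), h6]
  have h4 : orderOf (x8 ^ 2) = 4 := by
    rw [orderOf_pow_of_dvd (by norm_num) (by rw [h8]; norm_num), h8]
  have h8i : orderOf x8⁻¹ = 8 := by rw [orderOf_inv, h8]
  have h11i : orderOf x11⁻¹ = 11 := by rw [orderOf_inv, h11]
  fin_cases i
  · exact orderOf_one
  · exact h2
  · exact h3
  · exact h4
  · exact h5
  · exact h6
  · exact h8
  · exact h8i
  · exact h11
  · exact h11i

/-- every element is conjugate to one of the representatives -/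
theorem exists_rep (h : Cfsg.Spor.IsoM11 L) {x6 x8 x5 x11 : L} (h6 : orderOf x6 = 6) (h8 : orderOf x8 = 8)
    (h5 : orderOf x5 = 5) (h11 : orderOf x11 = 11) (g : L) :
    ∃ i, IsConj (repsOf x6 x8 x5 x11 i) g ∧ orderOf g = ordsOf i := by
  have := Cfsg.Agent.Cit.Eleven.finite h
  have hG := isM11 h
  have hcard : Nat.card L = 7920 := hG.2
  have ho := orderOf_reps h6 h8 h5 h11
  have h1 := ho 1
  have h2 := ho 2
  have h3 := ho 3
  have h7 := ho 7
  have h9 := ho 9
  change orderOf (x6 ^ 3) = 2 at h1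
  change orderOf (x6 ^ 2) = 3 at h2
  change orderOf (x8 ^ 2) = 4 at h3
  change orderOf x8⁻¹ = 8 at h7
  change orderOf x11⁻¹ = 11 at h9
  have n8 := not_isConj_eight h h8
  have n11 := SporadicA.M11Sylow.not_isConj_inv hG h11
  let s : Fin 10 → ℕ := ![1, 165, 440, 990, 1584, 1320, 990, 990, 720, 720]
  obtain ⟨i, hi⟩ := exists_isConj_of_class (repsOf x6 x8 x5 x11) s (by
    intro i j hij
    have h0 : ordsOf i = ordsOf j := by rw [← ho, ← ho]; exact orderOf_eq_of_isConj hij
    have key : ∀ i j : Fin 10, ordsOf i = ordsOf j → i = j ∨ (i = 6 ∧ j = 7) ∨ (i = 7 ∧ j = 6) ∨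
        (i = 8 ∧ j = 9) ∨ (i = 9 ∧ j = 8) := by decide
    rcases key i j h0 with hh | ⟨rfl, rfl⟩ | ⟨rfl, rfl⟩ | ⟨rfl, rfl⟩ | ⟨rfl, rfl⟩
    · exact hh
    · exact absurd hij n8
    · exact absurd hij.symm n8
    · exact absurd hij n11
    · exact absurd hij.symm n11) (by
    intro i
    rw [hcard]
    have hc1 : Nat.card (centralizer ({(1 : L)} : Set L)) ≤ 7920 := by
      rw [← hcard]; exact Nat.card_le_card_of_injective _ (Subgroup.subtype_injective _)
    have hc2 := SporadicA.M11Facts.card_centralizer_two hG h1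
    have hc3 := SporadicA.M11Facts2.card_centralizer_three hG h2
    have hc4 := card_four h h3
    have hc5 := SporadicA.M11Facts.card_centralizer_five hG h5
    have hc6 := card_six h h6
    have hc8 := card_eight h h8
    have hc8i := card_eight h h7
    have hc11 := SporadicA.M11Sylow.card_centralizer_eleven hG h11
    have hc11i := SporadicA.M11Sylow.card_centralizer_eleven hG h9
    fin_cases i
    · show 1 * Nat.card (centralizer ({(1 : L)} : Set L)) ≤ 7920
      omega
    · show 165 * Nat.card (centralizer ({x6 ^ 3} : Set L)) ≤ 7920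
      omega
    · show 440 * Nat.card (centralizer ({x6 ^ 2} : Set L)) ≤ 7920
      omega
    · show 990 * Nat.card (centralizer ({x8 ^ 2} : Set L)) ≤ 7920
      omega
    · show 1584 * Nat.card (centralizer ({x5} : Set L)) ≤ 7920
      omega
    · show 1320 * Nat.card (centralizer ({x6} : Set L)) ≤ 7920
      omega
    · show 990 * Nat.card (centralizer ({x8} : Set L)) ≤ 7920
      omega
    · show 990 * Nat.card (centralizer ({x8⁻¹} : Set L)) ≤ 7920
      omega
    · show 720 * Nat.card (centralizer ({x11} : Set L)) ≤ 7920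
      omega
    · show 720 * Nat.card (centralizer ({x11⁻¹} : Set L)) ≤ 7920
      omega) (by
    rw [hcard]
    decide) g
  exact ⟨i, hi, by rw [← ho]; exact (orderOf_eq_of_isConj hi).symm⟩

variable {T : Type*}

/-- a class function depends only on the order, except for the orders 8 and 11 -/
theorem eq_of_order (h : Cfsg.Spor.IsoM11 L) {x6 x8 x5 x11 : L} (h6 : orderOf x6 = 6) (h8 : orderOf x8 = 8)
    (h5 : orderOf x5 = 5) (h11 : orderOf x11 = 11) (χ : L → T) (hχ : ∀ a b, IsConj a b → χ a = χ b)
    (hr8 : χ x8⁻¹ = χ x8) (hr11 : χ x11⁻¹ = χ x11) {a b : L} (hab : orderOf a = orderOf b) : χ a = χ b := by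
  obtain ⟨i, hi, hi'⟩ := exists_rep h h6 h8 h5 h11 a
  obtain ⟨j, hj, hj'⟩ := exists_rep h h6 h8 h5 h11 b
  rw [← hχ _ _ hi, ← hχ _ _ hj]
  have key : ∀ i j : Fin 10, ordsOf i = ordsOf j → i = j ∨ (i = 6 ∧ j = 7) ∨ (i = 7 ∧ j = 6) ∨
      (i = 8 ∧ j = 9) ∨ (i = 9 ∧ j = 8) := by decide
  rcases key i j (by rw [← hi', ← hj', hab]) with hh | ⟨rfl, rfl⟩ | ⟨rfl, rfl⟩ | ⟨rfl, rfl⟩ | ⟨rfl, rfl⟩
  · rw [hh]
  · exact hr8.symm
  · exact hr8
  · exact hr11.symm
  · exact hr11

/-- the same without elements of order 8 -/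
theorem eq_of_order' (h : Cfsg.Spor.IsoM11 L) {x6 x8 x5 x11 : L} (h6 : orderOf x6 = 6) (h8 : orderOf x8 = 8)
    (h5 : orderOf x5 = 5) (h11 : orderOf x11 = 11) (χ : L → T) (hχ : ∀ a b, IsConj a b → χ a = χ b)
    (hr11 : χ x11⁻¹ = χ x11) {a b : L} (hab : orderOf a = orderOf b) (ha : orderOf a ≠ 8) : χ a = χ b := by
  obtain ⟨i, hi, hi'⟩ := exists_rep h h6 h8 h5 h11 a
  obtain ⟨j, hj, hj'⟩ := exists_rep h h6 h8 h5 h11 b
  rw [← hχ _ _ hi, ← hχ _ _ hj]
  have key : ∀ i j : Fin 10, ordsOf i = ordsOf j → i = j ∨ (i = 6 ∧ j = 7) ∨ (i = 7 ∧ j = 6) ∨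
      (i = 8 ∧ j = 9) ∨ (i = 9 ∧ j = 8) := by decide
  rcases key i j (by rw [← hi', ← hj', hab]) with hh | ⟨rfl, rfl⟩ | ⟨rfl, rfl⟩ | ⟨rfl, rfl⟩ | ⟨rfl, rfl⟩
  · rw [hh]
  · exact absurd hi' ha
  · exact absurd hi' ha
  · exact hr11.symm
  · exact hr11

/-! ### orders of the letters -/

theorem letter_facts : eqW (W 0) [] = false ∧ eqW (W 5) [] = false ∧ eqW (W 6) [] = false ∧
    eqW ([2, 2, 2, 2].flatMap W) [] = false ∧ eqW ([3, 0, 3, 0].flatMap W) [] = false ∧
    eqW ([3, 0, 3, 0, 3, 0].flatMap W) [] = false := by decide +kernel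

theorem ev_ne {w : List ℕ} (hw : Cfsg.Agent.CoThreeStd.MTwelve.eqW (w.flatMap W) [] = false) : ev v11 w ≠ 1 := by
  intro h
  have h1 := congrArg (Subgroup.inclusion M11_le) h
  rw [map_ev, map_one] at h1
  have h2 : ev vH w = 1 := h1
  rw [ev_vH] at h2
  have h3 := Cfsg.Agent.CoThreeStd.MTwelve.eqW_of_wd (l := w.flatMap W) (l' := []) h2
  rw [hw] at h3
  exact Bool.false_ne_true h3

theorem ev_pow {G : Type*} [Group G] (v : ℕ → G) (w : List ℕ) (n : ℕ) :
    (ev v w) ^ n = ev v ((List.replicate n w).flatten) := by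
  induction n with
  | zero => rw [pow_zero, List.replicate_zero]; rfl
  | succ n ih => rw [pow_succ', ih, List.replicate_succ, List.flatten_cons, ev_append]

section orders

variable {G : Type*} [Group G] {v : ℕ → G}

theorem Sat.order_five (h : Sat v) (hne : ev v [6] ≠ 1) : orderOf (ev v [6]) = 5 := by
  have : Fact (Nat.Prime 5) := ⟨by norm_num⟩
  refine orderOf_eq_prime ?_ hne
  rw [ev_pow, ← ev_nil v]
  exact h.base (by decide +kernel)

theorem Sat.order_eleven (h : Sat v) (hne : ev v [5] ≠ 1) : orderOf (ev v [5]) = 11 := by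
  have : Fact (Nat.Prime 11) := ⟨by norm_num⟩
  refine orderOf_eq_prime ?_ hne
  rw [ev_pow, ← ev_nil v]
  exact h.base (by decide +kernel)

theorem Sat.order_eight (h : Sat v) (hne : ev v [2, 2, 2, 2] ≠ 1) : orderOf (ev v [2]) = 8 := by
  have : Fact (Nat.Prime 2) := ⟨by norm_num⟩
  have h1 : orderOf (ev v [2]) = 2 ^ (2 + 1) := by
    refine orderOf_eq_prime_pow ?_ ?_
    · rw [ev_pow]; exact hne
    · rw [ev_pow, ← ev_nil v]
      exact h.base (by decide +kernel)
  rw [h1]
  norm_num

theorem Sat.order_six (h : Sat v) (h2 : ev v [3, 0, 3, 0] ≠ 1) (h3 : ev v [3, 0, 3, 0, 3, 0] ≠ 1) :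
    orderOf (ev v [3, 0]) = 6 := by
  refine orderOf_eq_of_pow_and_pow_div_prime (by norm_num) ?_ ?_
  · have c : Commute (ev v [3]) (ev v [0]) := by
      show ev v [3] * ev v [0] = ev v [0] * ev v [3]
      rw [← ev_append, ← ev_append]
      exact h.base (by decide +kernel)
    have e : ev v [3, 0] = ev v [3] * ev v [0] := ev_append v [3] [0]
    have e1 : ev v [3] ^ 2 = 1 := by
      rw [ev_pow, ← ev_nil v]
      exact h.base (by decide +kernel)
    have e2 : ev v [0] ^ 3 = 1 := by
      rw [ev_pow, ← ev_nil v]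
      exact h.base (by decide +kernel)
    rw [e, c.mul_pow, show 6 = 2 * 3 by norm_num, pow_mul, e1, one_pow, one_mul, mul_comm 2 3, pow_mul, e2, one_pow]
  · intro p hp hd
    have h4 : p = 2 ∨ p = 3 := by
      have h5 : p ∣ 2 * 3 := hd
      rcases (Nat.Prime.dvd_mul hp).1 h5 with h6 | h6
      · exact Or.inl ((Nat.prime_dvd_prime_iff_eq hp (by norm_num)).1 h6)
      · exact Or.inr ((Nat.prime_dvd_prime_iff_eq hp (by norm_num)).1 h6)
    rcases h4 with rfl | rfl
    · rw [show 6 / 2 = 3 by norm_num, ev_pow]; exact h3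
    · rw [show 6 / 3 = 2 by norm_num, ev_pow]; exact h2

end orders

theorem orders_11 : orderOf (ev v11 [3, 0]) = 6 ∧ orderOf (ev v11 [2]) = 8 ∧ orderOf (ev v11 [6]) = 5 ∧
    orderOf (ev v11 [5]) = 11 :=
  ⟨sat_11.order_six (ev_ne letter_facts.2.2.2.2.1) (ev_ne letter_facts.2.2.2.2.2),
    sat_11.order_eight (ev_ne letter_facts.2.2.2.1), sat_11.order_five (ev_ne (by
      rw [List.flatMap_cons, List.flatMap_nil, List.append_nil]; exact letter_facts.2.2.1)),
    sat_11.order_eleven (ev_ne (by
      rw [List.flatMap_cons, List.flatMap_nil, List.append_nil]; exact letter_facts.2.1))⟩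

theorem v11_zero_ne : v11 0 ≠ 1 := by
  have h := ev_ne (w := [0]) (by rw [List.flatMap_cons, List.flatMap_nil, List.append_nil]; exact letter_facts.1)
  rwa [ev_cons, ev_nil, mul_one] at h

end Cfsg.Agent.H6.M11
end
end
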