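import Cfsg.Agent.H6.M11.Reps
import Cfsg.Agent.H6.M11.Lin
import Cfsg.Agent.H906.Cover_m3
import Cfsg.Agent.H919.AschBurnside
import Cfsg.Agent.S2034
import Cfsg.Agent.Prune
set_option linter.all false

section
prune_inst 0x7ffdedfbbbf8b9dfffff7e7ff6decffdfbbd3fffe6dff9cbffe069ffabdffb02c9c56bad8beb91fe1ef7ea1418fe7bc3f9ffdeffe86bdc7ffffd5ff45ffbffcffdf7bd08519588340fb82ff683f0778e7f3fffffffffffffffffffffffffffbeffbfffffffff

-- part: H6/M11/AB_mg
section
prune_inst 0x20200040742200000000009203000040280001020000000000200502004902620940204006800410000a000008010020021000200000000000000000000000000000100401000d00200086000000000000000000000000000000000000000004000000000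
set_option linter.all false
open scoped Cfsg.Agent.FastGrp

-- part: H6/M11/Elem
section
/-!
# The elementary abelian subgroup of order 9 (helper6)

`R : G → End V`, `v` letters satisfying the relations of the Mathieu group of degree 11, characteristic not 3.
All non-trivial characters of `E = ⟨e₁, e₂⟩` have the same multiplicity; it is 1 if `dim V ≤ 12`.
-/

set_option autoImplicit false
set_option linter.unusedSectionVars false
set_option maxRecDepth 100000

namespace Cfsg.Agent.H6.M11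

open Module LinearMap

section op

variable {G : Type*} [Group G] (v : ℕ → G) {k : Type*} [Field k] {V : Type*} [AddCommGroup V] [Module k V]
  (R : G →* End k V)

/-- operator of a word -/
noncomputable def op (w : List ℕ) : End k V := R (ev v w)

/-- trace of a word -/
noncomputable def tw (w : List ℕ) : k := LinearMap.trace k V (op v R w)

theorem op_append (u w : List ℕ) : op v R (u ++ w) = op v R u * op v R w := by
  unfold op
  rw [ev_append, map_mul]

theorem op_nil : op v R [] = 1 := by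
  unfold op
  rw [ev_nil, map_one]

theorem op_cons (i : ℕ) (w : List ℕ) : op v R (i :: w) = op v R [i] * op v R w := op_append v R [i] w

theorem op_injective (w : List ℕ) : Function.Injective (op v R w) := by
  have h : R (ev v w)⁻¹ * R (ev v w) = 1 := by rw [← map_mul, inv_mul_cancel, map_one]
  intro a b hab
  have h1 := congrArg (R (ev v w)⁻¹) hab
  unfold op at h1
  rw [← Module.End.mul_apply, ← Module.End.mul_apply, h] at h1
  exact h1

variable {v R}

theorem Sat.op_eq (h : Sat v) {a b : List ℕ} (hr : (a, b) ∈ baseL) : op v R a = op v R b := by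
  unfold op
  rw [h.base hr]

theorem tw_of_conj {a b c : List ℕ} (h : ev v c * ev v a = ev v b * ev v c) : tw v R a = tw v R b := by
  unfold tw op
  have h1 : ev v a = (ev v c)⁻¹ * (ev v b * ev v c) := by rw [← h, inv_mul_cancel_left]
  rw [h1, map_mul, LinearMap.trace_mul_comm, ← map_mul, mul_assoc, mul_inv_cancel, mul_one]

theorem Sat.tw_eq (h : Sat v) {a b : List ℕ} (c : List ℕ) (hr : (c, a, b) ∈ certL) : tw v R a = tw v R b :=
  tw_of_conj (h.cert hr)

theorem Sat.tw_base (h : Sat v) {a b : List ℕ} (hr : (a, b) ∈ baseL) : tw v R a = tw v R b := by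
  unfold tw
  rw [h.op_eq hr]

theorem Sat.pow_three (h : Sat v) (i : ℕ) (hi : i = 0 ∨ i = 1 ∨ i = 4) : (op v R [i]) ^ 3 = 1 := by
  have h1 : op v R [i, i, i] = 1 := by
    rw [← op_nil v R]
    rcases hi with rfl | rfl | rfl
    · exact h.op_eq (by decide +kernel)
    · exact h.op_eq (by decide +kernel)
    · exact h.op_eq (by decide +kernel)
  rw [op_cons v R i [i, i], op_cons v R i [i]] at h1
  rw [pow_succ, pow_succ, pow_one, mul_assoc]
  exact h1

end op

theorem finrank_le_of_mapsTo {k : Type*} [Field k] {V : Type*} [AddCommGroup V] [Module k V] [FiniteDimensional k V]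
    {f : End k V} (hf : Function.Injective f) {S T : Submodule k V} (h : ∀ v ∈ S, f v ∈ T) :
    finrank k S ≤ finrank k T := by
  refine LinearMap.finrank_le_finrank_of_injective (f := f.restrict h) ?_
  intro a b hab
  apply Subtype.ext
  apply hf
  exact congrArg Subtype.val hab

section E

variable {G : Type*} [Group G] {v : ℕ → G} {k : Type*} [Field k] {V : Type*} [AddCommGroup V] [Module k V]
  [FiniteDimensional k V] {R : G →* End k V} {ω : k}

variable (v R) in
/-- weight spaces of `E` -/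
noncomputable def Wt (μ ν : k) : Submodule k V := End.eigenspace (op v R [0]) μ ⊓ End.eigenspace (op v R [1]) ν

theorem mem_Wt {μ ν : k} {u : V} : u ∈ Wt v R μ ν ↔ op v R [0] u = μ • u ∧ op v R [1] u = ν • u := by
  rw [Wt, Submodule.mem_inf, End.mem_eigenspace_iff, End.mem_eigenspace_iff]

theorem Sat.y_mem (h : Sat v) {μ ν : k} {u : V} (hu : u ∈ Wt v R μ ν) :
    op v R [2] u ∈ Wt v R (μ ^ 2 * ν) (μ ^ 2 * ν ^ 2) := by
  rw [mem_Wt] at hu ⊢
  obtain ⟨h0, h1⟩ := hu
  have r0 : op v R [0, 2] = op v R [2, 0, 0, 1] := h.op_eq (by decide +kernel)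
  have r1 : op v R [1, 2] = op v R [2, 0, 0, 1, 1] := h.op_eq (by decide +kernel)
  constructor
  · rw [← Module.End.mul_apply, ← op_cons, r0, op_cons, op_cons v R 0, op_cons v R 0 [1]]
    simp only [Module.End.mul_apply, h1, h0, map_smul, smul_smul]
    congr 1
    ring
  · rw [← Module.End.mul_apply, ← op_cons, r1, op_cons, op_cons v R 0, op_cons v R 0 [1, 1], op_cons v R 1 [1]]
    simp only [Module.End.mul_apply, h1, h0, map_smul, smul_smul]
    congr 1
    ring

theorem Sat.s_mem (h : Sat v) {μ ν : k} {u : V} (hu : u ∈ Wt v R μ ν) : op v R [3] u ∈ Wt v R μ (ν ^ 2) := by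
  rw [mem_Wt] at hu ⊢
  obtain ⟨h0, h1⟩ := hu
  have r0 : op v R [3, 0] = op v R [0, 3] := h.op_eq (by decide +kernel)
  have r1 : op v R [1, 3] = op v R [3, 1, 1] := h.op_eq (by decide +kernel)
  constructor
  · rw [← Module.End.mul_apply, ← op_cons, ← r0, op_cons]
    simp only [Module.End.mul_apply, h0, map_smul]
  · rw [← Module.End.mul_apply, ← op_cons, r1, op_cons, op_cons v R 1]
    simp only [Module.End.mul_apply, h1, map_smul, smul_smul]
    congr 1
    ring

theorem Sat.D_le (h : Sat v) (hω : ω ^ 3 = 1) (i j i' j' : ℕ) (h1 : (2 * i + j) % 3 = i' % 3)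
    (h2 : (2 * i + 2 * j) % 3 = j' % 3) :
    finrank k (Wt v R (ω ^ i) (ω ^ j)) ≤ finrank k (Wt v R (ω ^ i') (ω ^ j')) := by
  have e1 : (ω ^ i) ^ 2 * ω ^ j = ω ^ i' := by
    rw [← pow_mul, ← pow_add, mul_comm i 2, pow_eq_pow_mod _ hω, h1, ← pow_eq_pow_mod _ hω]
  have e2 : (ω ^ i) ^ 2 * (ω ^ j) ^ 2 = ω ^ j' := by
    rw [← pow_mul, ← pow_mul, ← pow_add, mul_comm i 2, mul_comm j 2, pow_eq_pow_mod _ hω, h2, ← pow_eq_pow_mod _ hω]
  refine finrank_le_of_mapsTo (op_injective v R [2]) ?_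
  intro u hu
  rw [← e1, ← e2]
  exact h.y_mem hu

theorem Sat.comm01 (h : Sat v) : op v R [0] * op v R [1] = op v R [1] * op v R [0] := by
  rw [← op_cons, ← op_cons]
  exact h.op_eq (by decide +kernel)

/-- all non-trivial characters of `E` have the same multiplicity -/
theorem Sat.finrank_eq (h : Sat v) (hω : IsPrimitiveRoot ω 3) :
    finrank k V = finrank k (Wt v R 1 1) + 8 * finrank k (Wt v R ω 1) := by
  have h3 := hω.pow_eq_one
  have hX := h.pow_three (R := R) 0 (Or.inl rfl)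
  have hY := h.pow_three (R := R) 1 (Or.inr (Or.inl rfl))
  have hsub : ∀ i : ℕ, finrank k (End.eigenspace (op v R [0]) (ω ^ i)) =
      finrank k (Wt v R (ω ^ i) (ω ^ 0)) + finrank k (Wt v R (ω ^ i) (ω ^ 1)) + finrank k (Wt v R (ω ^ i) (ω ^ 2)) := by
    intro i
    rw [finrank_eq_sum hω (by norm_num) hY (End.eigenspace (op v R [0]) (ω ^ i)) ?_, Fin.sum_univ_three]
    · rfl
    · intro u hu
      rw [End.mem_eigenspace_iff] at hu ⊢
      rw [← Module.End.mul_apply, h.comm01, Module.End.mul_apply, hu, map_smul]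
  rw [finrank_top_eq_sum hω (by norm_num) hX, Fin.sum_univ_three]
  have e0 : ((0 : Fin 3) : ℕ) = 0 := rfl
  have e1 : ((1 : Fin 3) : ℕ) = 1 := rfl
  have e2 : ((2 : Fin 3) : ℕ) = 2 := rfl
  rw [e0, e1, e2, hsub, hsub, hsub]
  have s1 := h.D_le (R := R) h3 1 0 2 2 rfl rfl
  have s2 := h.D_le (R := R) h3 2 2 0 2 rfl rfl
  have s3 := h.D_le (R := R) h3 0 2 2 1 rfl rfl
  have s4 := h.D_le (R := R) h3 2 1 2 0 rfl rfl
  have s5 := h.D_le (R := R) h3 2 0 1 1 rfl rfl
  have s6 := h.D_le (R := R) h3 1 1 0 1 rfl rfl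
  have s7 := h.D_le (R := R) h3 0 1 1 2 rfl rfl
  have s8 := h.D_le (R := R) h3 1 2 1 0 rfl rfl
  have t0 : Wt v R (ω ^ 0) (ω ^ 0) = Wt v R 1 1 := by rw [pow_zero]
  have t1 : Wt v R (ω ^ 1) (ω ^ 0) = Wt v R ω 1 := by rw [pow_zero, pow_one]
  rw [← t0, ← t1]
  omega

theorem Sat.wt_pos (h : Sat v) (hω : IsPrimitiveRoot ω 3) (hE : op v R [0] ≠ 1) : 0 < finrank k (Wt v R ω 1) := by
  by_contra hc
  have h1 := h.finrank_eq (R := R) hω
  have h2 : finrank k (Wt v R 1 1) = finrank k V := by omega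
  apply hE
  have h3 := Submodule.eq_top_of_finrank_eq h2
  ext u
  have h4 : u ∈ Wt v R 1 1 := by rw [h3]; trivial
  have h5 := (mem_Wt.1 h4).1
  rw [one_smul] at h5
  exact h5

theorem Sat.wt_one (h : Sat v) (hω : IsPrimitiveRoot ω 3) (hE : op v R [0] ≠ 1) (hn : finrank k V ≤ 12) :
    finrank k (Wt v R ω 1) = 1 := by
  have h1 := h.finrank_eq (R := R) hω
  have h2 := h.wt_pos (R := R) hω hE
  omega

theorem Sat.wt_zero (h : Sat v) (hω : IsPrimitiveRoot ω 3) (hE : op v R [0] ≠ 1) (hn : finrank k V ≤ 12) :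
    finrank k V = finrank k (Wt v R 1 1) + 8 := by
  have h1 := h.finrank_eq (R := R) hω
  have h2 := h.wt_one (R := R) hω hE hn
  omega

/-- projections to the weight spaces -/
noncomputable def pr (v : ℕ → G) (R : G →* End k V) (ω : k) (i j : ℕ) : End k V :=
  sp 3 ω (op v R [0]) i * sp 3 ω (op v R [1]) j

theorem Sat.isProj_pr (h : Sat v) (hω : IsPrimitiveRoot ω 3) (i j : ℕ) :
    IsProj (Wt v R (ω ^ i) (ω ^ j)) (pr v R ω i j) := by
  have h3 := hω.pow_eq_one
  have hX := h.pow_three (R := R) 0 (Or.inl rfl)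
  have hY := h.pow_three (R := R) 1 (Or.inr (Or.inl rfl))
  have hω0 : ω ≠ 0 := hω.ne_zero (by norm_num)
  have h3k : ((3 : ℕ) : k) ≠ 0 := (hω.neZero').out
  have hc : Commute (op v R [0]) (op v R [1]) := h.comm01
  exact IsProj.mul (isProj_sp h3k hω0 h3 hX i) (isProj_sp h3k hω0 h3 hY j)
    (av_comm (Commute.smul_left (Commute.smul_right hc _) _))

theorem sum_three {M : Type*} [AddCommMonoid M] (f : ℕ → M) : ∑ i ∈ Finset.range 3, f i = f 0 + f 1 + f 2 := by
  rw [Finset.sum_range_succ, Finset.sum_range_succ, Finset.sum_range_one]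

/-- the trace of a word times a projection -/
theorem Sat.trace_pr (_h : Sat v) (h3 : (3 : k) ≠ 0) (i j : ℕ) (u : List ℕ) :
    9 * LinearMap.trace k V (op v R u * pr v R ω i j) =
      (tw v R u + (ω ^ j)⁻¹ * tw v R (u ++ [1]) + (ω ^ j)⁻¹ ^ 2 * tw v R (u ++ [1, 1])) +
      (ω ^ i)⁻¹ * (tw v R (u ++ [0]) + (ω ^ j)⁻¹ * tw v R (u ++ [0, 1]) + (ω ^ j)⁻¹ ^ 2 * tw v R (u ++ [0, 1, 1])) +
      (ω ^ i)⁻¹ ^ 2 * (tw v R (u ++ [0, 0]) + (ω ^ j)⁻¹ * tw v R (u ++ [0, 0, 1]) +
        (ω ^ j)⁻¹ ^ 2 * tw v R (u ++ [0, 0, 1, 1])) := by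
  have h9 : (9 : k) * (((3 : ℕ) : k)⁻¹ * ((3 : ℕ) : k)⁻¹) = 1 := by
    have h3' : ((3 : ℕ) : k) = 3 := by norm_num
    rw [h3', ← mul_inv, show (3 : k) * 3 = 9 by norm_num]
    exact mul_inv_cancel₀ (by rw [show (9 : k) = 3 * 3 by norm_num]; exact mul_ne_zero h3 h3)
  have key : LinearMap.trace k V (op v R u * pr v R ω i j) = ((3 : ℕ) : k)⁻¹ * ((3 : ℕ) : k)⁻¹ *
      ((tw v R u + (ω ^ j)⁻¹ * tw v R (u ++ [1]) + (ω ^ j)⁻¹ ^ 2 * tw v R (u ++ [1, 1])) +
      (ω ^ i)⁻¹ * (tw v R (u ++ [0]) + (ω ^ j)⁻¹ * tw v R (u ++ [0, 1]) + (ω ^ j)⁻¹ ^ 2 * tw v R (u ++ [0, 1, 1])) +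
      (ω ^ i)⁻¹ ^ 2 * (tw v R (u ++ [0, 0]) + (ω ^ j)⁻¹ * tw v R (u ++ [0, 0, 1]) +
        (ω ^ j)⁻¹ ^ 2 * tw v R (u ++ [0, 0, 1, 1]))) := by
    unfold pr sp av
    rw [sum_three, sum_three]
    have a1 : op v R [1, 1] = op v R [1] * op v R [1] := op_cons v R 1 [1]
    have a2 : op v R [0, 0] = op v R [0] * op v R [0] := op_cons v R 0 [0]
    have a3 : op v R [0, 1] = op v R [0] * op v R [1] := op_cons v R 0 [1]
    have a4 : op v R [0, 1, 1] = op v R [0] * (op v R [1] * op v R [1]) := by rw [op_cons, a1]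
    have a5 : op v R [0, 0, 1] = op v R [0] * (op v R [0] * op v R [1]) := by rw [op_cons, a3]
    have a6 : op v R [0, 0, 1, 1] = op v R [0] * (op v R [0] * (op v R [1] * op v R [1])) := by rw [op_cons, a4]
    unfold tw
    simp only [op_append, a1, a2, a3, a4, a5, a6]
    simp only [pow_zero, pow_one, pow_two, mul_add, add_mul, smul_mul_assoc, mul_smul_comm, mul_one, one_mul, map_add,
      map_smul, smul_eq_mul, mul_assoc]
    ring
  rw [key, ← mul_assoc, h9, one_mul]

end E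

end Cfsg.Agent.H6.M11
end

-- part: H6/M11/Tab
section
/-!
# Table of traces (helper6)

Generated: `t_abc` is the trace of the word `abc` in terms of the representative of its class.
-/

set_option autoImplicit false
set_option linter.unusedSectionVars false
set_option maxRecDepth 100000

namespace Cfsg.Agent.H6.M11

open Module LinearMap

variable {G : Type*} [Group G] {v : ℕ → G} {k : Type*} [Field k] {V : Type*} [AddCommGroup V] [Module k V]
  {R : G →* End k V}

theorem Sat.t_1 (h : Sat v) : tw v R [1] = tw v R [0] := h.tw_eq [2, 2] (by decide +kernel)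
theorem Sat.t_4 (h : Sat v) : tw v R [4] = tw v R [0] := h.tw_eq [4, 3, 6] (by decide +kernel)
theorem Sat.t_7 (h : Sat v) : tw v R [7] = tw v R [3] := h.tw_eq [2, 4, 5] (by decide +kernel)
theorem Sat.t_00 (h : Sat v) : tw v R [0, 0] = tw v R [0] := h.tw_eq [7] (by decide +kernel)
theorem Sat.t_01 (h : Sat v) : tw v R [0, 1] = tw v R [0] := h.tw_eq [2, 8] (by decide +kernel)
theorem Sat.t_11 (h : Sat v) : tw v R [1, 1] = tw v R [0] := h.tw_eq [2, 2, 3] (by decide +kernel)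
theorem Sat.t_20 (h : Sat v) : tw v R [2, 0] = tw v R [2] := h.tw_eq [7] (by decide +kernel)
theorem Sat.t_21 (h : Sat v) : tw v R [2, 1] = tw v R [2] := h.tw_eq [0, 1] (by decide +kernel)
theorem Sat.t_31 (h : Sat v) : tw v R [3, 1] = tw v R [3] := h.tw_eq [7] (by decide +kernel)
theorem Sat.t_32 (h : Sat v) : tw v R [3, 2] = tw v R [2, 2] := h.tw_eq [4, 4] (by decide +kernel)
theorem Sat.t_33 (h : Sat v) : tw v R [3, 3] = tw v R [] := h.tw_eq [] (by decide +kernel)
theorem Sat.t_34 (h : Sat v) : tw v R [3, 4] = tw v R [3] := h.tw_eq [4, 3] (by decide +kernel)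
theorem Sat.t_42 (h : Sat v) : tw v R [4, 2] = tw v R [2, 2, 2, 2, 2, 2, 2] := h.tw_eq [4] (by decide +kernel)
theorem Sat.t_43 (h : Sat v) : tw v R [4, 3] = tw v R [3] := h.tw_eq [4] (by decide +kernel)
theorem Sat.t_44 (h : Sat v) : tw v R [4, 4] = tw v R [0] := h.tw_eq [2, 6, 0, 2] (by decide +kernel)
theorem Sat.t_55 (h : Sat v) : tw v R [5, 5] = tw v R [5, 5, 5, 5, 5, 5, 5, 5, 5, 5] := h.tw_eq [6, 6] (by decide +kernel)
theorem Sat.t_57 (h : Sat v) : tw v R [5, 7] = tw v R [0] := h.tw_eq [4, 6, 1, 1] (by decide +kernel)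
theorem Sat.t_66 (h : Sat v) : tw v R [6, 6] = tw v R [6] := h.tw_eq [0, 3, 7, 2] (by decide +kernel)
theorem Sat.t_001 (h : Sat v) : tw v R [0, 0, 1] = tw v R [0] := h.tw_eq [2] (by decide +kernel)
theorem Sat.t_011 (h : Sat v) : tw v R [0, 1, 1] = tw v R [0] := h.tw_eq [2, 7] (by decide +kernel)
theorem Sat.t_200 (h : Sat v) : tw v R [2, 0, 0] = tw v R [2] := h.tw_eq [0, 2] (by decide +kernel)
theorem Sat.t_201 (h : Sat v) : tw v R [2, 0, 1] = tw v R [2] := h.tw_eq [0, 0] (by decide +kernel)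
theorem Sat.t_211 (h : Sat v) : tw v R [2, 1, 1] = tw v R [2] := h.tw_eq [1, 2] (by decide +kernel)
theorem Sat.t_220 (h : Sat v) : tw v R [2, 2, 0] = tw v R [2, 2] := h.tw_eq [1, 2] (by decide +kernel)
theorem Sat.t_221 (h : Sat v) : tw v R [2, 2, 1] = tw v R [2, 2] := h.tw_eq [7] (by decide +kernel)
theorem Sat.t_222 (h : Sat v) : tw v R [2, 2, 2] = tw v R [2] := h.tw_eq [3] (by decide +kernel)
theorem Sat.t_300 (h : Sat v) : tw v R [3, 0, 0] = tw v R [3, 0] := h.tw_eq [8] (by decide +kernel)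
theorem Sat.t_301 (h : Sat v) : tw v R [3, 0, 1] = tw v R [3, 0] := h.tw_eq [1, 1] (by decide +kernel)
theorem Sat.t_311 (h : Sat v) : tw v R [3, 1, 1] = tw v R [3] := h.tw_eq [1] (by decide +kernel)
theorem Sat.t_320 (h : Sat v) : tw v R [3, 2, 0] = tw v R [2, 2] := h.tw_eq [3, 4, 1, 3] (by decide +kernel)
theorem Sat.t_321 (h : Sat v) : tw v R [3, 2, 1] = tw v R [2, 2] := h.tw_eq [6, 5, 5] (by decide +kernel)
theorem Sat.t_322 (h : Sat v) : tw v R [3, 2, 2] = tw v R [3] := h.tw_eq [2, 3] (by decide +kernel)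
theorem Sat.t_332 (h : Sat v) : tw v R [3, 3, 2] = tw v R [2] := h.tw_eq [] (by decide +kernel)
theorem Sat.t_342 (h : Sat v) : tw v R [3, 4, 2] = tw v R [0] := h.tw_eq [4, 3, 5] (by decide +kernel)
theorem Sat.t_343 (h : Sat v) : tw v R [3, 4, 3] = tw v R [0] := h.tw_eq [2, 6, 0, 2] (by decide +kernel)
theorem Sat.t_344 (h : Sat v) : tw v R [3, 4, 4] = tw v R [3] := h.tw_eq [4] (by decide +kernel)
theorem Sat.t_422 (h : Sat v) : tw v R [4, 2, 2] = tw v R [3, 0] := h.tw_eq [1, 2, 6, 0] (by decide +kernel)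
theorem Sat.t_432 (h : Sat v) : tw v R [4, 3, 2] = tw v R [3, 0] := h.tw_eq [6, 6, 1] (by decide +kernel)
theorem Sat.t_442 (h : Sat v) : tw v R [4, 4, 2] = tw v R [3] := h.tw_eq [1, 6] (by decide +kernel)
theorem Sat.t_443 (h : Sat v) : tw v R [4, 4, 3] = tw v R [3] := h.tw_eq [4, 3] (by decide +kernel)
theorem Sat.t_555 (h : Sat v) : tw v R [5, 5, 5] = tw v R [5] := h.tw_eq [6] (by decide +kernel)
theorem Sat.t_557 (h : Sat v) : tw v R [5, 5, 7] = tw v R [5, 5, 5, 5, 5, 5, 5, 5, 5, 5] := h.tw_eq [7, 5, 7] (by decide +kernel)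
theorem Sat.t_666 (h : Sat v) : tw v R [6, 6, 6] = tw v R [6] := h.tw_eq [3, 2, 1] (by decide +kernel)
theorem Sat.t_0011 (h : Sat v) : tw v R [0, 0, 1, 1] = tw v R [0] := h.tw_eq [2, 3] (by decide +kernel)
theorem Sat.t_2001 (h : Sat v) : tw v R [2, 0, 0, 1] = tw v R [2] := h.tw_eq [0, 7] (by decide +kernel)
theorem Sat.t_2011 (h : Sat v) : tw v R [2, 0, 1, 1] = tw v R [2] := h.tw_eq [1] (by decide +kernel)
theorem Sat.t_2200 (h : Sat v) : tw v R [2, 2, 0, 0] = tw v R [2, 2] := h.tw_eq [0, 1] (by decide +kernel)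
theorem Sat.t_2201 (h : Sat v) : tw v R [2, 2, 0, 1] = tw v R [2, 2] := h.tw_eq [1] (by decide +kernel)
theorem Sat.t_2211 (h : Sat v) : tw v R [2, 2, 1, 1] = tw v R [2, 2] := h.tw_eq [0, 2] (by decide +kernel)
theorem Sat.t_2220 (h : Sat v) : tw v R [2, 2, 2, 0] = tw v R [2] := h.tw_eq [1, 8] (by decide +kernel)
theorem Sat.t_2221 (h : Sat v) : tw v R [2, 2, 2, 1] = tw v R [2] := h.tw_eq [8, 2] (by decide +kernel)
theorem Sat.t_2222 (h : Sat v) : tw v R [2, 2, 2, 2] = tw v R [3] := h.tw_eq [4, 3, 5] (by decide +kernel)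
theorem Sat.t_3001 (h : Sat v) : tw v R [3, 0, 0, 1] = tw v R [3, 0] := h.tw_eq [7] (by decide +kernel)
theorem Sat.t_3011 (h : Sat v) : tw v R [3, 0, 1, 1] = tw v R [3, 0] := h.tw_eq [1] (by decide +kernel)
theorem Sat.t_3200 (h : Sat v) : tw v R [3, 2, 0, 0] = tw v R [2, 2] := h.tw_eq [4, 4, 1] (by decide +kernel)
theorem Sat.t_3201 (h : Sat v) : tw v R [3, 2, 0, 1] = tw v R [2, 2] := h.tw_eq [3, 4, 8, 0] (by decide +kernel)
theorem Sat.t_3211 (h : Sat v) : tw v R [3, 2, 1, 1] = tw v R [2, 2] := h.tw_eq [4, 4, 7] (by decide +kernel)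
theorem Sat.t_3220 (h : Sat v) : tw v R [3, 2, 2, 0] = tw v R [3, 0] := h.tw_eq [2, 3, 1] (by decide +kernel)
theorem Sat.t_3221 (h : Sat v) : tw v R [3, 2, 2, 1] = tw v R [3, 0] := h.tw_eq [1, 2, 3] (by decide +kernel)
theorem Sat.t_3222 (h : Sat v) : tw v R [3, 2, 2, 2] = tw v R [2, 2] := h.tw_eq [3, 4] (by decide +kernel)
theorem Sat.t_3322 (h : Sat v) : tw v R [3, 3, 2, 2] = tw v R [2, 2] := h.tw_eq [] (by decide +kernel)
theorem Sat.t_3422 (h : Sat v) : tw v R [3, 4, 2, 2] = tw v R [2, 2, 2, 2, 2, 2, 2] := h.tw_eq [4, 4] (by decide +kernel)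
theorem Sat.t_3432 (h : Sat v) : tw v R [3, 4, 3, 2] = tw v R [3] := h.tw_eq [1, 6] (by decide +kernel)
theorem Sat.t_3442 (h : Sat v) : tw v R [3, 4, 4, 2] = tw v R [3, 0] := h.tw_eq [6, 6, 1] (by decide +kernel)
theorem Sat.t_3443 (h : Sat v) : tw v R [3, 4, 4, 3] = tw v R [0] := h.tw_eq [4, 3, 6] (by decide +kernel)
theorem Sat.t_4222 (h : Sat v) : tw v R [4, 2, 2, 2] = tw v R [3] := h.tw_eq [2, 4] (by decide +kernel)
theorem Sat.t_4322 (h : Sat v) : tw v R [4, 3, 2, 2] = tw v R [2] := h.tw_eq [4] (by decide +kernel)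
theorem Sat.t_4422 (h : Sat v) : tw v R [4, 4, 2, 2] = tw v R [0] := h.tw_eq [2, 6, 0, 3] (by decide +kernel)
theorem Sat.t_4432 (h : Sat v) : tw v R [4, 4, 3, 2] = tw v R [0] := h.tw_eq [4, 3, 5] (by decide +kernel)
theorem Sat.t_5555 (h : Sat v) : tw v R [5, 5, 5, 5] = tw v R [5] := h.tw_eq [3, 6, 0] (by decide +kernel)
theorem Sat.t_5557 (h : Sat v) : tw v R [5, 5, 5, 7] = tw v R [6] := h.tw_eq [2, 4, 3, 5] (by decide +kernel)
theorem Sat.t_6666 (h : Sat v) : tw v R [6, 6, 6, 6] = tw v R [6] := h.tw_eq [7] (by decide +kernel)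
theorem Sat.t_20011 (h : Sat v) : tw v R [2, 0, 0, 1, 1] = tw v R [2] := h.tw_eq [0] (by decide +kernel)
theorem Sat.t_22001 (h : Sat v) : tw v R [2, 2, 0, 0, 1] = tw v R [2, 2] := h.tw_eq [0, 0] (by decide +kernel)
theorem Sat.t_22011 (h : Sat v) : tw v R [2, 2, 0, 1, 1] = tw v R [2, 2] := h.tw_eq [0] (by decide +kernel)
theorem Sat.t_22200 (h : Sat v) : tw v R [2, 2, 2, 0, 0] = tw v R [2] := h.tw_eq [0, 2, 3] (by decide +kernel)
theorem Sat.t_22201 (h : Sat v) : tw v R [2, 2, 2, 0, 1] = tw v R [2] := h.tw_eq [1, 3] (by decide +kernel)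
theorem Sat.t_22211 (h : Sat v) : tw v R [2, 2, 2, 1, 1] = tw v R [2] := h.tw_eq [3, 7] (by decide +kernel)
theorem Sat.t_22220 (h : Sat v) : tw v R [2, 2, 2, 2, 0] = tw v R [3] := h.tw_eq [1, 2, 6] (by decide +kernel)
theorem Sat.t_22221 (h : Sat v) : tw v R [2, 2, 2, 2, 1] = tw v R [3] := h.tw_eq [6, 6] (by decide +kernel)
theorem Sat.t_22222 (h : Sat v) : tw v R [2, 2, 2, 2, 2] = tw v R [2, 2, 2, 2, 2, 2, 2] := h.tw_eq [3] (by decide +kernel)
theorem Sat.t_30011 (h : Sat v) : tw v R [3, 0, 0, 1, 1] = tw v R [3, 0] := h.tw_eq [1, 7] (by decide +kernel)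
theorem Sat.t_32001 (h : Sat v) : tw v R [3, 2, 0, 0, 1] = tw v R [2, 2] := h.tw_eq [1, 8, 5, 4] (by decide +kernel)
theorem Sat.t_32011 (h : Sat v) : tw v R [3, 2, 0, 1, 1] = tw v R [2, 2] := h.tw_eq [0, 6, 1, 4] (by decide +kernel)
theorem Sat.t_32200 (h : Sat v) : tw v R [3, 2, 2, 0, 0] = tw v R [3, 0] := h.tw_eq [2, 8] (by decide +kernel)
theorem Sat.t_32201 (h : Sat v) : tw v R [3, 2, 2, 0, 1] = tw v R [3, 0] := h.tw_eq [1, 2, 8] (by decide +kernel)
theorem Sat.t_32211 (h : Sat v) : tw v R [3, 2, 2, 1, 1] = tw v R [3, 0] := h.tw_eq [2, 3, 7] (by decide +kernel)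
theorem Sat.t_32220 (h : Sat v) : tw v R [3, 2, 2, 2, 0] = tw v R [2, 2] := h.tw_eq [3, 4, 1] (by decide +kernel)
theorem Sat.t_32221 (h : Sat v) : tw v R [3, 2, 2, 2, 1] = tw v R [2, 2] := h.tw_eq [3, 4, 0, 1] (by decide +kernel)
theorem Sat.t_32222 (h : Sat v) : tw v R [3, 2, 2, 2, 2] = tw v R [3] := h.tw_eq [2, 2] (by decide +kernel)
theorem Sat.t_33222 (h : Sat v) : tw v R [3, 3, 2, 2, 2] = tw v R [2] := h.tw_eq [3] (by decide +kernel)
theorem Sat.t_34222 (h : Sat v) : tw v R [3, 4, 2, 2, 2] = tw v R [3, 0] := h.tw_eq [6, 6, 1, 3] (by decide +kernel)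
theorem Sat.t_34322 (h : Sat v) : tw v R [3, 4, 3, 2, 2] = tw v R [0] := h.tw_eq [2, 6, 0, 3] (by decide +kernel)
theorem Sat.t_34422 (h : Sat v) : tw v R [3, 4, 4, 2, 2] = tw v R [2] := h.tw_eq [4] (by decide +kernel)
theorem Sat.t_34432 (h : Sat v) : tw v R [3, 4, 4, 3, 2] = tw v R [2, 2, 2, 2, 2, 2, 2] := h.tw_eq [4] (by decide +kernel)
theorem Sat.t_42222 (h : Sat v) : tw v R [4, 2, 2, 2, 2] = tw v R [3, 0] := h.tw_eq [1, 4, 4, 6] (by decide +kernel)
theorem Sat.t_43222 (h : Sat v) : tw v R [4, 3, 2, 2, 2] = tw v R [0] := h.tw_eq [2, 6, 0, 4] (by decide +kernel)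
theorem Sat.t_44222 (h : Sat v) : tw v R [4, 4, 2, 2, 2] = tw v R [2, 2, 2, 2, 2, 2, 2] := h.tw_eq [4, 2] (by decide +kernel)
theorem Sat.t_44322 (h : Sat v) : tw v R [4, 4, 3, 2, 2] = tw v R [2, 2, 2, 2, 2, 2, 2] := h.tw_eq [4, 4] (by decide +kernel)
theorem Sat.t_55555 (h : Sat v) : tw v R [5, 5, 5, 5, 5] = tw v R [5] := h.tw_eq [6, 6, 6] (by decide +kernel)
theorem Sat.t_55557 (h : Sat v) : tw v R [5, 5, 5, 5, 7] = tw v R [6] := h.tw_eq [1, 2, 5, 2, 1] (by decide +kernel)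
theorem Sat.t_220011 (h : Sat v) : tw v R [2, 2, 0, 0, 1, 1] = tw v R [2, 2] := h.tw_eq [0, 7] (by decide +kernel)
theorem Sat.t_222001 (h : Sat v) : tw v R [2, 2, 2, 0, 0, 1] = tw v R [2] := h.tw_eq [8] (by decide +kernel)
theorem Sat.t_222011 (h : Sat v) : tw v R [2, 2, 2, 0, 1, 1] = tw v R [2] := h.tw_eq [8, 0] (by decide +kernel)
theorem Sat.t_222200 (h : Sat v) : tw v R [2, 2, 2, 2, 0, 0] = tw v R [3] := h.tw_eq [5, 6, 4] (by decide +kernel)
theorem Sat.t_222201 (h : Sat v) : tw v R [2, 2, 2, 2, 0, 1] = tw v R [3] := h.tw_eq [4, 7, 4] (by decide +kernel)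
theorem Sat.t_222211 (h : Sat v) : tw v R [2, 2, 2, 2, 1, 1] = tw v R [3] := h.tw_eq [6, 6, 3] (by decide +kernel)
theorem Sat.t_222220 (h : Sat v) : tw v R [2, 2, 2, 2, 2, 0] = tw v R [2, 2, 2, 2, 2, 2, 2] := h.tw_eq [1, 3] (by decide +kernel)
theorem Sat.t_222221 (h : Sat v) : tw v R [2, 2, 2, 2, 2, 1] = tw v R [2, 2, 2, 2, 2, 2, 2] := h.tw_eq [8] (by decide +kernel)
theorem Sat.t_222222 (h : Sat v) : tw v R [2, 2, 2, 2, 2, 2] = tw v R [2, 2] := h.tw_eq [3] (by decide +kernel)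
theorem Sat.t_320011 (h : Sat v) : tw v R [3, 2, 0, 0, 1, 1] = tw v R [2, 2] := h.tw_eq [3, 4, 8] (by decide +kernel)
theorem Sat.t_322001 (h : Sat v) : tw v R [3, 2, 2, 0, 0, 1] = tw v R [3] := h.tw_eq [2, 5] (by decide +kernel)
theorem Sat.t_322011 (h : Sat v) : tw v R [3, 2, 2, 0, 1, 1] = tw v R [3] := h.tw_eq [2, 8] (by decide +kernel)
theorem Sat.t_322200 (h : Sat v) : tw v R [3, 2, 2, 2, 0, 0] = tw v R [2, 2] := h.tw_eq [3, 4, 0, 7] (by decide +kernel)
theorem Sat.t_322201 (h : Sat v) : tw v R [3, 2, 2, 2, 0, 1] = tw v R [2, 2] := h.tw_eq [3, 4, 7] (by decide +kernel)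
theorem Sat.t_322211 (h : Sat v) : tw v R [3, 2, 2, 2, 1, 1] = tw v R [2, 2] := h.tw_eq [3, 4, 7, 0] (by decide +kernel)
theorem Sat.t_322220 (h : Sat v) : tw v R [3, 2, 2, 2, 2, 0] = tw v R [3] := h.tw_eq [1, 2, 2] (by decide +kernel)
theorem Sat.t_322221 (h : Sat v) : tw v R [3, 2, 2, 2, 2, 1] = tw v R [3, 0] := h.tw_eq [2, 2] (by decide +kernel)
theorem Sat.t_322222 (h : Sat v) : tw v R [3, 2, 2, 2, 2, 2] = tw v R [2, 2] := h.tw_eq [4, 2] (by decide +kernel)
theorem Sat.t_332222 (h : Sat v) : tw v R [3, 3, 2, 2, 2, 2] = tw v R [3] := h.tw_eq [4, 3, 5] (by decide +kernel)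
theorem Sat.t_342222 (h : Sat v) : tw v R [3, 4, 2, 2, 2, 2] = tw v R [3] := h.tw_eq [4, 2] (by decide +kernel)
theorem Sat.t_343222 (h : Sat v) : tw v R [3, 4, 3, 2, 2, 2] = tw v R [2, 2, 2, 2, 2, 2, 2] := h.tw_eq [4, 2] (by decide +kernel)
theorem Sat.t_344222 (h : Sat v) : tw v R [3, 4, 4, 2, 2, 2] = tw v R [0] := h.tw_eq [2, 6, 0, 4] (by decide +kernel)
theorem Sat.t_344322 (h : Sat v) : tw v R [3, 4, 4, 3, 2, 2] = tw v R [3, 0] := h.tw_eq [1, 2, 6, 0] (by decide +kernel)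
theorem Sat.t_422222 (h : Sat v) : tw v R [4, 2, 2, 2, 2, 2] = tw v R [2] := h.tw_eq [3, 4] (by decide +kernel)
theorem Sat.t_432222 (h : Sat v) : tw v R [4, 3, 2, 2, 2, 2] = tw v R [3] := h.tw_eq [1, 6, 2] (by decide +kernel)
theorem Sat.t_442222 (h : Sat v) : tw v R [4, 4, 2, 2, 2, 2] = tw v R [3, 0] := h.tw_eq [7, 4, 3, 6] (by decide +kernel)
theorem Sat.t_443222 (h : Sat v) : tw v R [4, 4, 3, 2, 2, 2] = tw v R [3, 0] := h.tw_eq [6, 6, 1, 3] (by decide +kernel)
theorem Sat.t_555555 (h : Sat v) : tw v R [5, 5, 5, 5, 5, 5] = tw v R [5, 5, 5, 5, 5, 5, 5, 5, 5, 5] := h.tw_eq [6, 6, 6] (by decide +kernel)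
theorem Sat.t_555557 (h : Sat v) : tw v R [5, 5, 5, 5, 5, 7] = tw v R [3, 0] := h.tw_eq [4, 0, 0, 2] (by decide +kernel)
theorem Sat.t_2220011 (h : Sat v) : tw v R [2, 2, 2, 0, 0, 1, 1] = tw v R [2] := h.tw_eq [3, 1] (by decide +kernel)
theorem Sat.t_2222001 (h : Sat v) : tw v R [2, 2, 2, 2, 0, 0, 1] = tw v R [3] := h.tw_eq [2, 3, 5] (by decide +kernel)
theorem Sat.t_2222011 (h : Sat v) : tw v R [2, 2, 2, 2, 0, 1, 1] = tw v R [3] := h.tw_eq [2, 4, 5] (by decide +kernel)
theorem Sat.t_2222200 (h : Sat v) : tw v R [2, 2, 2, 2, 2, 0, 0] = tw v R [2, 2, 2, 2, 2, 2, 2] := h.tw_eq [3, 1] (by decide +kernel)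
theorem Sat.t_2222201 (h : Sat v) : tw v R [2, 2, 2, 2, 2, 0, 1] = tw v R [2, 2, 2, 2, 2, 2, 2] := h.tw_eq [3, 7] (by decide +kernel)
theorem Sat.t_2222211 (h : Sat v) : tw v R [2, 2, 2, 2, 2, 1, 1] = tw v R [2, 2, 2, 2, 2, 2, 2] := h.tw_eq [8, 0] (by decide +kernel)
theorem Sat.t_2222220 (h : Sat v) : tw v R [2, 2, 2, 2, 2, 2, 0] = tw v R [2, 2] := h.tw_eq [8, 2] (by decide +kernel)
theorem Sat.t_2222221 (h : Sat v) : tw v R [2, 2, 2, 2, 2, 2, 1] = tw v R [2, 2] := h.tw_eq [0, 2, 3] (by decide +kernel)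
theorem Sat.t_3220011 (h : Sat v) : tw v R [3, 2, 2, 0, 0, 1, 1] = tw v R [3, 0] := h.tw_eq [2, 3] (by decide +kernel)
theorem Sat.t_3222001 (h : Sat v) : tw v R [3, 2, 2, 2, 0, 0, 1] = tw v R [2, 2] := h.tw_eq [3, 4, 0] (by decide +kernel)
theorem Sat.t_3222011 (h : Sat v) : tw v R [3, 2, 2, 2, 0, 1, 1] = tw v R [2, 2] := h.tw_eq [1, 6, 6, 5] (by decide +kernel)
theorem Sat.t_3222200 (h : Sat v) : tw v R [3, 2, 2, 2, 2, 0, 0] = tw v R [3] := h.tw_eq [2, 2, 0] (by decide +kernel)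
theorem Sat.t_3222201 (h : Sat v) : tw v R [3, 2, 2, 2, 2, 0, 1] = tw v R [3, 0] := h.tw_eq [1, 2, 2] (by decide +kernel)
theorem Sat.t_3222211 (h : Sat v) : tw v R [3, 2, 2, 2, 2, 1, 1] = tw v R [3, 0] := h.tw_eq [2, 2, 3] (by decide +kernel)
theorem Sat.t_3222220 (h : Sat v) : tw v R [3, 2, 2, 2, 2, 2, 0] = tw v R [2, 2] := h.tw_eq [4, 1, 8] (by decide +kernel)
theorem Sat.t_3222221 (h : Sat v) : tw v R [3, 2, 2, 2, 2, 2, 1] = tw v R [2, 2] := h.tw_eq [4, 8] (by decide +kernel)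
theorem Sat.t_3222222 (h : Sat v) : tw v R [3, 2, 2, 2, 2, 2, 2] = tw v R [3] := h.tw_eq [2] (by decide +kernel)
theorem Sat.t_3322222 (h : Sat v) : tw v R [3, 3, 2, 2, 2, 2, 2] = tw v R [2, 2, 2, 2, 2, 2, 2] := h.tw_eq [3] (by decide +kernel)
theorem Sat.t_3422222 (h : Sat v) : tw v R [3, 4, 2, 2, 2, 2, 2] = tw v R [3, 0] := h.tw_eq [4, 3, 5] (by decide +kernel)
theorem Sat.t_3432222 (h : Sat v) : tw v R [3, 4, 3, 2, 2, 2, 2] = tw v R [3, 0] := h.tw_eq [7, 4, 3, 6] (by decide +kernel)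
theorem Sat.t_3442222 (h : Sat v) : tw v R [3, 4, 4, 2, 2, 2, 2] = tw v R [3] := h.tw_eq [1, 6, 2] (by decide +kernel)
theorem Sat.t_3443222 (h : Sat v) : tw v R [3, 4, 4, 3, 2, 2, 2] = tw v R [3] := h.tw_eq [2, 4] (by decide +kernel)
theorem Sat.t_4222222 (h : Sat v) : tw v R [4, 2, 2, 2, 2, 2, 2] = tw v R [0] := h.tw_eq [2, 6, 0] (by decide +kernel)
theorem Sat.t_4322222 (h : Sat v) : tw v R [4, 3, 2, 2, 2, 2, 2] = tw v R [0] := h.tw_eq [6, 6, 1] (by decide +kernel)
theorem Sat.t_4422222 (h : Sat v) : tw v R [4, 4, 2, 2, 2, 2, 2] = tw v R [3] := h.tw_eq [1, 4, 6] (by decide +kernel)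
theorem Sat.t_4432222 (h : Sat v) : tw v R [4, 4, 3, 2, 2, 2, 2] = tw v R [3] := h.tw_eq [4, 2] (by decide +kernel)
theorem Sat.t_5555555 (h : Sat v) : tw v R [5, 5, 5, 5, 5, 5, 5] = tw v R [5, 5, 5, 5, 5, 5, 5, 5, 5, 5] := h.tw_eq [3, 6, 0] (by decide +kernel)
theorem Sat.t_5555557 (h : Sat v) : tw v R [5, 5, 5, 5, 5, 5, 7] = tw v R [3, 0] := h.tw_eq [4, 2] (by decide +kernel)
theorem Sat.t_22220011 (h : Sat v) : tw v R [2, 2, 2, 2, 0, 0, 1, 1] = tw v R [3] := h.tw_eq [6, 6, 2] (by decide +kernel)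
theorem Sat.t_22222001 (h : Sat v) : tw v R [2, 2, 2, 2, 2, 0, 0, 1] = tw v R [2, 2, 2, 2, 2, 2, 2] := h.tw_eq [1, 8] (by decide +kernel)
theorem Sat.t_22222011 (h : Sat v) : tw v R [2, 2, 2, 2, 2, 0, 1, 1] = tw v R [2, 2, 2, 2, 2, 2, 2] := h.tw_eq [0, 2, 3] (by decide +kernel)
theorem Sat.t_22222200 (h : Sat v) : tw v R [2, 2, 2, 2, 2, 2, 0, 0] = tw v R [2, 2] := h.tw_eq [3, 7] (by decide +kernel)
theorem Sat.t_22222201 (h : Sat v) : tw v R [2, 2, 2, 2, 2, 2, 0, 1] = tw v R [2, 2] := h.tw_eq [8] (by decide +kernel)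
theorem Sat.t_22222211 (h : Sat v) : tw v R [2, 2, 2, 2, 2, 2, 1, 1] = tw v R [2, 2] := h.tw_eq [1, 8] (by decide +kernel)
theorem Sat.t_22222220 (h : Sat v) : tw v R [2, 2, 2, 2, 2, 2, 2, 0] = tw v R [2, 2, 2, 2, 2, 2, 2] := h.tw_eq [1] (by decide +kernel)
theorem Sat.t_22222221 (h : Sat v) : tw v R [2, 2, 2, 2, 2, 2, 2, 1] = tw v R [2, 2, 2, 2, 2, 2, 2] := h.tw_eq [0, 0] (by decide +kernel)
theorem Sat.t_32220011 (h : Sat v) : tw v R [3, 2, 2, 2, 0, 0, 1, 1] = tw v R [2, 2] := h.tw_eq [4, 8, 2] (by decide +kernel)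
theorem Sat.t_32222001 (h : Sat v) : tw v R [3, 2, 2, 2, 2, 0, 0, 1] = tw v R [3, 0] := h.tw_eq [2, 2, 0] (by decide +kernel)
theorem Sat.t_32222011 (h : Sat v) : tw v R [3, 2, 2, 2, 2, 0, 1, 1] = tw v R [3, 0] := h.tw_eq [1, 2, 2, 3] (by decide +kernel)
theorem Sat.t_32222200 (h : Sat v) : tw v R [3, 2, 2, 2, 2, 2, 0, 0] = tw v R [2, 2] := h.tw_eq [4, 1, 2] (by decide +kernel)
theorem Sat.t_32222201 (h : Sat v) : tw v R [3, 2, 2, 2, 2, 2, 0, 1] = tw v R [2, 2] := h.tw_eq [4, 0, 2] (by decide +kernel)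
theorem Sat.t_32222211 (h : Sat v) : tw v R [3, 2, 2, 2, 2, 2, 1, 1] = tw v R [2, 2] := h.tw_eq [4, 8, 0] (by decide +kernel)
theorem Sat.t_32222220 (h : Sat v) : tw v R [3, 2, 2, 2, 2, 2, 2, 0] = tw v R [3, 0] := h.tw_eq [1, 1, 2] (by decide +kernel)
theorem Sat.t_32222221 (h : Sat v) : tw v R [3, 2, 2, 2, 2, 2, 2, 1] = tw v R [3, 0] := h.tw_eq [7, 2] (by decide +kernel)
theorem Sat.t_32222222 (h : Sat v) : tw v R [3, 2, 2, 2, 2, 2, 2, 2] = tw v R [2, 2] := h.tw_eq [4] (by decide +kernel)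
theorem Sat.t_33222222 (h : Sat v) : tw v R [3, 3, 2, 2, 2, 2, 2, 2] = tw v R [2, 2] := h.tw_eq [3] (by decide +kernel)
theorem Sat.t_34222222 (h : Sat v) : tw v R [3, 4, 2, 2, 2, 2, 2, 2] = tw v R [2] := h.tw_eq [4, 2] (by decide +kernel)
theorem Sat.t_34322222 (h : Sat v) : tw v R [3, 4, 3, 2, 2, 2, 2, 2] = tw v R [3] := h.tw_eq [1, 4, 6] (by decide +kernel)
theorem Sat.t_34422222 (h : Sat v) : tw v R [3, 4, 4, 2, 2, 2, 2, 2] = tw v R [0] := h.tw_eq [6, 6, 1] (by decide +kernel)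
theorem Sat.t_34432222 (h : Sat v) : tw v R [3, 4, 4, 3, 2, 2, 2, 2] = tw v R [3, 0] := h.tw_eq [1, 4, 4, 6] (by decide +kernel)
theorem Sat.t_42222222 (h : Sat v) : tw v R [4, 2, 2, 2, 2, 2, 2, 2] = tw v R [3] := h.tw_eq [2, 3, 4] (by decide +kernel)
theorem Sat.t_43222222 (h : Sat v) : tw v R [4, 3, 2, 2, 2, 2, 2, 2] = tw v R [2, 2, 2, 2, 2, 2, 2] := h.tw_eq [3, 4] (by decide +kernel)
theorem Sat.t_44222222 (h : Sat v) : tw v R [4, 4, 2, 2, 2, 2, 2, 2] = tw v R [3, 0] := h.tw_eq [4, 2, 6, 5] (by decide +kernel)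
theorem Sat.t_44322222 (h : Sat v) : tw v R [4, 4, 3, 2, 2, 2, 2, 2] = tw v R [3, 0] := h.tw_eq [4, 3, 5] (by decide +kernel)
theorem Sat.t_55555555 (h : Sat v) : tw v R [5, 5, 5, 5, 5, 5, 5, 5] = tw v R [5, 5, 5, 5, 5, 5, 5, 5, 5, 5] := h.tw_eq [6] (by decide +kernel)
theorem Sat.t_55555557 (h : Sat v) : tw v R [5, 5, 5, 5, 5, 5, 5, 7] = tw v R [6] := h.tw_eq [1, 6, 8] (by decide +kernel)
theorem Sat.t_222220011 (h : Sat v) : tw v R [2, 2, 2, 2, 2, 0, 0, 1, 1] = tw v R [2, 2, 2, 2, 2, 2, 2] := h.tw_eq [8, 2] (by decide +kernel)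
theorem Sat.t_222222001 (h : Sat v) : tw v R [2, 2, 2, 2, 2, 2, 0, 0, 1] = tw v R [2, 2] := h.tw_eq [3, 1] (by decide +kernel)
theorem Sat.t_222222011 (h : Sat v) : tw v R [2, 2, 2, 2, 2, 2, 0, 1, 1] = tw v R [2, 2] := h.tw_eq [1, 3] (by decide +kernel)
theorem Sat.t_222222200 (h : Sat v) : tw v R [2, 2, 2, 2, 2, 2, 2, 0, 0] = tw v R [2, 2, 2, 2, 2, 2, 2] := h.tw_eq [0, 7] (by decide +kernel)
theorem Sat.t_222222201 (h : Sat v) : tw v R [2, 2, 2, 2, 2, 2, 2, 0, 1] = tw v R [2, 2, 2, 2, 2, 2, 2] := h.tw_eq [0, 2] (by decide +kernel)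
theorem Sat.t_222222211 (h : Sat v) : tw v R [2, 2, 2, 2, 2, 2, 2, 1, 1] = tw v R [2, 2, 2, 2, 2, 2, 2] := h.tw_eq [0] (by decide +kernel)
theorem Sat.t_322220011 (h : Sat v) : tw v R [3, 2, 2, 2, 2, 0, 0, 1, 1] = tw v R [3, 0] := h.tw_eq [2, 2, 7] (by decide +kernel)
theorem Sat.t_322222001 (h : Sat v) : tw v R [3, 2, 2, 2, 2, 2, 0, 0, 1] = tw v R [2, 2] := h.tw_eq [4, 1, 3] (by decide +kernel)
theorem Sat.t_322222011 (h : Sat v) : tw v R [3, 2, 2, 2, 2, 2, 0, 1, 1] = tw v R [2, 2] := h.tw_eq [4, 2, 1] (by decide +kernel)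
theorem Sat.t_322222200 (h : Sat v) : tw v R [3, 2, 2, 2, 2, 2, 2, 0, 0] = tw v R [3, 0] := h.tw_eq [1, 7, 2] (by decide +kernel)
theorem Sat.t_322222201 (h : Sat v) : tw v R [3, 2, 2, 2, 2, 2, 2, 0, 1] = tw v R [3] := h.tw_eq [1, 2] (by decide +kernel)
theorem Sat.t_322222211 (h : Sat v) : tw v R [3, 2, 2, 2, 2, 2, 2, 1, 1] = tw v R [3, 0] := h.tw_eq [1, 2] (by decide +kernel)
theorem Sat.t_322222220 (h : Sat v) : tw v R [3, 2, 2, 2, 2, 2, 2, 2, 0] = tw v R [2, 2] := h.tw_eq [4, 7] (by decide +kernel)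
theorem Sat.t_322222221 (h : Sat v) : tw v R [3, 2, 2, 2, 2, 2, 2, 2, 1] = tw v R [2, 2] := h.tw_eq [4, 0, 0] (by decide +kernel)
theorem Sat.t_332222222 (h : Sat v) : tw v R [3, 3, 2, 2, 2, 2, 2, 2, 2] = tw v R [2, 2, 2, 2, 2, 2, 2] := h.tw_eq [] (by decide +kernel)
theorem Sat.t_342222222 (h : Sat v) : tw v R [3, 4, 2, 2, 2, 2, 2, 2, 2] = tw v R [0] := h.tw_eq [4, 7, 5, 8] (by decide +kernel)
theorem Sat.t_343222222 (h : Sat v) : tw v R [3, 4, 3, 2, 2, 2, 2, 2, 2] = tw v R [3, 0] := h.tw_eq [4, 2, 6, 5] (by decide +kernel)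
theorem Sat.t_344222222 (h : Sat v) : tw v R [3, 4, 4, 2, 2, 2, 2, 2, 2] = tw v R [2, 2, 2, 2, 2, 2, 2] := h.tw_eq [3, 4] (by decide +kernel)
theorem Sat.t_344322222 (h : Sat v) : tw v R [3, 4, 4, 3, 2, 2, 2, 2, 2] = tw v R [2] := h.tw_eq [3, 4] (by decide +kernel)
theorem Sat.t_432222222 (h : Sat v) : tw v R [4, 3, 2, 2, 2, 2, 2, 2, 2] = tw v R [3, 0] := h.tw_eq [4, 3, 5, 3] (by decide +kernel)
theorem Sat.t_442222222 (h : Sat v) : tw v R [4, 4, 2, 2, 2, 2, 2, 2, 2] = tw v R [2] := h.tw_eq [4, 4] (by decide +kernel)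
theorem Sat.t_443222222 (h : Sat v) : tw v R [4, 4, 3, 2, 2, 2, 2, 2, 2] = tw v R [2] := h.tw_eq [4, 2] (by decide +kernel)
theorem Sat.t_555555555 (h : Sat v) : tw v R [5, 5, 5, 5, 5, 5, 5, 5, 5] = tw v R [5] := h.tw_eq [6, 6] (by decide +kernel)
theorem Sat.t_555555557 (h : Sat v) : tw v R [5, 5, 5, 5, 5, 5, 5, 5, 7] = tw v R [6] := h.tw_eq [0, 0, 1, 6, 6] (by decide +kernel)
theorem Sat.t_2222220011 (h : Sat v) : tw v R [2, 2, 2, 2, 2, 2, 0, 0, 1, 1] = tw v R [2, 2] := h.tw_eq [8, 0] (by decide +kernel)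
theorem Sat.t_2222222001 (h : Sat v) : tw v R [2, 2, 2, 2, 2, 2, 2, 0, 0, 1] = tw v R [2, 2, 2, 2, 2, 2, 2] := h.tw_eq [1, 2] (by decide +kernel)
theorem Sat.t_2222222011 (h : Sat v) : tw v R [2, 2, 2, 2, 2, 2, 2, 0, 1, 1] = tw v R [2, 2, 2, 2, 2, 2, 2] := h.tw_eq [0, 1] (by decide +kernel)
theorem Sat.t_3222220011 (h : Sat v) : tw v R [3, 2, 2, 2, 2, 2, 0, 0, 1, 1] = tw v R [2, 2] := h.tw_eq [4, 2, 7] (by decide +kernel)
theorem Sat.t_3222222001 (h : Sat v) : tw v R [3, 2, 2, 2, 2, 2, 2, 0, 0, 1] = tw v R [3, 0] := h.tw_eq [2] (by decide +kernel)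
theorem Sat.t_3222222011 (h : Sat v) : tw v R [3, 2, 2, 2, 2, 2, 2, 0, 1, 1] = tw v R [3, 0] := h.tw_eq [2, 7] (by decide +kernel)
theorem Sat.t_3222222200 (h : Sat v) : tw v R [3, 2, 2, 2, 2, 2, 2, 2, 0, 0] = tw v R [2, 2] := h.tw_eq [3, 4, 8, 2] (by decide +kernel)
theorem Sat.t_3222222201 (h : Sat v) : tw v R [3, 2, 2, 2, 2, 2, 2, 2, 0, 1] = tw v R [2, 2] := h.tw_eq [4, 0, 7] (by decide +kernel)
theorem Sat.t_3222222211 (h : Sat v) : tw v R [3, 2, 2, 2, 2, 2, 2, 2, 1, 1] = tw v R [2, 2] := h.tw_eq [4, 0] (by decide +kernel)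
theorem Sat.t_3432222222 (h : Sat v) : tw v R [3, 4, 3, 2, 2, 2, 2, 2, 2, 2] = tw v R [2] := h.tw_eq [4, 4] (by decide +kernel)
theorem Sat.t_3442222222 (h : Sat v) : tw v R [3, 4, 4, 2, 2, 2, 2, 2, 2, 2] = tw v R [3, 0] := h.tw_eq [4, 3, 5, 3] (by decide +kernel)
theorem Sat.t_3443222222 (h : Sat v) : tw v R [3, 4, 4, 3, 2, 2, 2, 2, 2, 2] = tw v R [0] := h.tw_eq [2, 6, 0] (by decide +kernel)
theorem Sat.t_4432222222 (h : Sat v) : tw v R [4, 4, 3, 2, 2, 2, 2, 2, 2, 2] = tw v R [0] := h.tw_eq [4, 7, 5, 8] (by decide +kernel)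
theorem Sat.t_5555555557 (h : Sat v) : tw v R [5, 5, 5, 5, 5, 5, 5, 5, 5, 7] = tw v R [5] := h.tw_eq [7, 5] (by decide +kernel)
theorem Sat.t_22222220011 (h : Sat v) : tw v R [2, 2, 2, 2, 2, 2, 2, 0, 0, 1, 1] = tw v R [2, 2, 2, 2, 2, 2, 2] := h.tw_eq [7] (by decide +kernel)
theorem Sat.t_32222220011 (h : Sat v) : tw v R [3, 2, 2, 2, 2, 2, 2, 0, 0, 1, 1] = tw v R [3] := h.tw_eq [5, 5] (by decide +kernel)
theorem Sat.t_32222222001 (h : Sat v) : tw v R [3, 2, 2, 2, 2, 2, 2, 2, 0, 0, 1] = tw v R [2, 2] := h.tw_eq [4, 0, 1] (by decide +kernel)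
theorem Sat.t_32222222011 (h : Sat v) : tw v R [3, 2, 2, 2, 2, 2, 2, 2, 0, 1, 1] = tw v R [2, 2] := h.tw_eq [4, 7, 0] (by decide +kernel)
theorem Sat.t_34432222222 (h : Sat v) : tw v R [3, 4, 4, 3, 2, 2, 2, 2, 2, 2, 2] = tw v R [3] := h.tw_eq [2, 3, 4] (by decide +kernel)
theorem Sat.t_55555555557 (h : Sat v) : tw v R [5, 5, 5, 5, 5, 5, 5, 5, 5, 5, 7] = tw v R [0] := h.tw_eq [4, 0, 6, 6] (by decide +kernel)
theorem Sat.t_322222220011 (h : Sat v) : tw v R [3, 2, 2, 2, 2, 2, 2, 2, 0, 0, 1, 1] = tw v R [2, 2] := h.tw_eq [4, 1] (by decide +kernel)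

end Cfsg.Agent.H6.M11
end

-- part: H6/M11/AB
section
/-!
# Elements of order 11 have real traces if `dim ≤ 12` and the characteristic is not 3, 11 (helper6)
-/

set_option autoImplicit false
set_option linter.unusedSectionVars false
set_option maxRecDepth 100000

namespace Cfsg.Agent.H6.M11

open Module LinearMap

variable {G : Type*} [Group G] {v : ℕ → G} {k : Type*} [Field k] {V : Type*} [AddCommGroup V] [Module k V]
  [FiniteDimensional k V] {R : G →* End k V} {ω : k}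

/-- `s` acts on the weight space of the character `(ω, 1)` as a sign, and `T(s) - T(s e₁)` is three times this sign -/
theorem Sat.eps (h : Sat v) (hω : IsPrimitiveRoot ω 3) (hE : op v R [0] ≠ 1) (hn : finrank k V ≤ 12) :
    ∃ ε : k, (ε = 1 ∨ ε = -1) ∧ (∀ u ∈ Wt v R ω 1, op v R [3] u = ε • u) ∧ tw v R [3] - tw v R [3, 0] = 3 * ε := by
  have h1 := h.wt_one (R := R) hω hE hn
  have hω3 := hω.pow_eq_one
  have hω0 : ω ≠ 0 := hω.ne_zero (by norm_num)
  have h3k : (3 : k) ≠ 0 := by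
    have := (hω.neZero').out
    simpa only [_root_.ne_eq, _root_.Nat.cast_ofNat] using this
  obtain ⟨⟨u0, hu0⟩, hu1, hu2⟩ := finrank_eq_one_iff'.1 h1
  have hu0' : u0 ≠ 0 := fun hc => hu1 (Subtype.ext hc)
  have hs : ∀ u ∈ Wt v R ω 1, op v R [3] u ∈ Wt v R ω 1 := by
    intro u hu
    have := h.s_mem hu
    rwa [one_pow] at this
  obtain ⟨ε, hε⟩ := hu2 ⟨_, hs u0 hu0⟩
  have hε' : op v R [3] u0 = ε • u0 := (congrArg Subtype.val hε).symm
  have hall : ∀ u ∈ Wt v R ω 1, op v R [3] u = ε • u := by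
    intro u hu
    obtain ⟨c, hc⟩ := hu2 ⟨u, hu⟩
    have hc' : c • u0 = u := congrArg Subtype.val hc
    rw [← hc', map_smul, hε', smul_comm]
  have hss : ε * ε = 1 := by
    have h2 : op v R [3, 3] = 1 := by
      rw [← op_nil v R]
      exact h.op_eq (by decide +kernel)
    rw [op_cons] at h2
    have h3 := congrArg (fun f : End k V => f u0) h2
    simp only [Module.End.mul_apply, hε', map_smul, smul_smul, Module.End.one_apply] at h3
    by_contra hc
    apply hu0'
    have h4 : (ε * ε - 1) • u0 = 0 := by rw [sub_smul, one_smul, h3, sub_self]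
    exact (smul_eq_zero.1 h4).resolve_left (sub_ne_zero.2 hc)
  refine ⟨ε, ?_, hall, ?_⟩
  · have h2 : (ε - 1) * (ε + 1) = 0 := by linear_combination hss
    rcases mul_eq_zero.1 h2 with h3 | h3
    · left; linear_combination h3
    · right; linear_combination h3
  · -- trace of `s * pr 1 0`
    have hP := h.isProj_pr (R := R) hω 1 0
    rw [pow_one, pow_zero] at hP
    have h2 : op v R [3] * pr v R ω 1 0 = ε • pr v R ω 1 0 := by
      ext u
      rw [Module.End.mul_apply, LinearMap.smul_apply]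
      exact hall _ (hP.map_mem u)
    have h3 := h.trace_pr (R := R) (ω := ω) h3k 1 0 [3]
    rw [h2, map_smul, trace_isProj hP, h1] at h3
    simp only [List.cons_append, List.nil_append, h.t_31, h.t_311, h.t_301, h.t_3011, h.t_300, h.t_3001, h.t_30011,
      pow_zero, inv_one, one_pow, one_mul, pow_one, Nat.cast_one, smul_eq_mul, mul_one] at h3
    have h4 : (1 : k) + ω + ω ^ 2 = 0 := by
      have h5 : (ω - 1) * (1 + ω + ω ^ 2) = 0 := by linear_combination hω3
      refine (mul_eq_zero.1 h5).resolve_left (sub_ne_zero.2 ?_)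
      exact hω.ne_one (by norm_num)
    have h5 : ω⁻¹ = ω ^ 2 := by
      rw [inv_eq_iff_eq_inv]
      apply eq_inv_of_mul_eq_one_left
      rw [← pow_succ']
      exact hω3
    rw [h5] at h3
    have h6 : (ω ^ 2) ^ 2 = ω := by linear_combination ω * hω3
    rw [h6] at h3
    have h7 : (3 : k) * (tw v R [3] - tw v R [3, 0] - 3 * ε) = 0 := by linear_combination -h3 - 3 * tw v R [3, 0] * h4
    have h8 := (mul_eq_zero.1 h7).resolve_left h3k
    linear_combination h8

/-! ### the element of order 11 -/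

section eleven

variable {ζ : k}

theorem Sat.pow_eleven (h : Sat v) : (op v R [5]) ^ 11 = 1 := by
  have h1 : op v R [5, 5, 5, 5, 5, 5, 5, 5, 5, 5, 5] = 1 := by
    rw [← op_nil v R]
    exact h.op_eq (by decide +kernel)
  rw [← h1]
  simp only [op_cons v R 5 [5, 5, 5, 5, 5, 5, 5, 5, 5, 5], op_cons v R 5 [5, 5, 5, 5, 5, 5, 5, 5, 5],
    op_cons v R 5 [5, 5, 5, 5, 5, 5, 5, 5], op_cons v R 5 [5, 5, 5, 5, 5, 5, 5], op_cons v R 5 [5, 5, 5, 5, 5, 5],
    op_cons v R 5 [5, 5, 5, 5, 5], op_cons v R 5 [5, 5, 5, 5], op_cons v R 5 [5, 5, 5], op_cons v R 5 [5, 5],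
    op_cons v R 5 [5], pow_succ, pow_zero, one_mul, mul_assoc]

theorem op_replicate (i j : ℕ) : op v R (List.replicate i j) = (op v R [j]) ^ i := by
  induction i with
  | zero => rw [List.replicate_zero, pow_zero, op_nil]
  | succ i ih => rw [List.replicate_succ, op_cons, ih, pow_succ']

/-- `d` permutes the eigenspaces of `x` -/
theorem Sat.d_mem (h : Sat v) {μ : k} {u : V} (hu : u ∈ End.eigenspace (op v R [5]) μ) :
    op v R [6] u ∈ End.eigenspace (op v R [5]) (μ ^ 3) := by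
  rw [End.mem_eigenspace_iff] at hu ⊢
  have r0 : op v R [5, 6] = op v R [6, 5, 5, 5] := h.op_eq (by decide +kernel)
  rw [← Module.End.mul_apply, ← op_cons, r0, op_cons, op_cons v R 5 [5, 5], op_cons v R 5 [5]]
  simp only [Module.End.mul_apply, hu, map_smul, smul_smul]
  congr 1
  ring

theorem Sat.F_le (h : Sat v) (hζ : ζ ^ 11 = 1) (b c : ℕ) (h1 : (3 * b) % 11 = c % 11) :
    finrank k (End.eigenspace (op v R [5]) (ζ ^ b)) ≤ finrank k (End.eigenspace (op v R [5]) (ζ ^ c)) := by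
  have e1 : (ζ ^ b) ^ 3 = ζ ^ c := by
    rw [← pow_mul, mul_comm b 3, pow_eq_pow_mod _ hζ, h1, ← pow_eq_pow_mod _ hζ]
  refine finrank_le_of_mapsTo (op_injective v R [6]) ?_
  intro u hu
  rw [← e1]
  exact h.d_mem hu

/-- the multiplicities of the eigenvalues of `x` -/
theorem Sat.eigen (h : Sat v) (hζ : IsPrimitiveRoot ζ 11) :
    ∃ m a b : ℕ, (∀ c : ℕ, (c = 1 ∨ c = 3 ∨ c = 4 ∨ c = 5 ∨ c = 9) → finrank k (End.eigenspace (op v R [5]) (ζ ^ c)) = a) ∧
      (∀ c : ℕ, (c = 2 ∨ c = 6 ∨ c = 7 ∨ c = 8 ∨ c = 10) → finrank k (End.eigenspace (op v R [5]) (ζ ^ c)) = b) ∧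
      finrank k (End.eigenspace (op v R [5]) 1) = m ∧ finrank k V = m + 5 * a + 5 * b ∧
      tw v R [5] = m + a * (ζ + ζ ^ 3 + ζ ^ 4 + ζ ^ 5 + ζ ^ 9) + b * (ζ ^ 2 + ζ ^ 6 + ζ ^ 7 + ζ ^ 8 + ζ ^ 10) ∧
      tw v R [5, 5, 5, 5, 5, 5, 5, 5, 5, 5] =
        m + b * (ζ + ζ ^ 3 + ζ ^ 4 + ζ ^ 5 + ζ ^ 9) + a * (ζ ^ 2 + ζ ^ 6 + ζ ^ 7 + ζ ^ 8 + ζ ^ 10) := by
  have h11 := hζ.pow_eq_one
  have hX := h.pow_eleven (R := R)
  have a1 := h.F_le (R := R) h11 1 3 rfl
  have a2 := h.F_le (R := R) h11 3 9 rfl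
  have a3 := h.F_le (R := R) h11 9 5 rfl
  have a4 := h.F_le (R := R) h11 5 4 rfl
  have a5 := h.F_le (R := R) h11 4 1 rfl
  have b1 := h.F_le (R := R) h11 2 6 rfl
  have b2 := h.F_le (R := R) h11 6 7 rfl
  have b3 := h.F_le (R := R) h11 7 10 rfl
  have b4 := h.F_le (R := R) h11 10 8 rfl
  have b5 := h.F_le (R := R) h11 8 2 rfl
  have E1 : ∀ c : ℕ, (c = 1 ∨ c = 3 ∨ c = 4 ∨ c = 5 ∨ c = 9) → finrank k (End.eigenspace (op v R [5]) (ζ ^ c)) =
      finrank k (End.eigenspace (op v R [5]) (ζ ^ 1)) := by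
    rintro c (rfl | rfl | rfl | rfl | rfl) <;> (clear * - a1 a2 a3 a4 a5; omega)
  have E2 : ∀ c : ℕ, (c = 2 ∨ c = 6 ∨ c = 7 ∨ c = 8 ∨ c = 10) → finrank k (End.eigenspace (op v R [5]) (ζ ^ c)) =
      finrank k (End.eigenspace (op v R [5]) (ζ ^ 2)) := by
    rintro c (rfl | rfl | rfl | rfl | rfl) <;> (clear * - b1 b2 b3 b4 b5; omega)
  have E0 : finrank k (End.eigenspace (op v R [5]) (ζ ^ 0)) = finrank k (End.eigenspace (op v R [5]) 1) := by
    rw [pow_zero]
  refine ⟨_, _, _, E1, E2, rfl, ?_, ?_, ?_⟩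
  · rw [finrank_top_eq_sum hζ (by norm_num) hX]
    rw [Fin.sum_univ_eq_sum_range (fun b => finrank k (End.eigenspace (op v R [5]) (ζ ^ b))) 11]
    simp only [Finset.sum_range_succ, Finset.sum_range_zero, zero_add]
    rw [E0, E1 3 (by norm_num), E1 4 (by norm_num), E1 5 (by norm_num), E1 9 (by norm_num), E2 6 (by norm_num),
      E2 7 (by norm_num), E2 8 (by norm_num), E2 10 (by norm_num)]
    ring
  · have h1 := trace_eq_sum hζ (by norm_num) hX 1
    rw [pow_one] at h1
    rw [tw, h1, Fin.sum_univ_eq_sum_range (fun b => ζ ^ (b * 1) * (finrank k (End.eigenspace (op v R [5]) (ζ ^ b)) : k)) 11]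
    simp only [Finset.sum_range_succ, Finset.sum_range_zero, zero_add]
    rw [E0, E1 3 (by norm_num), E1 4 (by norm_num), E1 5 (by norm_num), E1 9 (by norm_num), E2 6 (by norm_num),
      E2 7 (by norm_num), E2 8 (by norm_num), E2 10 (by norm_num)]
    ring
  · have h1 := trace_eq_sum hζ (by norm_num) hX 10
    have e : op v R [5, 5, 5, 5, 5, 5, 5, 5, 5, 5] = (op v R [5]) ^ 10 := op_replicate 10 5
    rw [tw, e, h1,
      Fin.sum_univ_eq_sum_range (fun b => ζ ^ (b * 10) * (finrank k (End.eigenspace (op v R [5]) (ζ ^ b)) : k)) 11]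
    simp only [Finset.sum_range_succ, Finset.sum_range_zero, zero_add]
    rw [E0, E1 3 (by norm_num), E1 4 (by norm_num), E1 5 (by norm_num), E1 9 (by norm_num), E2 6 (by norm_num),
      E2 7 (by norm_num), E2 8 (by norm_num), E2 10 (by norm_num)]
    have q : ∀ m : ℕ, ζ ^ m = ζ ^ (m % 11) := fun m => pow_eq_pow_mod m h11
    rw [q (1 * 10), q (2 * 10), q (3 * 10), q (4 * 10), q (5 * 10), q (6 * 10), q (7 * 10), q (8 * 10), q (9 * 10),
      q (10 * 10), q (0 * 10)]
    norm_num only [_root_.pow_zero, _root_.one_mul, _root_.pow_one]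
    ring

theorem inv_pow_red (h11 : ζ ^ 11 = 1) {b : ℕ} (hb : b ≤ 11) (i : ℕ) : ((ζ ^ b)⁻¹) ^ i = ζ ^ (((11 - b) * i) % 11) := by
  have h1 : (ζ ^ b)⁻¹ = ζ ^ (11 - b) := by
    rw [inv_eq_iff_eq_inv]
    apply eq_inv_of_mul_eq_one_left
    rw [← pow_add, Nat.add_sub_cancel' hb, h11]
  rw [h1, ← pow_mul, pow_eq_pow_mod _ h11]

/-- a missing weight gives a relation for the traces of `xⁱ w` -/
theorem Sat.trace_zero (h : Sat v) (hζ : IsPrimitiveRoot ζ 11) {b : ℕ} (hb : b ≤ 11)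
    (h0 : finrank k (End.eigenspace (op v R [5]) (ζ ^ b)) = 0) :
    ∑ i ∈ Finset.range 11, ζ ^ (((11 - b) * i) % 11) * tw v R (List.replicate i 5 ++ [7]) = 0 := by
  have h11 := hζ.pow_eq_one
  have hX := h.pow_eleven (R := R)
  have hζ0 : ζ ≠ 0 := hζ.ne_zero (by norm_num)
  have h11k : ((11 : ℕ) : k) ≠ 0 := (hζ.neZero').out
  have hP := isProj_sp h11k hζ0 h11 hX b
  have hbot : End.eigenspace (op v R [5]) (ζ ^ b) = ⊥ := Submodule.finrank_eq_zero.1 h0
  have hz : sp 11 ζ (op v R [5]) b = 0 := by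
    ext u
    have h1 := hP.map_mem u
    rw [hbot, Submodule.mem_bot] at h1
    exact h1
  have h1 : LinearMap.trace k V (sp 11 ζ (op v R [5]) b * op v R [7]) = 0 := by rw [hz, zero_mul, map_zero]
  unfold sp av at h1
  rw [smul_mul_assoc, map_smul, smul_eq_mul, Finset.sum_mul, map_sum] at h1
  have h2 := (mul_eq_zero.1 h1).resolve_left (inv_ne_zero h11k)
  rw [← h2]
  refine Finset.sum_congr rfl fun i _ => ?_
  rw [smul_pow, smul_mul_assoc, map_smul, smul_eq_mul, inv_pow_red h11 hb, tw, op_append, op_replicate]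

theorem sum_zero (hζ : IsPrimitiveRoot ζ 11) :
    1 + ζ + ζ ^ 2 + ζ ^ 3 + ζ ^ 4 + ζ ^ 5 + ζ ^ 6 + ζ ^ 7 + ζ ^ 8 + ζ ^ 9 + ζ ^ 10 = 0 := by
  have h5 : (ζ - 1) * (1 + ζ + ζ ^ 2 + ζ ^ 3 + ζ ^ 4 + ζ ^ 5 + ζ ^ 6 + ζ ^ 7 + ζ ^ 8 + ζ ^ 9 + ζ ^ 10) = 0 := by
    linear_combination hζ.pow_eq_one
  refine (mul_eq_zero.1 h5).resolve_left (sub_ne_zero.2 ?_)
  exact hζ.ne_one (by norm_num)

theorem Sat.trace_zero' (h : Sat v) (hζ : IsPrimitiveRoot ζ 11) {b : ℕ} (hb : b ≤ 11)
    (h0 : finrank k (End.eigenspace (op v R [5]) (ζ ^ b)) = 0) :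
    tw v R [3] + ζ ^ (((11 - b) * 1) % 11) * tw v R [0] +
      ζ ^ (((11 - b) * 2) % 11) * tw v R [5, 5, 5, 5, 5, 5, 5, 5, 5, 5] +
      ζ ^ (((11 - b) * 3) % 11) * tw v R [6] + ζ ^ (((11 - b) * 4) % 11) * tw v R [6] +
      ζ ^ (((11 - b) * 5) % 11) * tw v R [3, 0] + ζ ^ (((11 - b) * 6) % 11) * tw v R [3, 0] +
      ζ ^ (((11 - b) * 7) % 11) * tw v R [6] + ζ ^ (((11 - b) * 8) % 11) * tw v R [6] +
      ζ ^ (((11 - b) * 9) % 11) * tw v R [5] + ζ ^ (((11 - b) * 10) % 11) * tw v R [0] = 0 := by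
  have h1 := h.trace_zero hζ hb h0
  simp only [Finset.sum_range_succ, Finset.sum_range_zero, zero_add, List.replicate_succ, List.replicate_zero,
    List.cons_append, List.nil_append, h.t_7, h.t_57, h.t_557, h.t_5557, h.t_55557, h.t_555557, h.t_5555557,
    h.t_55555557, h.t_555555557, h.t_5555555557, h.t_55555555557] at h1
  rw [Nat.mul_zero, Nat.zero_mod, pow_zero, one_mul] at h1
  exact h1

/-- if the weights of one class do not occur then `T(2) = T(6)` -/
theorem Sat.two_eq_six (h : Sat v) (hζ : IsPrimitiveRoot ζ 11)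
    (h0 : ∀ c : ℕ, (c = 2 ∨ c = 6 ∨ c = 7 ∨ c = 8 ∨ c = 10) → finrank k (End.eigenspace (op v R [5]) (ζ ^ c)) = 0) :
    tw v R [3] = tw v R [3, 0] := by
  have h11 := hζ.pow_eq_one
  have hs := sum_zero hζ
  have h11k : (11 : k) ≠ 0 := by
    have := (hζ.neZero').out
    simpa only [_root_.ne_eq, _root_.Nat.cast_ofNat] using this
  have S2 := h.trace_zero' hζ (by norm_num) (h0 2 (by norm_num))
  have S6 := h.trace_zero' hζ (by norm_num) (h0 6 (by norm_num))
  have S7 := h.trace_zero' hζ (by norm_num) (h0 7 (by norm_num))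
  have S8 := h.trace_zero' hζ (by norm_num) (h0 8 (by norm_num))
  have S10 := h.trace_zero' hζ (by norm_num) (h0 10 (by norm_num))
  norm_num only [_root_.pow_one] at S2 S6 S7 S8 S10
  generalize tw v R [3] = T2 at *
  generalize tw v R [3, 0] = T6 at *
  generalize tw v R [0] = T3 at *
  generalize tw v R [6] = T5 at *
  generalize tw v R [5] = Tp at *
  generalize tw v R [5, 5, 5, 5, 5, 5, 5, 5, 5, 5] = Tm at *
  have key : 11 * (T6 - T2) = 0 := by
    linear_combination (ζ ^ 10 + ζ ^ 1 - 2) * S2 + (ζ ^ 8 + ζ ^ 3 - 2) * S6 + (ζ ^ 2 + ζ ^ 9 - 2) * S7 +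
      (ζ ^ 7 + ζ ^ 4 - 2) * S8 + (ζ ^ 6 + ζ ^ 5 - 2) * S10 -
      ((2 * ζ ^ 1 + 2 * ζ ^ 2 + 1 * ζ ^ 3 + 2 * ζ ^ 4 + 2 * ζ ^ 5 + 1 * ζ ^ 8) * T3 +
      (2 * ζ ^ 2 + 2 * ζ ^ 6 + 1 * ζ ^ 7) * Tm + (4 * ζ ^ 1 + 4 * ζ ^ 2 + 3 * ζ ^ 3 + 3 * ζ ^ 4 + 2 * ζ ^ 5 +
      2 * ζ ^ 6 + 1 * ζ ^ 7 + 1 * ζ ^ 8) * T5 + (10 * ζ ^ 0 + 1 * ζ ^ 1 + 1 * ζ ^ 3 + 1 * ζ ^ 5 + 1 * ζ ^ 7 +
      1 * ζ ^ 9) * T6 + (2 * ζ ^ 1 + 2 * ζ ^ 3 + 1 * ζ ^ 4) * Tp) * h11 - (T2 - T6) * hs
  have := (mul_eq_zero.1 key).resolve_left h11k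
  linear_combination -this

/-- **Elements of order 11 have real traces** (dimension at most 12, characteristic not 3, 11). -/
theorem Sat.eleven_real (h : Sat v) (hω : IsPrimitiveRoot ω 3) (hζ : IsPrimitiveRoot ζ 11) (hE : op v R [0] ≠ 1)
    (hn : finrank k V ≤ 12) : tw v R [5, 5, 5, 5, 5, 5, 5, 5, 5, 5] = tw v R [5] := by
  obtain ⟨ε, hε, -, hε3⟩ := h.eps (R := R) hω hE hn
  have h3k : (3 : k) ≠ 0 := by
    have := (hω.neZero').out
    simpa only [_root_.ne_eq, _root_.Nat.cast_ofNat] using this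
  have hne : tw v R [3] ≠ tw v R [3, 0] := by
    intro hc
    rw [hc, sub_self] at hε3
    rcases hε with rfl | rfl
    · exact h3k (by linear_combination -hε3)
    · exact h3k (by linear_combination hε3)
  obtain ⟨m, a, b, ha, hb, -, hd, T1, T2⟩ := h.eigen (R := R) hζ
  by_cases hab : a = b
  · rw [T1, T2, hab]
  · exfalso
    have h1 : a = 0 ∨ b = 0 := by omega
    rcases h1 with h1 | h1
    · -- squares missing : use the inverse root
      apply hne
      have hζ' : IsPrimitiveRoot ζ⁻¹ 11 := hζ.inv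
      refine h.two_eq_six (ζ := ζ⁻¹) hζ' ?_
      have q : ∀ c : ℕ, c ≤ 11 → ζ⁻¹ ^ c = ζ ^ (11 - c) := by
        intro c hc
        rw [inv_pow, inv_eq_iff_eq_inv]
        apply eq_inv_of_mul_eq_one_left
        rw [← pow_add, Nat.add_sub_cancel' hc, hζ.pow_eq_one]
      rintro c (rfl | rfl | rfl | rfl | rfl)
      · rw [q 2 (by norm_num), ha 9 (by norm_num), h1]
      · rw [q 6 (by norm_num), ha 5 (by norm_num), h1]
      · rw [q 7 (by norm_num), ha 4 (by norm_num), h1]
      · rw [q 8 (by norm_num), ha 3 (by norm_num), h1]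
      · rw [q 10 (by norm_num), ha 1 (by norm_num), h1]
    · apply hne
      refine h.two_eq_six hζ ?_
      intro c hc
      rw [hb c hc, h1]

end eleven

end Cfsg.Agent.H6.M11
end

-- part: H6/M11/Two
section
/-!
# Involutions on the range of a projection, absorption (helper6)
-/

set_option autoImplicit false
set_option linter.unusedSectionVars false
set_option maxRecDepth 100000

namespace Cfsg.Agent.H6.M11

open Module LinearMap

section lin

variable {k : Type*} [Field k] {V : Type*} [AddCommGroup V] [Module k V]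

theorem cast_eq (h2 : (2 : k) ≠ 0) (h3 : (3 : k) ≠ 0) {a b : ℕ} (h : (a : k) = (b : k)) (h1 : a ≤ b + 4)
    (h1' : b ≤ a + 4) : a = b := by
  have key : ∀ c : ℕ, 0 < c → c ≤ 4 → (c : k) ≠ 0 := by
    intro c hc hc4
    interval_cases c
    · simp only [_root_.Nat.cast_one, _root_.ne_eq, _root_.one_ne_zero, _root_.not_false_eq_true]
    · exact_mod_cast h2
    · exact_mod_cast h3
    · intro h4
      have h5 : (2 : k) * 2 = 0 := by
        rw [← h4]; norm_num
      exact h2 ((mul_eq_zero.1 h5).elim _root_.id _root_.id)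
  rcases lt_trichotomy a b with hab | hab | hab
  · exfalso
    obtain ⟨c, rfl⟩ := Nat.exists_eq_add_of_lt hab
    push_cast at h
    refine key (c + 1) (by omega) (by omega) ?_
    push_cast
    linear_combination -h
  · exact hab
  · exfalso
    obtain ⟨c, rfl⟩ := Nat.exists_eq_add_of_lt hab
    push_cast at h
    refine key (c + 1) (by omega) (by omega) ?_
    push_cast
    linear_combination h

theorem mem_of_comm {S : Submodule k V} {P Z : End k V} (hP : IsProj S P) (hc : Z * P = P * Z) {u : V} (hu : u ∈ S) :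
    Z u ∈ S := by
  have h1 := hP.map_mem (Z u)
  rw [← Module.End.mul_apply, ← hc, Module.End.mul_apply, hP.map_id u hu] at h1
  exact h1

theorem sq_of_comm {S : Submodule k V} {P Z : End k V} (hP : IsProj S P) (hZ : Z * (Z * P) = P) {u : V} (hu : u ∈ S) :
    Z (Z u) = u := by
  have h1 := congrArg (fun f : End k V => f u) hZ
  simp only [Module.End.mul_apply, hP.map_id u hu] at h1
  exact h1

theorem half_add (h2 : (2 : k) ≠ 0) (u : V) : (2 : k)⁻¹ • (u + u) = u := by
  rw [← two_smul k u, smul_smul, inv_mul_cancel₀ h2, one_smul]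

/-- the two projections of an involution on the range of a projection -/
theorem isProj_plus (h2 : (2 : k) ≠ 0) {S : Submodule k V} {P Z : End k V} (hP : IsProj S P)
    (hc : Z * P = P * Z) (hZ : Z * (Z * P) = P) :
    IsProj (S ⊓ End.eigenspace Z 1) ((2 : k)⁻¹ • (P + Z * P)) := by
  refine ⟨fun u => ?_, fun u hu => ?_⟩
  · refine Submodule.mem_inf.2 ⟨?_, ?_⟩
    · rw [LinearMap.smul_apply, LinearMap.add_apply]
      exact S.smul_mem _ (S.add_mem (hP.map_mem u) (mem_of_comm hP hc (hP.map_mem u)))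
    · rw [End.mem_eigenspace_iff, one_smul, LinearMap.smul_apply, LinearMap.add_apply, map_smul, map_add,
        Module.End.mul_apply, sq_of_comm hP hZ (hP.map_mem u), add_comm]
  · obtain ⟨hu1, hu2⟩ := Submodule.mem_inf.1 hu
    rw [End.mem_eigenspace_iff, one_smul] at hu2
    rw [LinearMap.smul_apply, LinearMap.add_apply, Module.End.mul_apply, hP.map_id u hu1, hu2, half_add h2]

theorem isProj_minus (h2 : (2 : k) ≠ 0) {S : Submodule k V} {P Z : End k V} (hP : IsProj S P)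
    (hc : Z * P = P * Z) (hZ : Z * (Z * P) = P) :
    IsProj (S ⊓ End.eigenspace Z (-1)) ((2 : k)⁻¹ • (P - Z * P)) := by
  refine ⟨fun u => ?_, fun u hu => ?_⟩
  · refine Submodule.mem_inf.2 ⟨?_, ?_⟩
    · rw [LinearMap.smul_apply, LinearMap.sub_apply]
      exact S.smul_mem _ (S.sub_mem (hP.map_mem u) (mem_of_comm hP hc (hP.map_mem u)))
    · rw [End.mem_eigenspace_iff, LinearMap.smul_apply, LinearMap.sub_apply, map_smul, map_sub,
        Module.End.mul_apply, sq_of_comm hP hZ (hP.map_mem u), smul_comm, neg_one_smul, neg_sub]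
  · obtain ⟨hu1, hu2⟩ := Submodule.mem_inf.1 hu
    rw [End.mem_eigenspace_iff, neg_one_smul] at hu2
    rw [LinearMap.smul_apply, LinearMap.sub_apply, Module.End.mul_apply, hP.map_id u hu1, hu2, sub_neg_eq_add,
      half_add h2]

/-- an involution on the range of a projection -/
theorem two_dims [FiniteDimensional k V] (h2 : (2 : k) ≠ 0) {S : Submodule k V} {P Z : End k V} (hP : IsProj S P)
    (hc : Z * P = P * Z) (hZ : Z * (Z * P) = P) :
    finrank k S = finrank k (S ⊓ End.eigenspace Z 1 : Submodule k V) +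
        finrank k (S ⊓ End.eigenspace Z (-1) : Submodule k V) ∧
      LinearMap.trace k V (Z * P) = (finrank k (S ⊓ End.eigenspace Z 1 : Submodule k V) : k) -
        (finrank k (S ⊓ End.eigenspace Z (-1) : Submodule k V) : k) := by
  have h2' : (2 : k)⁻¹ * 2 = 1 := inv_mul_cancel₀ h2
  have half := half_add (V := V) h2
  have hP1 := isProj_plus h2 hP hc hZ
  have hP2 := isProj_minus h2 hP hc hZ
  constructor
  · have hinf : (S ⊓ End.eigenspace Z 1) ⊓ (S ⊓ End.eigenspace Z (-1)) = ⊥ := by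
      rw [eq_bot_iff]
      intro u hu
      obtain ⟨hu1, hu2⟩ := Submodule.mem_inf.1 hu
      have h3 := (Submodule.mem_inf.1 hu1).2
      have h4 := (Submodule.mem_inf.1 hu2).2
      rw [End.mem_eigenspace_iff, one_smul] at h3
      rw [End.mem_eigenspace_iff, neg_one_smul, h3] at h4
      rw [Submodule.mem_bot]
      have h5 : (2 : k) • u = 0 := by rw [two_smul]; nth_rewrite 1 [h4]; rw [neg_add_cancel]
      exact (smul_eq_zero.1 h5).resolve_left h2
    have hsup : (S ⊓ End.eigenspace Z 1) ⊔ (S ⊓ End.eigenspace Z (-1)) = S := by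
      refine le_antisymm (sup_le inf_le_left inf_le_left) ?_
      intro u hu
      rw [Submodule.mem_sup]
      refine ⟨_, hP1.map_mem u, _, hP2.map_mem u, ?_⟩
      rw [LinearMap.smul_apply, LinearMap.smul_apply, ← smul_add, LinearMap.add_apply, LinearMap.sub_apply,
        hP.map_id u hu, add_add_sub_cancel, half]
    have h3 := Submodule.finrank_sup_add_finrank_inf_eq (S ⊓ End.eigenspace Z 1) (S ⊓ End.eigenspace Z (-1))
    rw [hinf, hsup, finrank_bot, add_zero] at h3
    exact h3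
  · rw [← trace_isProj hP1, ← trace_isProj hP2, ← map_sub, ← smul_sub, add_sub_sub_cancel, map_smul, map_add,
      smul_eq_mul, ← two_mul, ← mul_assoc, h2', one_mul]

/-- absorption -/
theorem av_mul_of {m : ℕ} (hm : (m : k) ≠ 0) {X Q : End k V} (h : X * Q = Q) : av m X * Q = Q := by
  have h1 : ∀ i : ℕ, X ^ i * Q = Q := by
    intro i
    induction i with
    | zero => rw [pow_zero, one_mul]
    | succ i ih => rw [pow_succ, mul_assoc, h, ih]
  rw [av, smul_mul_assoc, Finset.sum_mul, Finset.sum_congr rfl (fun i _ => h1 i), Finset.sum_const, Finset.card_range,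
    ← Nat.cast_smul_eq_nsmul k, smul_smul, inv_mul_cancel₀ hm, one_smul]

theorem mul_av_of {m : ℕ} (hm : (m : k) ≠ 0) {X Q : End k V} (h : Q * X = Q) : Q * av m X = Q := by
  have h1 : ∀ i : ℕ, Q * X ^ i = Q := by
    intro i
    induction i with
    | zero => rw [pow_zero, mul_one]
    | succ i ih => rw [pow_succ, ← mul_assoc, ih, h]
  rw [av, mul_smul_comm, Finset.mul_sum, Finset.sum_congr rfl (fun i _ => h1 i), Finset.sum_const, Finset.card_range,
    ← Nat.cast_smul_eq_nsmul k, smul_smul, inv_mul_cancel₀ hm, one_smul]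

theorem av_mul_self_right {m : ℕ} {X : End k V} (h : X ^ m = 1) : av m X * X = av m X := by
  rw [← (comm_av (Commute.refl X) : Commute X (av m X)).eq, mul_av h]

/-- if two projections absorb -/
theorem le_of_finrank {S T : Submodule k V} [FiniteDimensional k V] (h : finrank k (S ⊓ T : Submodule k V) = finrank k S) :
    S ≤ T := by
  have h1 : S ⊓ T = S := Submodule.eq_of_le_of_finrank_eq inf_le_left h
  rw [← h1]
  exact inf_le_right

end lin

end Cfsg.Agent.H6.M11
end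

private theorem dce_9e35901a19d1 : _root_.True := by
  try have : _root_.True := by simp only [_root_.Cfsg.Agent.H6.M11.Wt.eq_1]
  try have : _root_.True := by simp only [_root_.Cfsg.Agent.H6.M11.tw.eq_1]
  exact _root_.True.intro
end

-- part: H6/M11/Stage11
section
prune_inst 0x40000000000000180000000000000000000000000000004000000000800000000000002000000000084000000040000000000000000000000000000000000000000080080000400000000000000000000000000000000000000000000000000000000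
set_option linter.all false
open scoped Cfsg.Agent.FastGrp

-- part: H6/M11/FixE
section
/-!
# The fixed space of `E` (helper6)
-/

set_option autoImplicit false
set_option linter.unusedSectionVars false
set_option maxRecDepth 100000

namespace Cfsg.Agent.H6.M11

open Module LinearMap

variable {G : Type*} [Group G] {v : ℕ → G} {k : Type*} [Field k] {V : Type*} [AddCommGroup V] [Module k V]
  [FiniteDimensional k V] {R : G →* End k V} {ω : k}

variable (v R) in
/-- the projection to the fixed space of `E` -/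
noncomputable def pE : End k V := av 3 (op v R [0]) * av 3 (op v R [1])

theorem pr_eq : pr v R ω 0 0 = pE v R := by
  unfold pr sp pE
  rw [pow_zero, inv_one, one_smul, one_smul]

theorem Sat.isProj_pE (h : Sat v) (hω : IsPrimitiveRoot ω 3) : IsProj (Wt v R 1 1) (pE v R) := by
  have h1 := h.isProj_pr (R := R) hω 0 0
  rwa [pr_eq, pow_zero] at h1

theorem pE_mul (h3 : (3 : k) ≠ 0) {Q : End k V} (h0 : op v R [0] * Q = Q) (h1 : op v R [1] * Q = Q) :
    pE v R * Q = Q := by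
  have h3' : ((3 : ℕ) : k) ≠ 0 := by exact_mod_cast h3
  rw [pE, mul_assoc, av_mul_of h3' h1, av_mul_of h3' h0]

theorem mul_pE (h3 : (3 : k) ≠ 0) {Q : End k V} (h0 : Q * op v R [0] = Q) (h1 : Q * op v R [1] = Q) :
    Q * pE v R = Q := by
  have h3' : ((3 : ℕ) : k) ≠ 0 := by exact_mod_cast h3
  rw [pE, ← mul_assoc, mul_av_of h3' h0, mul_av_of h3' h1]

theorem Sat.zero_pE (h : Sat v) : op v R [0] * pE v R = pE v R := by
  rw [pE, ← mul_assoc, mul_av (h.pow_three 0 (Or.inl rfl))]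

theorem Sat.one_pE (h : Sat v) : op v R [1] * pE v R = pE v R := by
  have h1 : Commute (op v R [1]) (av 3 (op v R [0])) := comm_av h.comm01.symm
  rw [pE, ← mul_assoc, h1.eq, mul_assoc, mul_av (h.pow_three 1 (Or.inr (Or.inl rfl)))]

theorem Sat.pE_zero (h : Sat v) : pE v R * op v R [0] = pE v R := by
  have h1 : Commute (op v R [0]) (av 3 (op v R [1])) := comm_av h.comm01
  rw [pE, mul_assoc, ← h1.eq, ← mul_assoc, av_mul_self_right (h.pow_three 0 (Or.inl rfl))]

theorem Sat.pE_one (h : Sat v) : pE v R * op v R [1] = pE v R := by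
  rw [pE, mul_assoc, av_mul_self_right (h.pow_three 1 (Or.inr (Or.inl rfl)))]

theorem Sat.comm_two (h : Sat v) (h3 : (3 : k) ≠ 0) : op v R [2] * pE v R = pE v R * op v R [2] := by
  have r1 : op v R [0] * op v R [2] = op v R [2] * (op v R [0] * (op v R [0] * op v R [1])) := by
    have : op v R [0, 2] = op v R [2, 0, 0, 1] := h.op_eq (by decide +kernel)
    rwa [op_cons v R 0 [2], op_cons v R 2 [0, 0, 1], op_cons v R 0 [0, 1], op_cons v R 0 [1]] at this
  have r2 : op v R [1] * op v R [2] = op v R [2] * (op v R [0] * (op v R [0] * (op v R [1] * op v R [1]))) := by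
    have : op v R [1, 2] = op v R [2, 0, 0, 1, 1] := h.op_eq (by decide +kernel)
    rwa [op_cons v R 1 [2], op_cons v R 2 [0, 0, 1, 1], op_cons v R 0 [0, 1, 1], op_cons v R 0 [1, 1], op_cons v R 1 [1]] at this
  have r3 : op v R [2] * op v R [0] = op v R [0] * op v R [1] * op v R [2] := by
    have : op v R [2, 0] = op v R [0, 1, 2] := h.op_eq (by decide +kernel)
    rwa [op_cons, op_cons v R 0 [1, 2], op_cons v R 1 [2], ← mul_assoc] at this
  have r4 : op v R [2] * op v R [1] = op v R [0] * op v R [0] * op v R [1] * op v R [2] := by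
    have : op v R [2, 1] = op v R [0, 0, 1, 2] := h.op_eq (by decide +kernel)
    rwa [op_cons, op_cons v R 0 [0, 1, 2], op_cons v R 0 [1, 2], op_cons v R 1 [2], ← mul_assoc, ← mul_assoc] at this
  have a1 : pE v R * (op v R [2] * pE v R) = op v R [2] * pE v R := by
    apply pE_mul h3
    · rw [← mul_assoc, r1, mul_assoc, mul_assoc, mul_assoc, h.one_pE, h.zero_pE, h.zero_pE]
    · rw [← mul_assoc, r2, mul_assoc, mul_assoc, mul_assoc, mul_assoc, h.one_pE, h.one_pE, h.zero_pE, h.zero_pE]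
  have a2 : (pE v R * op v R [2]) * pE v R = pE v R * op v R [2] := by
    apply mul_pE h3
    · rw [mul_assoc, r3, ← mul_assoc, ← mul_assoc, h.pE_zero, h.pE_one]
    · rw [mul_assoc, r4, ← mul_assoc, ← mul_assoc, ← mul_assoc, h.pE_zero, h.pE_zero, h.pE_one]
  rw [← a1, ← mul_assoc, a2]

theorem Sat.comm_three (h : Sat v) (h3 : (3 : k) ≠ 0) : op v R [3] * pE v R = pE v R * op v R [3] := by
  have r1 : op v R [3] * op v R [0] = op v R [0] * op v R [3] := by
    have : op v R [3, 0] = op v R [0, 3] := h.op_eq (by decide +kernel)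
    rwa [op_cons, op_cons v R 0 [3]] at this
  have r2 : op v R [1] * op v R [3] = op v R [3] * (op v R [1] * op v R [1]) := by
    have : op v R [1, 3] = op v R [3, 1, 1] := h.op_eq (by decide +kernel)
    rwa [op_cons, op_cons v R 3 [1, 1], op_cons v R 1 [1]] at this
  have r4 : op v R [3] * op v R [1] = op v R [1] * op v R [1] * op v R [3] := by
    have : op v R [3, 1] = op v R [1, 1, 3] := h.op_eq (by decide +kernel)
    rwa [op_cons, op_cons v R 1 [1, 3], op_cons v R 1 [3], ← mul_assoc] at this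
  have a1 : pE v R * (op v R [3] * pE v R) = op v R [3] * pE v R := by
    apply pE_mul h3
    · rw [← mul_assoc, ← r1, mul_assoc, h.zero_pE]
    · rw [← mul_assoc, r2, mul_assoc, mul_assoc, h.one_pE, h.one_pE]
  have a2 : (pE v R * op v R [3]) * pE v R = pE v R * op v R [3] := by
    apply mul_pE h3
    · rw [mul_assoc, r1, ← mul_assoc, h.pE_zero]
    · rw [mul_assoc, r4, ← mul_assoc, ← mul_assoc, h.pE_one, h.pE_one]
  rw [← a1, ← mul_assoc, a2]

theorem Sat.comm_word (h : Sat v) (h3 : (3 : k) ≠ 0) (w : List ℕ) (hw : ∀ i ∈ w, i = 2 ∨ i = 3) :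
    op v R w * pE v R = pE v R * op v R w := by
  induction w with
  | nil => rw [op_nil, one_mul, mul_one]
  | cons i w ih =>
    rw [op_cons, mul_assoc, ih (fun j hj => hw j (List.mem_cons_of_mem _ hj)), ← mul_assoc]
    rcases hw i List.mem_cons_self with rfl | rfl
    · rw [h.comm_two h3, mul_assoc]
    · rw [h.comm_three h3, mul_assoc]

variable (v R) in
/-- trace of a word on the fixed space of `E` -/
noncomputable def tE (w : List ℕ) : k := LinearMap.trace k V (op v R w * pE v R)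

theorem Sat.nine_tE (h : Sat v) (h3 : (3 : k) ≠ 0) (u : List ℕ) :
    9 * tE v R u = (tw v R u + tw v R (u ++ [1]) + tw v R (u ++ [1, 1])) +
      (tw v R (u ++ [0]) + tw v R (u ++ [0, 1]) + tw v R (u ++ [0, 1, 1])) +
      (tw v R (u ++ [0, 0]) + tw v R (u ++ [0, 0, 1]) + tw v R (u ++ [0, 0, 1, 1])) := by
  have h1 := h.trace_pr (R := R) (ω := (1 : k)) h3 0 0 u
  rw [pr_eq] at h1
  simp only [pow_zero, inv_one, one_mul, one_pow] at h1
  exact h1

theorem nine_ne (h3 : (3 : k) ≠ 0) : (9 : k) ≠ 0 := by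
  rw [show (9 : k) = 3 * 3 by norm_num]
  exact mul_ne_zero h3 h3

section tab

variable (h : Sat v) (h3 : (3 : k) ≠ 0)

include h h3

theorem Sat.tE_z : tE v R [2, 2, 2, 2] = tw v R [3] := by
  have h1 := h.nine_tE (R := R) h3 [2, 2, 2, 2]
  simp only [List.cons_append, List.nil_append, h.t_2222, h.t_22221, h.t_222211, h.t_22220, h.t_222201, h.t_2222011,
    h.t_222200, h.t_2222001, h.t_22220011] at h1
  apply mul_left_cancel₀ (nine_ne h3)
  linear_combination h1

theorem Sat.tE_yy : tE v R [2, 2] = tw v R [2, 2] := by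
  have h1 := h.nine_tE (R := R) h3 [2, 2]
  simp only [List.cons_append, List.nil_append, h.t_221, h.t_2211, h.t_220, h.t_2201, h.t_22011,
    h.t_2200, h.t_22001, h.t_220011] at h1
  apply mul_left_cancel₀ (nine_ne h3)
  linear_combination h1

theorem Sat.tE_y6 : tE v R [2, 2, 2, 2, 2, 2] = tw v R [2, 2] := by
  have h1 := h.nine_tE (R := R) h3 [2, 2, 2, 2, 2, 2]
  simp only [List.cons_append, List.nil_append, h.t_222222, h.t_2222221, h.t_22222211, h.t_2222220, h.t_22222201,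
    h.t_222222011, h.t_22222200, h.t_222222001, h.t_2222220011] at h1
  apply mul_left_cancel₀ (nine_ne h3)
  linear_combination h1

theorem Sat.tE_y : tE v R [2] = tw v R [2] := by
  have h1 := h.nine_tE (R := R) h3 [2]
  simp only [List.cons_append, List.nil_append, h.t_21, h.t_211, h.t_20, h.t_201, h.t_2011,
    h.t_200, h.t_2001, h.t_20011] at h1
  apply mul_left_cancel₀ (nine_ne h3)
  linear_combination h1

theorem Sat.tE_y5 : tE v R [2, 2, 2, 2, 2] = tw v R [2, 2, 2, 2, 2, 2, 2] := by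
  have h1 := h.nine_tE (R := R) h3 [2, 2, 2, 2, 2]
  simp only [List.cons_append, List.nil_append, h.t_22222, h.t_222221, h.t_2222211, h.t_222220, h.t_2222201,
    h.t_22222011, h.t_2222200, h.t_22222001, h.t_222220011] at h1
  apply mul_left_cancel₀ (nine_ne h3)
  linear_combination h1

theorem Sat.tE_q : tE v R [3, 2] = tw v R [2, 2] := by
  have h1 := h.nine_tE (R := R) h3 [3, 2]
  simp only [List.cons_append, List.nil_append, h.t_32, h.t_321, h.t_3211, h.t_320, h.t_3201, h.t_32011,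
    h.t_3200, h.t_32001, h.t_320011] at h1
  apply mul_left_cancel₀ (nine_ne h3)
  linear_combination h1

theorem Sat.tE_q5 : tE v R [3, 2, 2, 2, 2, 2] = tw v R [2, 2] := by
  have h1 := h.nine_tE (R := R) h3 [3, 2, 2, 2, 2, 2]
  simp only [List.cons_append, List.nil_append, h.t_322222, h.t_3222221, h.t_32222211, h.t_3222220, h.t_32222201,
    h.t_322222011, h.t_32222200, h.t_322222001, h.t_3222220011] at h1
  apply mul_left_cancel₀ (nine_ne h3)
  linear_combination h1

theorem Sat.tE_s : 3 * tE v R [3] = tw v R [3] + 2 * tw v R [3, 0] := by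
  have h1 := h.nine_tE (R := R) h3 [3]
  simp only [List.cons_append, List.nil_append, h.t_31, h.t_311, h.t_301, h.t_3011,
    h.t_300, h.t_3001, h.t_30011] at h1
  apply mul_left_cancel₀ h3
  linear_combination h1

theorem Sat.tE_sz : 3 * tE v R [3, 2, 2, 2, 2] = tw v R [3] + 2 * tw v R [3, 0] := by
  have h1 := h.nine_tE (R := R) h3 [3, 2, 2, 2, 2]
  simp only [List.cons_append, List.nil_append, h.t_32222, h.t_322221, h.t_3222211, h.t_322220, h.t_3222201,
    h.t_32222011, h.t_3222200, h.t_32222001, h.t_322220011] at h1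
  apply mul_left_cancel₀ h3
  linear_combination h1

theorem Sat.tE_one : 9 * tE v R [] = tw v R [] + 8 * tw v R [0] := by
  have h1 := h.nine_tE (R := R) h3 []
  simp only [List.nil_append, h.t_1, h.t_11, h.t_01, h.t_011, h.t_00, h.t_001, h.t_0011] at h1
  linear_combination h1

end tab

theorem tw_nil : tw v R [] = (finrank k V : k) := by
  rw [tw, op_nil, Module.End.one_eq_id, LinearMap.trace_id]

theorem Sat.tE_nil (h : Sat v) (hω : IsPrimitiveRoot ω 3) : tE v R [] = (finrank k (Wt v R 1 1) : k) := by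
  rw [tE, op_nil, one_mul, trace_isProj (h.isProj_pE hω)]

end Cfsg.Agent.H6.M11
end

-- part: H6/M11/Cases
section
/-!
# Characteristic at least 5, dimension at most 12: the fixed space of `E` (helper6)
-/

set_option autoImplicit false
set_option linter.unusedSectionVars false
set_option maxRecDepth 100000

namespace Cfsg.Agent.H6.M11

open Module LinearMap

variable {G : Type*} [Group G] {v : ℕ → G} {k : Type*} [Field k] {V : Type*} [AddCommGroup V] [Module k V]
  [FiniteDimensional k V] {R : G →* End k V} {ω : k}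

variable (v R) in
/-- the part of the fixed space of `E` fixed by `z = y⁴` -/
noncomputable def Cp : Submodule k V := Wt v R 1 1 ⊓ End.eigenspace (op v R [2, 2, 2, 2]) 1

variable (v R) in
/-- the part of the fixed space of `E` inverted by `z = y⁴` -/
noncomputable def Cm : Submodule k V := Wt v R 1 1 ⊓ End.eigenspace (op v R [2, 2, 2, 2]) (-1)

variable (v R) in
/-- projection to `Cp` -/
noncomputable def pP : End k V := (2 : k)⁻¹ • (pE v R + op v R [2, 2, 2, 2] * pE v R)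

variable (v R) in
/-- projection to `Cm` -/
noncomputable def pM : End k V := (2 : k)⁻¹ • (pE v R - op v R [2, 2, 2, 2] * pE v R)

theorem Sat.z_sq (h : Sat v) : op v R [2, 2, 2, 2] * op v R [2, 2, 2, 2] = 1 := by
  rw [← op_append, ← op_nil v R]
  exact h.op_eq (by decide +kernel)

theorem Sat.z_comm (h : Sat v) (h3 : (3 : k) ≠ 0) :
    op v R [2, 2, 2, 2] * pE v R = pE v R * op v R [2, 2, 2, 2] := h.comm_word h3 _ (by decide)

theorem Sat.zz_pE (h : Sat v) : op v R [2, 2, 2, 2] * (op v R [2, 2, 2, 2] * pE v R) = pE v R := by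
  rw [← mul_assoc, h.z_sq, one_mul]

theorem three_ne (hω : IsPrimitiveRoot ω 3) : (3 : k) ≠ 0 := by
  have := (hω.neZero').out
  simpa using this

theorem Sat.isProj_pP (h : Sat v) (hω : IsPrimitiveRoot ω 3) (h2 : (2 : k) ≠ 0) : IsProj (Cp v R) (pP v R) :=
  isProj_plus h2 (h.isProj_pE hω) (h.z_comm (three_ne hω)) h.zz_pE

theorem Sat.isProj_pM (h : Sat v) (hω : IsPrimitiveRoot ω 3) (h2 : (2 : k) ≠ 0) : IsProj (Cm v R) (pM v R) :=
  isProj_minus h2 (h.isProj_pE hω) (h.z_comm (three_ne hω)) h.zz_pE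

theorem trace_pP (w : List ℕ) :
    LinearMap.trace k V (op v R w * pP v R) = (2 : k)⁻¹ * (tE v R w + tE v R (w ++ [2, 2, 2, 2])) := by
  rw [pP, mul_smul_comm, map_smul, smul_eq_mul, mul_add, map_add, ← mul_assoc, ← op_append]
  rfl

theorem trace_pM (w : List ℕ) :
    LinearMap.trace k V (op v R w * pM v R) = (2 : k)⁻¹ * (tE v R w - tE v R (w ++ [2, 2, 2, 2])) := by
  rw [pM, mul_smul_comm, map_smul, smul_eq_mul, mul_sub, map_sub, ← mul_assoc, ← op_append]
  rfl

theorem Sat.comm_z (h : Sat v) (w : List ℕ) (hw : ∀ i ∈ w, i = 2 ∨ i = 3) :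
    op v R w * op v R [2, 2, 2, 2] = op v R [2, 2, 2, 2] * op v R w := by
  induction w with
  | nil => rw [op_nil, one_mul, mul_one]
  | cons i w ih =>
    rw [op_cons, mul_assoc, ih (fun j hj => hw j (List.mem_cons_of_mem _ hj)), ← mul_assoc, ← mul_assoc]
    congr 1
    rcases hw i List.mem_cons_self with rfl | rfl
    · rw [← op_append, ← op_append]
      rfl
    · rw [← op_append, ← op_append]
      exact h.op_eq (by decide +kernel)

theorem Sat.comm_pP (h : Sat v) (h3 : (3 : k) ≠ 0) (w : List ℕ) (hw : ∀ i ∈ w, i = 2 ∨ i = 3) :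
    op v R w * pP v R = pP v R * op v R w := by
  unfold pP
  rw [mul_smul_comm, smul_mul_assoc, mul_add, add_mul, ← mul_assoc, h.comm_z w hw, mul_assoc, h.comm_word h3 w hw,
    mul_assoc]

theorem Sat.comm_pM (h : Sat v) (h3 : (3 : k) ≠ 0) (w : List ℕ) (hw : ∀ i ∈ w, i = 2 ∨ i = 3) :
    op v R w * pM v R = pM v R * op v R w := by
  unfold pM
  rw [mul_smul_comm, smul_mul_assoc, mul_sub, sub_mul, ← mul_assoc, h.comm_z w hw, mul_assoc, h.comm_word h3 w hw,
    mul_assoc]

theorem Sat.ss (h : Sat v) (Q : End k V) : op v R [3] * (op v R [3] * Q) = Q := by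
  rw [← mul_assoc, ← op_append]
  have : op v R ([3] ++ [3]) = 1 := by
    rw [← op_nil v R]
    exact h.op_eq (by decide +kernel)
  rw [this, one_mul]

theorem half_cancel (h2 : (2 : k) ≠ 0) {a b : k} (h : 2 * a = 2 * b) : a = b := mul_left_cancel₀ h2 h

/-- the basic data -/
theorem Sat.basic (h : Sat v) (hω : IsPrimitiveRoot ω 3) (h2 : (2 : k) ≠ 0) (hE : op v R [0] ≠ 1)
    (hn : finrank k V ≤ 12) :
    ∃ (f a α β : ℕ) (ε : k), (ε = 1 ∨ ε = -1) ∧ (∀ u ∈ Wt v R ω 1, op v R [3] u = ε • u) ∧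
      finrank k V = f + 2 * a + 8 ∧ finrank k (Cp v R) = f ∧ finrank k (Cm v R) = 2 * a ∧
      finrank k (Cp v R ⊓ End.eigenspace (op v R [3]) 1 : Submodule k V) = α ∧
      finrank k (Cp v R ⊓ End.eigenspace (op v R [3]) (-1) : Submodule k V) = β ∧ α + β = f ∧
      tw v R [3] = f - 2 * a ∧ tw v R [3] - tw v R [3, 0] = 3 * ε ∧ (β : k) = a + ε ∧
      tw v R [0] = f + 2 * a - 1 := by
  have h3 : (3 : k) ≠ 0 := three_ne hω
  obtain ⟨ε, hε, hεs, hε3⟩ := h.eps (R := R) hω hE hn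
  have hf := h.wt_zero (R := R) hω hE hn
  obtain ⟨d1, d2⟩ := two_dims h2 (h.isProj_pE (R := R) hω) (h.z_comm h3) h.zz_pE
  have hs3 : ∀ i ∈ [3], i = 2 ∨ i = 3 := by decide
  obtain ⟨e1, e2⟩ := two_dims h2 (h.isProj_pM (R := R) hω h2) (h.comm_pM h3 [3] hs3) (h.ss _)
  obtain ⟨g1, g2⟩ := two_dims h2 (h.isProj_pP (R := R) hω h2) (h.comm_pP h3 [3] hs3) (h.ss _)
  have hz := h.tE_z (R := R) h3
  have hs := h.tE_s (R := R) h3
  have hsz := h.tE_sz (R := R) h3
  rw [trace_pM] at e2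
  rw [trace_pP] at g2
  have hss : tE v R [3] = tE v R [3, 2, 2, 2, 2] := by
    apply mul_left_cancel₀ h3
    rw [hs, hsz]
  rw [show ([3] : List ℕ) ++ [2, 2, 2, 2] = [3, 2, 2, 2, 2] from rfl, ← hss] at e2 g2
  rw [sub_self, mul_zero] at e2
  -- the minus part
  have hCm : finrank k (Wt v R 1 1 ⊓ End.eigenspace (op v R [2, 2, 2, 2]) (-1) : Submodule k V) = finrank k (Cm v R) := rfl
  have hCp : finrank k (Wt v R 1 1 ⊓ End.eigenspace (op v R [2, 2, 2, 2]) 1 : Submodule k V) = finrank k (Cp v R) := rfl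
  rw [hCm, hCp] at d1 d2
  have hd2 : tw v R [3] = (finrank k (Cp v R) : k) - (finrank k (Cm v R) : k) := by rw [← hz, ← d2]; rfl
  have h4 : finrank k (Cm v R ⊓ End.eigenspace (op v R [3]) 1 : Submodule k V) =
      finrank k (Cm v R ⊓ End.eigenspace (op v R [3]) (-1) : Submodule k V) := by
    apply cast_eq h2 h3
    · linear_combination -e2
    · omega
    · omega
  have hone := h.tE_one (R := R) h3
  rw [h.tE_nil hω, tw_nil, hf] at hone
  refine ⟨finrank k (Cp v R), finrank k (Cm v R ⊓ End.eigenspace (op v R [3]) 1 : Submodule k V), _, _, ε, hε, hεs,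
    by omega, rfl, by omega, rfl, rfl, g1.symm, ?_, hε3, ?_, ?_⟩
  · rw [hd2, e1, ← h4]
    push_cast
    ring
  · apply half_cancel h2
    apply mul_left_cancel₀ h3
    have h5 : (finrank k (Cp v R) : k) = (finrank k (Cp v R ⊓ End.eigenspace (op v R [3]) 1 : Submodule k V) : k) +
        (finrank k (Cp v R ⊓ End.eigenspace (op v R [3]) (-1) : Submodule k V) : k) := by
      have := congrArg (Nat.cast : ℕ → k) g1
      rwa [Nat.cast_add] at this
    have h6 : (finrank k (Cm v R) : k) = 2 * (finrank k (Cm v R ⊓ End.eigenspace (op v R [3]) 1 : Submodule k V) : k) := by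
      rw [e1, ← h4]; push_cast; ring
    have h7 : (2 : k)⁻¹ * (tE v R [3] + tE v R [3]) = tE v R [3] := by
      rw [← two_mul, ← mul_assoc, inv_mul_cancel₀ h2, one_mul]
    rw [h7] at g2
    linear_combination -hs + 3 * g2 + 2 * hε3 - 3 * hd2 - 3 * h5 + 3 * h6
  · have h8 : (8 : k) ≠ 0 := by
      rw [show (8 : k) = 2 * 2 * 2 by norm_num]
      exact mul_ne_zero (mul_ne_zero h2 h2) h2
    apply mul_left_cancel₀ h8
    have h9 : (finrank k (Wt v R 1 1) : k) = (finrank k (Cp v R) : k) + (finrank k (Cm v R) : k) := by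
      have := congrArg (Nat.cast : ℕ → k) d1
      rwa [Nat.cast_add] at this
    have h6 : (finrank k (Cm v R) : k) = 2 * (finrank k (Cm v R ⊓ End.eigenspace (op v R [3]) 1 : Submodule k V) : k) := by
      rw [e1, ← h4]; push_cast; ring
    push_cast at hone
    linear_combination -hone + 8 * h9 + 8 * h6

theorem eps_ne {ε : k} (hε : ε = 1 ∨ ε = -1) : ε ≠ 0 := by
  rcases hε with rfl | rfl
  · exact one_ne_zero
  · exact neg_ne_zero.2 one_ne_zero

/-- the dimension is at least 9 -/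
theorem Sat.nine_le (h : Sat v) (hω : IsPrimitiveRoot ω 3) (h2 : (2 : k) ≠ 0) (hE : op v R [0] ≠ 1)
    (hn : finrank k V ≤ 12) : 9 ≤ finrank k V := by
  obtain ⟨f, a, α, β, ε, hε, -, hV, -, -, -, -, hαβ, -, -, hβ, -⟩ := h.basic (R := R) hω h2 hE hn
  by_contra hc
  have h1 : a = 0 ∧ β = 0 := by omega
  obtain ⟨rfl, rfl⟩ := h1
  apply eps_ne hε
  simpa using hβ.symm

/-- if the trace of `y` is not real then the part of the fixed space of `E` inverted by `z` has dimension 2 -/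
theorem Sat.cases (h : Sat v) (hω : IsPrimitiveRoot ω 3) (h2 : (2 : k) ≠ 0) (hE : op v R [0] ≠ 1)
    (hn : finrank k V ≤ 12) (hy : tw v R [2, 2, 2, 2, 2, 2, 2] ≠ tw v R [2]) :
    ∃ (f α β : ℕ) (ε : k), (ε = 1 ∨ ε = -1) ∧ (∀ u ∈ Wt v R ω 1, op v R [3] u = ε • u) ∧
      finrank k V = f + 10 ∧ finrank k (Cp v R) = f ∧ finrank k (Cm v R) = 2 ∧
      finrank k (Cp v R ⊓ End.eigenspace (op v R [3]) 1 : Submodule k V) = α ∧
      finrank k (Cp v R ⊓ End.eigenspace (op v R [3]) (-1) : Submodule k V) = β ∧ α + β = f ∧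
      tw v R [3] = f - 2 ∧ tw v R [3] - tw v R [3, 0] = 3 * ε ∧ (β : k) = 1 + ε ∧
      tw v R [0] = f + 1 := by
  have h3 : (3 : k) ≠ 0 := three_ne hω
  obtain ⟨f, a, α, β, ε, hε, hεs, hV, hCp, hCm, hα, hβ', hαβ, hT2, hT6, hβ, hT3⟩ := h.basic (R := R) hω h2 hE hn
  have ha0 : a ≠ 0 := by
    rintro rfl
    apply hy
    have h4 : Cm v R = ⊥ := Submodule.finrank_eq_zero.1 (by rw [hCm])
    have h5 : pM v R = 0 := by
      ext u
      have h6 := (h.isProj_pM (R := R) hω h2).map_mem u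
      rw [h4, Submodule.mem_bot] at h6
      exact h6
    have h6 := trace_pM (v := v) (R := R) [2]
    rw [h5, mul_zero, map_zero, show ([2] : List ℕ) ++ [2, 2, 2, 2] = [2, 2, 2, 2, 2] from rfl, h.tE_y h3,
      h.tE_y5 h3] at h6
    have h7 := (mul_eq_zero.1 h6.symm).resolve_left (inv_ne_zero h2)
    linear_combination -h7
  have ha2 : a ≠ 2 := by
    rintro rfl
    have h4 : β = 0 := by omega
    subst h4
    rcases hε with rfl | rfl
    · apply h3
      push_cast at hβ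
      linear_combination -hβ
    · apply one_ne_zero (α := k)
      push_cast at hβ
      linear_combination -hβ
  have ha : a = 1 := by omega
  subst ha
  refine ⟨f, α, β, ε, hε, hεs, by omega, hCp, by omega, hα, hβ', hαβ, ?_, hT6, ?_, ?_⟩
  · rw [hT2]; push_cast; ring
  · rw [hβ]; push_cast; ring
  · rw [hT3]; push_cast; ring

end Cfsg.Agent.H6.M11
end

-- part: H6/M11/Line
section
/-!
# Characteristic at least 5, dimension 11 or 12, trace of `y` not real: an invariant line (helper6)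
-/

set_option autoImplicit false
set_option linter.unusedSectionVars false
set_option linter.unusedVariables false
set_option maxRecDepth 100000

namespace Cfsg.Agent.H6.M11

open Module LinearMap

variable {G : Type*} [Group G] {v : ℕ → G} {k : Type*} [Field k] {V : Type*} [AddCommGroup V] [Module k V]
  [FiniteDimensional k V] {R : G →* End k V} {ω : k}

/-! ### the action on `Cp` -/

theorem op_apply (u w : List ℕ) (x : V) : op v R (u ++ w) x = op v R u (op v R w x) := by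
  rw [op_append, Module.End.mul_apply]

theorem Sat.op_apply_eq (h : Sat v) {a b : List ℕ} (hr : (a, b) ∈ baseL) (x : V) : op v R a x = op v R b x := by
  rw [h.op_eq hr]

/-- `y` is the negative of the sign on `Cp` and the trace of elements of order 4 is `dim Cp` -/
theorem Sat.on_Cp (h : Sat v) (hω : IsPrimitiveRoot ω 3) (h2 : (2 : k) ≠ 0) {f : ℕ} {ε : k} (hf2 : f ≤ 2)
    (hε : ε = 1 ∨ ε = -1) (hf : finrank k (Cp v R) = f) (hs : ∀ u ∈ Cp v R, op v R [3] u = -(ε • u)) :
    (∀ u ∈ Cp v R, op v R [2] u = -(ε • u)) ∧ (∀ u ∈ Cp v R, op v R [2, 2] u = u) ∧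
      (∀ u ∈ Cp v R, op v R [3, 2] u = u) ∧ tw v R [2, 2] = f ∧
      tw v R [2] + tw v R [2, 2, 2, 2, 2, 2, 2] = - (2 * ε * f) := by
  have h3 : (3 : k) ≠ 0 := three_ne hω
  have hεε : ε * ε = 1 := by rcases hε with rfl | rfl <;> norm_num
  have hP := h.isProj_pP (R := R) hω h2
  have hmem : ∀ w : List ℕ, (∀ i ∈ w, i = 2 ∨ i = 3) → ∀ u ∈ Cp v R, op v R w u ∈ Cp v R := by
    intro w hw u hu
    exact mem_of_comm hP (h.comm_pP h3 w hw) hu
  have hyy : ∀ u ∈ Cp v R, op v R [2, 2] u = u := by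
    intro u hu
    have e1 : op v R [3, 2] u = op v R [2, 2, 2, 3] u := h.op_apply_eq (by decide +kernel) u
    rw [show ([3, 2] : List ℕ) = [3] ++ [2] from rfl, show ([2, 2, 2, 3] : List ℕ) = [2, 2, 2] ++ [3] from rfl,
      op_apply, op_apply, hs _ (hmem [2] (by decide) u hu), hs u hu, map_neg, map_smul, neg_inj] at e1
    have e2 : op v R [2] u = op v R [2, 2, 2] u := by
      have e3 := congrArg (fun x => ε • x) e1
      simp only [smul_smul, hεε, one_smul] at e3
      exact e3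
    rw [show ([2, 2, 2] : List ℕ) = [2] ++ [2, 2] from rfl, op_apply] at e2
    exact (op_injective v R [2] e2).symm
  have hyyP : op v R [2, 2] * pP v R = pP v R := by
    ext u
    exact hyy _ (hP.map_mem u)
  have hT4 : tw v R [2, 2] = f := by
    have e1 := trace_pP (v := v) (R := R) [2, 2]
    rw [hyyP, trace_isProj hP, hf, show ([2, 2] : List ℕ) ++ [2, 2, 2, 2] = [2, 2, 2, 2, 2, 2] from rfl, h.tE_yy h3,
      h.tE_y6 h3, ← two_mul, ← mul_assoc, inv_mul_cancel₀ h2, one_mul] at e1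
    exact e1.symm
  have hz : ∀ u ∈ Cp v R, op v R [2, 2, 2, 2] u = u := by
    intro u hu
    have e1 := (Submodule.mem_inf.1 hu).2
    rwa [End.mem_eigenspace_iff, one_smul] at e1
  have hqq : op v R [3, 2] * (op v R [3, 2] * pP v R) = pP v R := by
    ext u
    rw [Module.End.mul_apply, Module.End.mul_apply, ← op_apply,
      show ([3, 2] : List ℕ) ++ [3, 2] = [3, 2, 3, 2] from rfl, h.op_apply_eq (b := [2, 2, 2, 2]) (by decide +kernel)]
    exact hz _ (hP.map_mem u)
  obtain ⟨d1, d2⟩ := two_dims h2 hP (h.comm_pP h3 [3, 2] (by decide)) hqq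
  rw [trace_pP, show ([3, 2] : List ℕ) ++ [2, 2, 2, 2] = [3, 2, 2, 2, 2, 2] from rfl, h.tE_q h3, h.tE_q5 h3, ← two_mul,
    ← mul_assoc, inv_mul_cancel₀ h2, one_mul, hT4] at d2
  rw [hf] at d1
  have d3 : (f : k) = (finrank k (Cp v R ⊓ End.eigenspace (op v R [3, 2]) 1 : Submodule k V) : k) +
      (finrank k (Cp v R ⊓ End.eigenspace (op v R [3, 2]) (-1) : Submodule k V) : k) := by
    have := congrArg (Nat.cast : ℕ → k) d1
    rwa [Nat.cast_add] at this
  have d4 : finrank k (Cp v R ⊓ End.eigenspace (op v R [3, 2]) (-1) : Submodule k V) = 0 := by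
    apply cast_eq h2 h3
    · apply mul_left_cancel₀ h2
      rw [Nat.cast_zero, mul_zero]
      linear_combination d2 - d3
    · omega
    · omega
  have hq : ∀ u ∈ Cp v R, op v R [3, 2] u = u := by
    intro u hu
    have e1 : Cp v R ≤ End.eigenspace (op v R [3, 2]) 1 := le_of_finrank (by omega)
    have e2 := e1 hu
    rwa [End.mem_eigenspace_iff, one_smul] at e2
  have hy : ∀ u ∈ Cp v R, op v R [2] u = -(ε • u) := by
    intro u hu
    have e1 := hq u hu
    rw [show ([3, 2] : List ℕ) = [3] ++ [2] from rfl, op_apply, hs _ (hmem [2] (by decide) u hu)] at e1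
    have e2 := congrArg (fun x => -(ε • x)) e1
    simp only [smul_neg, neg_neg, smul_smul, hεε, one_smul] at e2
    exact e2
  refine ⟨hy, hyy, hq, hT4, ?_⟩
  have e1 := trace_pP (v := v) (R := R) [2]
  have e2 : op v R [2] * pP v R = -(ε • pP v R) := by
    ext u
    exact hy _ (hP.map_mem u)
  rw [e2, map_neg, map_smul, trace_isProj hP, hf, show ([2] : List ℕ) ++ [2, 2, 2, 2] = [2, 2, 2, 2, 2] from rfl,
    h.tE_y h3, h.tE_y5 h3, smul_eq_mul] at e1
  have e3 := congrArg (fun x => 2 * x) e1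
  simp only [← mul_assoc, mul_inv_cancel₀ h2, one_mul] at e3
  linear_combination -e3

/-! ### the quaternion group `⟨y², s y⟩` -/

variable (v R) in
/-- average over `⟨y²⟩` -/
noncomputable def p4 : End k V := av 4 (op v R [2, 2])

variable (v R) in
/-- average over the quaternion group -/
noncomputable def pQ : End k V := (2 : k)⁻¹ • (p4 v R + op v R [3, 2] * p4 v R)

variable (v R) in
/-- fixed space of the quaternion group -/
noncomputable def UQ : Submodule k V := fix (op v R [2, 2]) ⊓ End.eigenspace (op v R [3, 2]) 1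

theorem Sat.pow_four (h : Sat v) : (op v R [2, 2]) ^ 4 = 1 := by
  have h1 : op v R [2, 2, 2, 2, 2, 2, 2, 2] = 1 := by
    rw [← op_nil v R]
    exact h.op_eq (by decide +kernel)
  rw [← h1, pow_succ, pow_succ, pow_succ, pow_one, ← op_append, ← op_append, ← op_append]
  rfl

theorem four_ne (h2 : (2 : k) ≠ 0) : ((4 : ℕ) : k) ≠ 0 := by
  rw [show ((4 : ℕ) : k) = 2 * 2 by norm_num]
  exact mul_ne_zero h2 h2

theorem Sat.yy_p4 (h : Sat v) : op v R [2, 2] * p4 v R = p4 v R := mul_av h.pow_four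

theorem Sat.p4_yy (h : Sat v) : p4 v R * op v R [2, 2] = p4 v R := av_mul_self_right h.pow_four

theorem Sat.y6_p4 (h : Sat v) : op v R [2, 2, 2, 2, 2, 2] * p4 v R = p4 v R := by
  rw [show ([2, 2, 2, 2, 2, 2] : List ℕ) = [2, 2] ++ ([2, 2] ++ [2, 2]) from rfl, op_append, op_append, mul_assoc,
    mul_assoc, h.yy_p4, h.yy_p4, h.yy_p4]

theorem Sat.p4_y6 (h : Sat v) : p4 v R * op v R [2, 2, 2, 2, 2, 2] = p4 v R := by
  rw [show ([2, 2, 2, 2, 2, 2] : List ℕ) = [2, 2] ++ ([2, 2] ++ [2, 2]) from rfl, op_append, op_append, ← mul_assoc,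
    ← mul_assoc, h.p4_yy, h.p4_yy, h.p4_yy]

/-- an element inverting `y²` commutes with the average -/
theorem Sat.comm_p4 (h : Sat v) (h2 : (2 : k) ≠ 0) (g : List ℕ)
    (r1 : op v R ([2, 2] ++ g) = op v R (g ++ [2, 2, 2, 2, 2, 2]))
    (r2 : op v R (g ++ [2, 2]) = op v R ([2, 2, 2, 2, 2, 2] ++ g)) : op v R g * p4 v R = p4 v R * op v R g := by
  rw [op_append, op_append] at r1 r2
  have a1 : p4 v R * (op v R g * p4 v R) = op v R g * p4 v R := by
    apply av_mul_of (four_ne h2)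
    rw [← mul_assoc, r1, mul_assoc, h.y6_p4]
  have a2 : (p4 v R * op v R g) * p4 v R = p4 v R * op v R g := by
    apply mul_av_of (four_ne h2)
    rw [mul_assoc, r2, ← mul_assoc, h.p4_y6]
  rw [← a1, ← mul_assoc, a2]

theorem Sat.q_p4 (h : Sat v) (h2 : (2 : k) ≠ 0) : op v R [3, 2] * p4 v R = p4 v R * op v R [3, 2] :=
  h.comm_p4 h2 _ (h.op_eq (by decide +kernel)) (h.op_eq (by decide +kernel))

theorem Sat.s_p4 (h : Sat v) (h2 : (2 : k) ≠ 0) : op v R [3] * p4 v R = p4 v R * op v R [3] :=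
  h.comm_p4 h2 _ (h.op_eq (by decide +kernel)) (h.op_eq (by decide +kernel))

theorem Sat.isProj_p4 (h : Sat v) (h2 : (2 : k) ≠ 0) : IsProj (fix (op v R [2, 2])) (p4 v R) :=
  isProj_av (four_ne h2) h.pow_four

theorem Sat.qq_p4 (h : Sat v) : op v R [3, 2] * (op v R [3, 2] * p4 v R) = p4 v R := by
  rw [← mul_assoc, ← op_append, show ([3, 2] : List ℕ) ++ [3, 2] = [3, 2, 3, 2] from rfl,
    h.op_eq (b := [2, 2, 2, 2]) (by decide +kernel), show ([2, 2, 2, 2] : List ℕ) = [2, 2] ++ [2, 2] from rfl, op_append,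
    mul_assoc, h.yy_p4, h.yy_p4]

theorem Sat.isProj_pQ (h : Sat v) (h2 : (2 : k) ≠ 0) : IsProj (UQ v R) (pQ v R) :=
  isProj_plus h2 (h.isProj_p4 h2) (h.q_p4 h2) h.qq_p4

theorem mem_UQ {u : V} : u ∈ UQ v R ↔ op v R [2, 2] u = u ∧ op v R [3, 2] u = u := by
  rw [UQ, Submodule.mem_inf, mem_fix, End.mem_eigenspace_iff, one_smul]

theorem Sat.yy_pQ (h : Sat v) (h2 : (2 : k) ≠ 0) : op v R [2, 2] * pQ v R = pQ v R := by
  ext u
  exact (mem_UQ.1 ((h.isProj_pQ h2).map_mem u)).1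

theorem Sat.q_pQ (h : Sat v) (h2 : (2 : k) ≠ 0) : op v R [3, 2] * pQ v R = pQ v R := by
  ext u
  exact (mem_UQ.1 ((h.isProj_pQ h2).map_mem u)).2

theorem Sat.pQ_yy (h : Sat v) : pQ v R * op v R [2, 2] = pQ v R := by
  rw [pQ, smul_mul_assoc, add_mul, mul_assoc, h.p4_yy]

theorem Sat.pQ_q (h : Sat v) (h2 : (2 : k) ≠ 0) : pQ v R * op v R [3, 2] = pQ v R := by
  rw [pQ, smul_mul_assoc, add_mul, mul_assoc, ← h.q_p4 h2, h.qq_p4, add_comm]

/-- absorption for the quaternion group -/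
theorem pQ_mul (h2 : (2 : k) ≠ 0) {Q : End k V} (a : op v R [2, 2] * Q = Q) (b : op v R [3, 2] * Q = Q) :
    pQ v R * Q = Q := by
  have e1 : p4 v R * Q = Q := av_mul_of (four_ne h2) a
  rw [pQ, smul_mul_assoc, add_mul, mul_assoc, e1, b]
  ext u
  rw [LinearMap.smul_apply, LinearMap.add_apply, half_add h2]

theorem mul_pQ (h2 : (2 : k) ≠ 0) {Q : End k V} (a : Q * op v R [2, 2] = Q) (b : Q * op v R [3, 2] = Q) :
    Q * pQ v R = Q := by
  have e1 : Q * p4 v R = Q := mul_av_of (four_ne h2) a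
  rw [pQ, mul_smul_comm, mul_add, ← mul_assoc, b, e1]
  ext u
  rw [LinearMap.smul_apply, LinearMap.add_apply, half_add h2]

theorem Sat.y6_pQ (h : Sat v) (h2 : (2 : k) ≠ 0) : op v R [2, 2, 2, 2, 2, 2] * pQ v R = pQ v R := by
  rw [show ([2, 2, 2, 2, 2, 2] : List ℕ) = [2, 2] ++ ([2, 2] ++ [2, 2]) from rfl, op_append, op_append, mul_assoc,
    mul_assoc, h.yy_pQ h2, h.yy_pQ h2, h.yy_pQ h2]

theorem Sat.pQ_y6 (h : Sat v) : pQ v R * op v R [2, 2, 2, 2, 2, 2] = pQ v R := by
  rw [show ([2, 2, 2, 2, 2, 2] : List ℕ) = [2, 2] ++ ([2, 2] ++ [2, 2]) from rfl, op_append, op_append, ← mul_assoc,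
    ← mul_assoc, h.pQ_yy, h.pQ_yy, h.pQ_yy]

theorem Sat.K_pQ (h : Sat v) (h2 : (2 : k) ≠ 0) : op v R [3, 2, 2, 2, 2, 2, 2, 2] * pQ v R = pQ v R := by
  rw [show ([3, 2, 2, 2, 2, 2, 2, 2] : List ℕ) = [3, 2] ++ [2, 2, 2, 2, 2, 2] from rfl, op_append, mul_assoc,
    h.y6_pQ h2, h.q_pQ h2]

theorem Sat.pQ_K (h : Sat v) (h2 : (2 : k) ≠ 0) : pQ v R * op v R [3, 2, 2, 2, 2, 2, 2, 2] = pQ v R := by
  rw [show ([3, 2, 2, 2, 2, 2, 2, 2] : List ℕ) = [3, 2] ++ [2, 2, 2, 2, 2, 2] from rfl, op_append, ← mul_assoc,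
    h.pQ_q h2, h.pQ_y6]

theorem Sat.e3_pQ (h : Sat v) (h2 : (2 : k) ≠ 0) : op v R [4] * pQ v R = pQ v R * op v R [4] := by
  have r1 : op v R [2, 2] * op v R [4] = op v R [4] * op v R [3, 2, 2, 2, 2, 2, 2, 2] := by
    rw [← op_append, ← op_append]
    exact h.op_eq (by decide +kernel)
  have r2 : op v R [3, 2] * op v R [4] = op v R [4] * op v R [2, 2] := by
    rw [← op_append, ← op_append]
    exact h.op_eq (by decide +kernel)
  have r3 : op v R [4] * op v R [3, 2] = op v R [3, 2, 2, 2, 2, 2, 2, 2] * op v R [4] := by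
    rw [← op_append, ← op_append]
    exact h.op_eq (by decide +kernel)
  have a1 : pQ v R * (op v R [4] * pQ v R) = op v R [4] * pQ v R := by
    apply pQ_mul h2
    · rw [← mul_assoc, r1, mul_assoc, h.K_pQ h2]
    · rw [← mul_assoc, r2, mul_assoc, h.yy_pQ h2]
  have a2 : (pQ v R * op v R [4]) * pQ v R = pQ v R * op v R [4] := by
    apply mul_pQ h2
    · rw [mul_assoc, ← r2, ← mul_assoc, h.pQ_q h2]
    · rw [mul_assoc, r3, ← mul_assoc, h.pQ_K h2]
  rw [← a1, ← mul_assoc, a2]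

theorem Sat.s_pQ (h : Sat v) (h2 : (2 : k) ≠ 0) : op v R [3] * pQ v R = pQ v R * op v R [3] := by
  have r1 : op v R [2, 2] * op v R [3] = op v R [3] * op v R [2, 2, 2, 2, 2, 2] := by
    rw [← op_append, ← op_append]
    exact h.op_eq (by decide +kernel)
  have r2 : op v R [3, 2] * op v R [3] = op v R [3] * (op v R [3, 2] * op v R [2, 2]) := by
    rw [← op_append, ← op_append, ← op_append]
    exact h.op_eq (by decide +kernel)
  have r3 : op v R [3] * op v R [2, 2] = op v R [2, 2, 2, 2, 2, 2] * op v R [3] := by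
    rw [← op_append, ← op_append]
    exact h.op_eq (by decide +kernel)
  have r4 : op v R [3] * op v R [3, 2] = op v R [3, 2] * (op v R [2, 2] * op v R [3]) := by
    rw [← op_append, ← op_append, ← op_append]
    exact h.op_eq (by decide +kernel)
  have a1 : pQ v R * (op v R [3] * pQ v R) = op v R [3] * pQ v R := by
    apply pQ_mul h2
    · rw [← mul_assoc, r1, mul_assoc, h.y6_pQ h2]
    · rw [← mul_assoc, r2, mul_assoc, mul_assoc, h.yy_pQ h2, h.q_pQ h2]
  have a2 : (pQ v R * op v R [3]) * pQ v R = pQ v R * op v R [3] := by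
    apply mul_pQ h2
    · rw [mul_assoc, r3, ← mul_assoc, h.pQ_y6]
    · rw [mul_assoc, r4, ← mul_assoc, ← mul_assoc, h.pQ_q h2, h.pQ_yy]
  rw [← a1, ← mul_assoc, a2]

theorem sum_four {M : Type*} [AddCommMonoid M] (f : ℕ → M) : ∑ i ∈ Finset.range 4, f i = f 0 + f 1 + f 2 + f 3 := by
  rw [Finset.sum_range_succ, Finset.sum_range_succ, Finset.sum_range_succ, Finset.sum_range_one]

theorem trace_p4 (h2 : (2 : k) ≠ 0) (w : List ℕ) :
    4 * LinearMap.trace k V (op v R w * p4 v R) =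
      tw v R w + tw v R (w ++ [2, 2]) + tw v R (w ++ [2, 2, 2, 2]) + tw v R (w ++ [2, 2, 2, 2, 2, 2]) := by
  have h4 : (4 : k) * ((4 : ℕ) : k)⁻¹ = 1 := by
    rw [show (4 : k) = ((4 : ℕ) : k) by norm_num]
    exact mul_inv_cancel₀ (four_ne h2)
  have e2 : (op v R [2, 2]) ^ 2 = op v R [2, 2, 2, 2] := by rw [pow_two, ← op_append]; rfl
  have e3 : (op v R [2, 2]) ^ 3 = op v R [2, 2, 2, 2, 2, 2] := by rw [pow_succ, e2, ← op_append]; rfl
  rw [p4, av, sum_four, pow_zero, pow_one, e2, e3, mul_smul_comm, map_smul, smul_eq_mul, ← mul_assoc, h4, one_mul,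
    mul_add, mul_add, mul_add, mul_one, map_add, map_add, map_add, ← op_append, ← op_append, ← op_append]
  rfl

theorem eight_ne (h2 : (2 : k) ≠ 0) : (8 : k) ≠ 0 := by
  rw [show (8 : k) = 2 * 2 * 2 by norm_num]
  exact mul_ne_zero (mul_ne_zero h2 h2) h2

theorem trace_pQ (h2 : (2 : k) ≠ 0) (w : List ℕ) :
    8 * LinearMap.trace k V (op v R w * pQ v R) =
      (tw v R w + tw v R (w ++ [2, 2]) + tw v R (w ++ [2, 2, 2, 2]) + tw v R (w ++ [2, 2, 2, 2, 2, 2])) +
      (tw v R (w ++ [3, 2]) + tw v R (w ++ [3, 2, 2, 2]) + tw v R (w ++ [3, 2, 2, 2, 2, 2]) +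
        tw v R (w ++ [3, 2, 2, 2, 2, 2, 2, 2])) := by
  have e1 := trace_p4 (v := v) (R := R) h2 w
  have e2 := trace_p4 (v := v) (R := R) h2 (w ++ [3, 2])
  simp only [List.append_assoc, List.cons_append, List.nil_append] at e2
  rw [← e1, ← e2, pQ, mul_smul_comm, map_smul, smul_eq_mul, mul_add, map_add, ← mul_assoc (op v R w), ← op_append]
  have h5 : (8 : k) * (2 : k)⁻¹ = 4 := by
    rw [show (8 : k) = 4 * 2 by norm_num, mul_assoc, mul_inv_cancel₀ h2, mul_one]
  rw [← mul_assoc, h5, mul_add]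

variable (v R) in
/-- average over `SL(2,3)` -/
noncomputable def pS : End k V := av 3 (op v R [4]) * pQ v R

theorem Sat.e3_cube (h : Sat v) : (op v R [4]) ^ 3 = 1 := h.pow_three 4 (Or.inr (Or.inr rfl))

theorem Sat.isProj_pS (h : Sat v) (h2 : (2 : k) ≠ 0) (h3 : (3 : k) ≠ 0) :
    IsProj (fix (op v R [4]) ⊓ UQ v R) (pS v R) := by
  have h3' : ((3 : ℕ) : k) ≠ 0 := by exact_mod_cast h3
  refine IsProj.mul (isProj_av h3' h.e3_cube) (h.isProj_pQ h2) ?_
  have h1 : Commute (pQ v R) (op v R [4]) := (h.e3_pQ h2).symm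
  exact (comm_av h1).symm

theorem trace_pS (h3 : (3 : k) ≠ 0) (w : List ℕ) :
    3 * LinearMap.trace k V (op v R w * pS v R) =
      LinearMap.trace k V (op v R w * pQ v R) + LinearMap.trace k V (op v R (w ++ [4]) * pQ v R) +
        LinearMap.trace k V (op v R (w ++ [4, 4]) * pQ v R) := by
  have h4 : (3 : k) * ((3 : ℕ) : k)⁻¹ = 1 := by
    rw [show (3 : k) = ((3 : ℕ) : k) by norm_num]
    exact mul_inv_cancel₀ (by exact_mod_cast h3)
  have e2 : (op v R [4]) ^ 2 = op v R [4, 4] := by rw [pow_two, ← op_append]; rfl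
  rw [pS, av, sum_three, pow_zero, pow_one, e2, smul_mul_assoc, mul_smul_comm, map_smul, smul_eq_mul, ← mul_assoc, h4,
    one_mul, add_mul, add_mul, one_mul, mul_add, mul_add, map_add, map_add, ← mul_assoc, ← mul_assoc, ← op_append,
    ← op_append]

theorem Sat.s_pS (h : Sat v) (h2 : (2 : k) ≠ 0) (h3 : (3 : k) ≠ 0) : op v R [3] * pS v R = pS v R * op v R [3] := by
  have h3' : ((3 : ℕ) : k) ≠ 0 := by exact_mod_cast h3
  have r1 : op v R [3] * op v R [4] = op v R [4] * (op v R [4] * op v R [3]) := by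
    rw [← op_append, ← op_append, ← op_append]
    exact h.op_eq (by decide +kernel)
  have r2 : op v R [4] * op v R [3] = op v R [3] * (op v R [4] * op v R [4]) := by
    rw [← op_append, ← op_append, ← op_append]
    exact h.op_eq (by decide +kernel)
  have b1 := mul_av (h.e3_cube (R := R))
  have b2 := av_mul_self_right (h.e3_cube (R := R))
  have a1 : av 3 (op v R [4]) * (op v R [3] * av 3 (op v R [4])) = op v R [3] * av 3 (op v R [4]) := by
    apply av_mul_of h3'
    rw [← mul_assoc, r2, mul_assoc, mul_assoc, b1, b1]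
  have a2 : (av 3 (op v R [4]) * op v R [3]) * av 3 (op v R [4]) = av 3 (op v R [4]) * op v R [3] := by
    apply mul_av_of h3'
    rw [mul_assoc, r1, ← mul_assoc, ← mul_assoc, b2, b2]
  have a3 : op v R [3] * av 3 (op v R [4]) = av 3 (op v R [4]) * op v R [3] := by
    rw [← a1, ← mul_assoc, a2]
  rw [pS, ← mul_assoc, a3, mul_assoc, h.s_pQ h2, mul_assoc]

/-! ### dimension of the fixed space of the quaternion group -/

theorem Sat.finrank_yy (h : Sat v) : 2 * finrank k (fix (op v R [2, 2])) ≤ finrank k V + finrank k (Cp v R) := by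
  set S := fix (op v R [2, 2]) with hS
  let S' : Submodule k V := S.comap (op v R [0])
  have h1 : finrank k S ≤ finrank k S' := by
    refine finrank_le_of_mapsTo (op_injective v R [0, 0]) ?_
    intro u hu
    rw [Submodule.mem_comap, ← op_apply, show ([0] : List ℕ) ++ [0, 0] = [0, 0, 0] from rfl,
      h.op_apply_eq (b := []) (by decide +kernel), op_nil]
    exact hu
  have h2 : S ⊓ S' ≤ Cp v R := by
    intro u hu
    obtain ⟨hu1, hu2⟩ := Submodule.mem_inf.1 hu
    rw [hS, mem_fix] at hu1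
    rw [Submodule.mem_comap, hS, mem_fix] at hu2
    have q1 : ∀ x, op v R [2, 2] (op v R [0] x) = op v R [1] (op v R [1] (op v R [2, 2] x)) := fun x => by
      rw [← op_apply, ← op_apply, ← op_apply]
      exact h.op_apply_eq (by decide +kernel) x
    have q2 : ∀ x, op v R [2, 2] (op v R [1] x) = op v R [0] (op v R [2, 2] x) := fun x => by
      rw [← op_apply, ← op_apply]
      exact h.op_apply_eq (by decide +kernel) x
    have q3 : ∀ x, op v R [0] (op v R [0] (op v R [0] x)) = x := fun x => by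
      rw [← op_apply, ← op_apply]
      exact (h.op_apply_eq (b := []) (by decide +kernel) x).trans (by rw [op_nil]; rfl)
    have q4 : ∀ x, op v R [1] (op v R [1] (op v R [1] x)) = x := fun x => by
      rw [← op_apply, ← op_apply]
      exact (h.op_apply_eq (b := []) (by decide +kernel) x).trans (by rw [op_nil]; rfl)
    have c01 : ∀ x : V, op v R [0] (op v R [1] x) = op v R [1] (op v R [0] x) := fun x =>
      congrArg (fun F : End k V => F x) h.comm01
    have e1 : op v R [1] (op v R [1] u) = op v R [0] u := by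
      have e0 := q1 u
      rw [hu1] at e0
      rw [← e0, hu2]
    have e2 : op v R [0] (op v R [1] u) = u := by
      rw [c01, ← e1, q4]
    have e3 : op v R [1] (op v R [1] (op v R [0] u)) = u := by
      have e4 := congrArg (op v R [2, 2]) e2
      rw [hu1, q1, q2, hu1] at e4
      exact e4
    have e5 : op v R [0] (op v R [0] u) = u := by
      rw [← e1, c01, c01]
      exact e3
    have e6 : op v R [0] u = u := by
      have e7 := q3 u
      rwa [e5] at e7
    have e8 : op v R [1] u = u := by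
      rw [c01, e6] at e2
      exact e2
    refine Submodule.mem_inf.2 ⟨mem_Wt.2 ⟨by rw [e6, one_smul], by rw [e8, one_smul]⟩, ?_⟩
    rw [End.mem_eigenspace_iff, one_smul, show ([2, 2, 2, 2] : List ℕ) = [2, 2] ++ [2, 2] from rfl, op_apply, hu1, hu1]
  have h3 := Submodule.finrank_sup_add_finrank_inf_eq S S'
  have h4 : finrank k (S ⊓ S' : Submodule k V) ≤ finrank k (Cp v R) := Submodule.finrank_mono h2
  have h5 : finrank k (S ⊔ S' : Submodule k V) ≤ finrank k V := Submodule.finrank_le _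
  omega

end Cfsg.Agent.H6.M11
end

-- part: H6/M11/Fin
section
/-!
# Characteristic at least 5: the trace of `y` is real in dimensions 9, 11, 12 (helper6)
-/

set_option autoImplicit false
set_option linter.unusedSectionVars false
set_option linter.unusedVariables false
set_option maxRecDepth 100000

namespace Cfsg.Agent.H6.M11

open Module LinearMap

variable {G : Type*} [Group G] {v : ℕ → G} {k : Type*} [Field k] {V : Type*} [AddCommGroup V] [Module k V]
  [FiniteDimensional k V] {R : G →* End k V} {ω : k}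

section tabs

variable (h : Sat v) (h2 : (2 : k) ≠ 0) (h3 : (3 : k) ≠ 0)

include h h2

theorem Sat.trQ0 : 8 * LinearMap.trace k V (op v R [] * pQ v R) = tw v R [] + tw v R [3] + 6 * tw v R [2, 2] := by
  rw [trace_pQ h2 []]
  simp only [List.nil_append, h.t_2222, h.t_222222, h.t_32, h.t_3222, h.t_322222, h.t_32222222]
  ring

theorem Sat.trQ1 : 8 * LinearMap.trace k V (op v R [4] * pQ v R) = 4 * tw v R [0] + 4 * tw v R [3, 0] := by
  rw [trace_pQ h2 [4]]
  simp only [List.cons_append, List.nil_append, h.t_4, h.t_422, h.t_42222, h.t_4222222, h.t_432, h.t_43222,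
    h.t_4322222, h.t_432222222]
  ring

theorem Sat.trQ2 : 8 * LinearMap.trace k V (op v R [4, 4] * pQ v R) = 4 * tw v R [0] + 4 * tw v R [3, 0] := by
  rw [trace_pQ h2 [4, 4]]
  simp only [List.cons_append, List.nil_append, h.t_44, h.t_4422, h.t_442222, h.t_44222222, h.t_4432, h.t_443222,
    h.t_44322222, h.t_4432222222]
  ring

theorem Sat.trQs0 : 8 * LinearMap.trace k V (op v R [3] * pQ v R) =
    4 * tw v R [3] + 2 * (tw v R [2] + tw v R [2, 2, 2, 2, 2, 2, 2]) := by
  rw [trace_pQ h2 [3]]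
  simp only [List.cons_append, List.nil_append, h.t_322, h.t_32222, h.t_3222222, h.t_332, h.t_33222, h.t_3322222,
    h.t_332222222]
  ring

theorem Sat.trQs1 : 8 * LinearMap.trace k V (op v R [3, 4] * pQ v R) =
    4 * tw v R [3] + 2 * (tw v R [2] + tw v R [2, 2, 2, 2, 2, 2, 2]) := by
  rw [trace_pQ h2 [3, 4]]
  simp only [List.cons_append, List.nil_append, h.t_34, h.t_3422, h.t_342222, h.t_34222222, h.t_3432, h.t_343222,
    h.t_34322222, h.t_3432222222]
  ring

theorem Sat.trQs2 : 8 * LinearMap.trace k V (op v R [3, 4, 4] * pQ v R) =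
    4 * tw v R [3] + 2 * (tw v R [2] + tw v R [2, 2, 2, 2, 2, 2, 2]) := by
  rw [trace_pQ h2 [3, 4, 4]]
  simp only [List.cons_append, List.nil_append, h.t_344, h.t_34422, h.t_3442222, h.t_344222222, h.t_34432, h.t_3443222,
    h.t_344322222, h.t_34432222222]
  ring

end tabs

theorem Sat.trS (h : Sat v) (h2 : (2 : k) ≠ 0) (h3 : (3 : k) ≠ 0) :
    24 * LinearMap.trace k V (pS v R) =
      tw v R [] + tw v R [3] + 6 * tw v R [2, 2] + 8 * tw v R [0] + 8 * tw v R [3, 0] := by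
  have e := trace_pS (v := v) (R := R) h3 []
  rw [List.nil_append, List.nil_append, op_nil, one_mul, ← op_nil v R] at e
  linear_combination 8 * e + h.trQ0 (R := R) h2 + h.trQ1 (R := R) h2 + h.trQ2 (R := R) h2

theorem Sat.trSs (h : Sat v) (h2 : (2 : k) ≠ 0) (h3 : (3 : k) ≠ 0) :
    24 * LinearMap.trace k V (op v R [3] * pS v R) =
      12 * tw v R [3] + 6 * (tw v R [2] + tw v R [2, 2, 2, 2, 2, 2, 2]) := by
  have e := trace_pS (v := v) (R := R) h3 [3]
  rw [List.cons_append, List.nil_append, List.cons_append, List.nil_append] at e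
  linear_combination 8 * e + h.trQs0 (R := R) h2 + h.trQs1 (R := R) h2 + h.trQs2 (R := R) h2

/-- **An invariant line**, if the trace of `y` is not real, in characteristic at least 5 and dimension at most 12,
not 10. -/
theorem Sat.line (h : Sat v) (hω : IsPrimitiveRoot ω 3) (h2 : (2 : k) ≠ 0) (hE : op v R [0] ≠ 1)
    (hn : finrank k V ≤ 12) (h10 : finrank k V ≠ 10) (hy : tw v R [2, 2, 2, 2, 2, 2, 2] ≠ tw v R [2]) :
    tw v R [2, 2] ≠ 0 ∧ ∃ u : V, u ≠ 0 ∧ ∃ c : k, op v R [0] u = u ∧ op v R [1] u = u ∧ op v R [4] u = u ∧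
      op v R [2] u = c • u ∧ op v R [3] u = c • u := by
  have h3 : (3 : k) ≠ 0 := three_ne hω
  have h24 : (24 : k) ≠ 0 := by
    rw [show (24 : k) = 2 * 2 * 2 * 3 by norm_num]
    exact mul_ne_zero (mul_ne_zero (mul_ne_zero h2 h2) h2) h3
  obtain ⟨f, α, β, ε, hε, hεs, hV, hCp, hCm, hα, hβ', hαβ, hT2, hT6, hβ, hT3⟩ := h.cases (R := R) hω h2 hE hn hy
  have hf : f = 1 ∨ f = 2 := by omega
  -- `s` on `Cp`
  have hs : (∀ u ∈ Cp v R, op v R [3] u = -(ε • u)) ∧ ((ε = 1 ∧ f = 2) ∨ ε = -1) := by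
    rcases hε with rfl | rfl
    · have hb : β = 2 := by
        apply cast_eq h2 h3
        · rw [hβ]; push_cast; ring
        · omega
        · omega
      refine ⟨fun u hu => ?_, Or.inl ⟨rfl, by omega⟩⟩
      have e1 : Cp v R ≤ End.eigenspace (op v R [3]) (-1) := le_of_finrank (by omega)
      have e2 := e1 hu
      rw [End.mem_eigenspace_iff, neg_smul] at e2
      exact e2
    · have hb : β = 0 := by
        apply cast_eq h2 h3
        · rw [hβ]; push_cast; ring
        · omega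
        · omega
      refine ⟨fun u hu => ?_, Or.inr rfl⟩
      have e1 : Cp v R ≤ End.eigenspace (op v R [3]) 1 := le_of_finrank (by omega)
      have e2 := e1 hu
      rw [End.mem_eigenspace_iff, one_smul] at e2
      rw [e2, neg_smul, neg_neg, one_smul]
  obtain ⟨hs, hcase⟩ := hs
  obtain ⟨hy2, hyy, hq, hT4, hTy⟩ := h.on_Cp (R := R) hω h2 (f := f) (by omega) hε hCp hs
  have hT4ne : tw v R [2, 2] ≠ 0 := by
    rw [hT4]
    rcases hf with rfl | rfl
    · simp
    · exact_mod_cast h2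
  refine ⟨hT4ne, ?_⟩
  have hn' : tw v R [] = (f : k) + 10 := by rw [tw_nil, hV]; push_cast; ring
  -- the fixed space of the quaternion group
  have hUT : LinearMap.trace k V (pQ v R) = (finrank k (UQ v R) : k) := trace_isProj (h.isProj_pQ h2)
  have hU : finrank k (UQ v R) = f + 1 := by
    have e1 := h.finrank_yy (R := R)
    have e2 : finrank k (UQ v R) ≤ finrank k (fix (op v R [2, 2])) := Submodule.finrank_mono inf_le_left
    apply cast_eq h2 h3
    · apply mul_left_cancel₀ (eight_ne h2)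
      have e3 := h.trQ0 (R := R) h2
      rw [op_nil, one_mul, hUT] at e3
      push_cast
      linear_combination e3 + hn' + hT2 + 6 * hT4
    · omega
    · omega
  have hCU : Cp v R ≤ UQ v R := fun u hu => mem_UQ.2 ⟨hyy u hu, hq u hu⟩
  -- the fixed space of `SL(2,3)`
  have hSP := h.isProj_pS (R := R) h2 h3
  have hST : LinearMap.trace k V (pS v R) = (finrank k (fix (op v R [4]) ⊓ UQ v R : Submodule k V) : k) :=
    trace_isProj hSP
  have hSle : finrank k (fix (op v R [4]) ⊓ UQ v R : Submodule k V) ≤ f + 1 := by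
    rw [← hU]
    exact Submodule.finrank_mono inf_le_right
  have hS : (finrank k (fix (op v R [4]) ⊓ UQ v R : Submodule k V) : k) = f - ε := by
    apply mul_left_cancel₀ h24
    rw [← hST, h.trS h2 h3]
    linear_combination hn' + hT2 + 6 * hT4 + 8 * hT3 - 8 * hT6 + 8 * hT2
  rcases hcase with ⟨rfl, rfl⟩ | rfl
  · -- the sign is `1`
    have hS1 : finrank k (fix (op v R [4]) ⊓ UQ v R : Submodule k V) = 1 := by
      apply cast_eq h2 h3
      · rw [hS]; push_cast; ring
      · omega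
      · omega
    have hTs : LinearMap.trace k V (op v R [3] * pS v R) = -1 := by
      apply mul_left_cancel₀ h24
      rw [h.trSs h2 h3]
      push_cast at hT2 hTy
      linear_combination 12 * hT2 + 6 * hTy
    have hTq : LinearMap.trace k V (op v R [3] * pQ v R) = -1 := by
      apply mul_left_cancel₀ (eight_ne h2)
      rw [h.trQs0 h2]
      push_cast at hT2 hTy
      linear_combination 4 * hT2 + 2 * hTy
    obtain ⟨d1, d2⟩ := two_dims h2 hSP (h.s_pS h2 h3) (h.ss _)
    obtain ⟨d3, d4⟩ := two_dims h2 (h.isProj_pQ (R := R) h2) (h.s_pQ h2) (h.ss _)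
    rw [hTs] at d2
    rw [hTq] at d4
    rw [hS1] at d1
    rw [hU] at d3
    have c1 : (1 : k) = (finrank k (fix (op v R [4]) ⊓ UQ v R ⊓ End.eigenspace (op v R [3]) 1 : Submodule k V) : k) +
        (finrank k (fix (op v R [4]) ⊓ UQ v R ⊓ End.eigenspace (op v R [3]) (-1) : Submodule k V) : k) := by
      have := congrArg (Nat.cast : ℕ → k) d1
      rwa [Nat.cast_add, Nat.cast_one] at this
    have c3 : (2 : k) + 1 = (finrank k (UQ v R ⊓ End.eigenspace (op v R [3]) 1 : Submodule k V) : k) +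
        (finrank k (UQ v R ⊓ End.eigenspace (op v R [3]) (-1) : Submodule k V) : k) := by
      have := congrArg (Nat.cast : ℕ → k) d3
      rw [Nat.cast_add, Nat.cast_add, Nat.cast_one] at this
      exact_mod_cast this
    have m1 : finrank k (fix (op v R [4]) ⊓ UQ v R ⊓ End.eigenspace (op v R [3]) (-1) : Submodule k V) = 1 := by
      apply cast_eq h2 h3
      · apply mul_left_cancel₀ h2
        push_cast
        linear_combination d2 - c1
      · omega
      · omega
    have m3 : finrank k (UQ v R ⊓ End.eigenspace (op v R [3]) (-1) : Submodule k V) = 2 := by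
      apply cast_eq h2 h3
      · apply mul_left_cancel₀ h2
        push_cast
        linear_combination d4 - c3
      · omega
      · omega
    have hle : fix (op v R [4]) ⊓ UQ v R ≤ End.eigenspace (op v R [3]) (-1) := le_of_finrank (by rw [m1, hS1])
    have hCle : Cp v R ≤ UQ v R ⊓ End.eigenspace (op v R [3]) (-1) := by
      refine le_inf hCU fun u hu => ?_
      rw [End.mem_eigenspace_iff, hs u hu, one_smul, neg_one_smul]
    have hCeq : Cp v R = UQ v R ⊓ End.eigenspace (op v R [3]) (-1) := Submodule.eq_of_le_of_finrank_eq hCle (by rw [hCp, m3])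
    obtain ⟨⟨u, hu⟩, hu0, -⟩ := finrank_eq_one_iff'.1 hS1
    have hu0' : u ≠ 0 := fun hc => hu0 (Subtype.ext hc)
    have huC : u ∈ Cp v R := by
      rw [hCeq]
      exact Submodule.mem_inf.2 ⟨(Submodule.mem_inf.1 hu).2, hle hu⟩
    have huW := mem_Wt.1 (Submodule.mem_inf.1 huC).1
    rw [one_smul] at huW
    refine ⟨u, hu0', -1, huW.1, huW.2, mem_fix.1 (Submodule.mem_inf.1 hu).1, ?_, ?_⟩
    · rw [hy2 u huC, one_smul, neg_one_smul]
    · rw [hs u huC, one_smul, neg_one_smul]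
  · -- the sign is `-1`
    have hS1 : finrank k (fix (op v R [4]) ⊓ UQ v R : Submodule k V) = f + 1 := by
      apply cast_eq h2 h3
      · rw [hS]; push_cast; ring
      · omega
      · omega
    have hle : UQ v R ≤ fix (op v R [4]) := by
      apply le_of_finrank
      rw [inf_comm, hS1, hU]
    have hpos : 0 < finrank k (Cp v R) := by omega
    obtain ⟨⟨u, huC⟩, hu0⟩ := Module.finrank_pos_iff_exists_ne_zero.1 hpos
    have hu0' : u ≠ 0 := fun hc => hu0 (Subtype.ext hc)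
    have huW := mem_Wt.1 (Submodule.mem_inf.1 huC).1
    rw [one_smul] at huW
    refine ⟨u, hu0', 1, huW.1, huW.2, mem_fix.1 (hle (hCU huC)), ?_, ?_⟩
    · rw [hy2 u huC, neg_smul, neg_neg]
    · rw [hs u huC, neg_smul, neg_neg]

end Cfsg.Agent.H6.M11
end

-- part: H6/M11/Base
section
/-!
# Cores as representations over an algebraically closed field (helper6)
-/

set_option autoImplicit false
set_option linter.unusedSectionVars false
set_option linter.unusedVariables false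
set_option maxRecDepth 100000

namespace Cfsg.Agent.H6.M11

open Matrix Module Cfsg Cfsg.Geo Cfsg.Agent.H915.LD

universe u

variable {ι : Type} [Fintype ι] [DecidableEq ι] {F : Type u} [Field F] {P : Subgroup (GL ι F)}
  (k : Type*) [Field k] [Algebra F k]

/-- The representation over an extension field. -/
noncomputable def rep (P : Subgroup (GL ι F)) (k : Type*) [Field k] [Algebra F k] : P →* Module.End k (ι → k) :=
  (Matrix.toLinAlgEquiv' : Matrix ι ι k ≃ₐ[k] _).toAlgHom.toRingHom.toMonoidHom.comp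
    ((algebraMap F k).mapMatrix.toMonoidHom.comp ((Units.coeHom _).comp P.subtype))

theorem rep_apply (g : P) : rep P k g = Matrix.toLin' (((g : GL ι F) : Matrix ι ι F).map (algebraMap F k)) := rfl

theorem trace_rep (g : P) : LinearMap.trace k _ (rep P k g) = algebraMap F k (tr (g : GL ι F)) := by
  rw [rep_apply, Matrix.trace_toLin'_eq]
  simp [Matrix.trace, tr]

theorem rep_eq_one {g : P} (h : rep P k g = 1) : g = 1 := by
  apply Subtype.ext
  apply Units.ext
  have h2 : (((g : GL ι F) : Matrix ι ι F)).map (algebraMap F k) = 1 := by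
    apply Matrix.toLin'.injective
    rw [← rep_apply, h, Matrix.toLin'_one]
    rfl
  ext i j
  have h3 := congrFun (congrFun h2 i) j
  rw [Matrix.map_apply] at h3
  apply (algebraMap F k).injective
  rw [h3]
  by_cases hij : i = j
  · rw [hij]; simp
  · rw [Matrix.one_apply_ne hij]
    show 0 = algebraMap F k ((1 : Matrix ι ι F) i j)
    rw [Matrix.one_apply_ne hij, map_zero]

theorem span_mat (hC : Core P) :
    Submodule.span F (Set.range fun g : P => ((g : GL ι F) : Matrix ι ι F)) = ⊤ := by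
  have h := Cfsg.Agent.H919.adjoin_eq_top_of_absIrr hC.absIrred
  rw [eq_top_iff]
  intro x _
  have hx : x ∈ Algebra.adjoin F (matrixSet P) := by rw [h]; trivial
  induction hx using Algebra.adjoin_induction with
  | mem x hx =>
    obtain ⟨g, hg, rfl⟩ := hx
    exact Submodule.subset_span ⟨⟨g, hg⟩, rfl⟩
  | algebraMap r =>
    rw [Algebra.algebraMap_eq_smul_one]
    refine Submodule.smul_mem _ _ (Submodule.subset_span ⟨1, ?_⟩)
    simp
  | add x y _ _ hx hy => exact Submodule.add_mem _ (hx trivial) (hy trivial)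
  | mul x y _ _ hx hy =>
    have h1 := Submodule.mul_mem_mul (hx trivial) (hy trivial)
    rw [Submodule.span_mul_span] at h1
    refine Submodule.span_mono ?_ h1
    rintro _ ⟨_, ⟨g, rfl⟩, _, ⟨g', rfl⟩, rfl⟩
    exact ⟨g * g', by simp⟩

theorem span_rep (hC : Core P) : Submodule.span k (Set.range (rep P k)) = ⊤ := by
  classical
  have h := span_mat hC
  have h1 : ∀ M : Matrix ι ι F,
      Matrix.toLin' (M.map (algebraMap F k)) ∈ Submodule.span k (Set.range (rep P k)) := by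
    intro M
    have hM : M ∈ Submodule.span F (Set.range fun g : P => ((g : GL ι F) : Matrix ι ι F)) := by
      rw [h]; trivial
    induction hM using Submodule.span_induction with
    | mem x hx =>
      obtain ⟨g, rfl⟩ := hx
      exact Submodule.subset_span ⟨g, rfl⟩
    | zero =>
      rw [Matrix.map_zero _ (map_zero _), map_zero]
      exact Submodule.zero_mem _
    | add x y _ _ hx hy =>
      rw [Matrix.map_add _ (map_add _), map_add]
      exact Submodule.add_mem _ hx hy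
    | smul a x _ hx =>
      have h2 : (a • x).map (algebraMap F k) = (algebraMap F k a) • x.map (algebraMap F k) := by
        ext i j
        simp
      rw [h2, map_smul]
      exact Submodule.smul_mem _ _ hx
  rw [eq_top_iff]
  intro f _
  have h2 : f = Matrix.toLin' (LinearMap.toMatrix' f) := by simp
  rw [h2, Matrix.matrix_eq_sum_single (LinearMap.toMatrix' f), map_sum]
  refine Submodule.sum_mem _ fun i _ => ?_
  rw [map_sum]
  refine Submodule.sum_mem _ fun j _ => ?_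
  have h3 : Matrix.single i j (LinearMap.toMatrix' f i j) =
      (LinearMap.toMatrix' f i j) • (Matrix.single i j (1 : F)).map (algebraMap F k) := by
    rw [Matrix.map_single, map_one, Matrix.smul_single, smul_eq_mul, mul_one]
  rw [h3, map_smul]
  exact Submodule.smul_mem _ _ (h1 _)

/-- an invariant subspace is trivial -/
theorem invariant (hC : Core P) (S : Submodule k (ι → k)) (hS : ∀ g : P, ∀ x ∈ S, rep P k g x ∈ S) :
    S = ⊥ ∨ S = ⊤ := by
  have h1 : ∀ f : Module.End k (ι → k), ∀ x ∈ S, f x ∈ S := by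
    intro f
    have hf : f ∈ Submodule.span k (Set.range (rep P k)) := by rw [span_rep k hC]; trivial
    induction hf using Submodule.span_induction with
    | mem f hf =>
      obtain ⟨g, rfl⟩ := hf
      exact hS g
    | zero => intro x _; rw [LinearMap.zero_apply]; exact S.zero_mem
    | add f g _ _ hf hg => intro x hx; rw [LinearMap.add_apply]; exact S.add_mem (hf x hx) (hg x hx)
    | smul a f _ hf => intro x hx; rw [LinearMap.smul_apply]; exact S.smul_mem _ (hf x hx)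
  by_cases h0 : S = ⊥
  · exact Or.inl h0
  · right
    obtain ⟨x, hx, hx0⟩ := (Submodule.ne_bot_iff _).1 h0
    rw [eq_top_iff]
    intro y _
    obtain ⟨i, hi⟩ : ∃ i, x i ≠ 0 := by
      by_contra hc
      push Not at hc
      exact hx0 (funext hc)
    have h2 := h1 (Matrix.toLin' (Matrix.vecMulVec y (Pi.single i (x i)⁻¹))) x hx
    have h3 : Matrix.toLin' (Matrix.vecMulVec y (Pi.single i (x i)⁻¹)) x = y := by
      rw [Matrix.toLin'_apply]
      ext j
      rw [Matrix.vecMulVec_mulVec, single_dotProduct]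
      simp [hi]
    rwa [h3] at h2

end Cfsg.Agent.H6.M11
end

-- part: H6/M11/Stage11
section
/-!
# Cores isomorphic to the Mathieu group of degree 11, dimension at most 12, characteristic not 3 (helper6)
-/

set_option autoImplicit false
set_option linter.unusedSectionVars false
set_option linter.unusedVariables false
set_option maxRecDepth 100000

namespace Cfsg.Agent.H6.M11

open Matrix Module Cfsg Cfsg.Geo Cfsg.Agent.H915.LD

universe u

section tools

variable {ι : Type} [Fintype ι] [DecidableEq ι] {F : Type u} [Field F] {P : Subgroup (GL ι F)}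

/-- the trace of a `p`-element -/
theorem tr_of_pow [Finite F] (p : ℕ) [Fact p.Prime] [CharP F p] {g : GL ι F} {j : ℕ} (hg : g ^ p ^ j = 1) :
    tr g = (Fintype.card ι : F) := by
  have h1 := tr_pow_char p g j
  rw [hg] at h1
  have h2 : tr (1 : GL ι F) = (Fintype.card ι : F) := by
    unfold tr
    rw [Units.val_one, Matrix.trace_one]
  have h3 := tr_pow_char p (1 : GL ι F) j
  rw [one_pow, h2] at h3
  rw [h2] at h1
  have h4 : (tr g) ^ p ^ j = (Fintype.card ι : F) ^ p ^ j := by rw [← h1, ← h3]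
  exact iterateFrobenius_inj F p j (by rw [iterateFrobenius_def, iterateFrobenius_def]; exact h4)

theorem exists_root (k : Type*) [Field k] [IsAlgClosed k] (m : ℕ) (hm : (m : k) ≠ 0) : ∃ ζ : k, IsPrimitiveRoot ζ m := by
  have : NeZero (m : k) := ⟨hm⟩
  have h : HasEnoughRootsOfUnity k m := inferInstance
  exact HasEnoughRootsOfUnity.exists_primitiveRoot k m

theorem cast_ne {p : ℕ} (k : Type*) [Field k] [CharP k p] (hp : p.Prime) {q : ℕ} (hq : q.Prime) (h : p ≠ q) :
    (q : k) ≠ 0 := by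
  intro h0
  rw [CharP.cast_eq_zero_iff k p] at h0
  exact h ((Nat.prime_dvd_prime_iff_eq hp hq).1 h0)

end tools

section letters

variable {ι : Type} [Fintype ι] [DecidableEq ι] {F : Type u} [Field F] {P : Subgroup (GL ι F)}

theorem tw_rep (k : Type*) [Field k] [Algebra F k] (v : ℕ → P) (w : List ℕ) :
    tw v (rep P k) w = algebraMap F k (tr ((ev v w : P) : GL ι F)) := by
  rw [tw, op, trace_rep]

theorem tr_eq_of_tw (k : Type*) [Field k] [Algebra F k] (v : ℕ → P) {w w' : List ℕ}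
    (h : tw v (rep P k) w = tw v (rep P k) w') : tr ((ev v w : P) : GL ι F) = tr ((ev v w' : P) : GL ι F) := by
  rw [tw_rep, tw_rep] at h
  exact (algebraMap F k).injective h

/-- the trace of the elements of order 11 is real (dimension at most 12, `p ≠ 3`) -/
theorem real_eleven [Finite F] (p : ℕ) [hp : Fact p.Prime] [CharP F p] (hp3 : p ≠ 3) {v : ℕ → P} (hv : Sat v)
    (hv0 : v 0 ≠ 1) (hn : Fintype.card ι ≤ 12) :
    tr (((ev v [5] : P)⁻¹ : P) : GL ι F) = tr ((ev v [5] : P) : GL ι F) := by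
  have h10 : (ev v [5])⁻¹ = ev v [5, 5, 5, 5, 5, 5, 5, 5, 5, 5] := by
    rw [inv_eq_iff_mul_eq_one, ← ev_append, ← ev_nil v]
    exact hv.base (by decide +kernel)
  by_cases h11 : p = 11
  · subst h11
    have e1 : (ev v [5]) ^ 11 ^ 1 = 1 := by
      rw [pow_one, ev_pow, ← ev_nil v]
      exact hv.base (by decide +kernel)
    have e2 : ((ev v [5] : P) : GL ι F) ^ 11 ^ 1 = 1 := by exact_mod_cast congrArg Subtype.val e1
    have e3 : (((ev v [5] : P)⁻¹ : P) : GL ι F) ^ 11 ^ 1 = 1 := by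
      rw [Subgroup.coe_inv, inv_pow, e2, inv_one]
    rw [tr_of_pow 11 e2, tr_of_pow 11 e3]
  · rw [h10]
    have hck : CharP (AlgebraicClosure F) p := charP_of_injective_algebraMap (algebraMap F _).injective p
    obtain ⟨ω, hω⟩ := exists_root (AlgebraicClosure F) 3 (cast_ne _ hp.out Nat.prime_three hp3)
    obtain ⟨ζ, hζ⟩ := exists_root (AlgebraicClosure F) 11 (cast_ne _ hp.out (by norm_num) h11)
    refine tr_eq_of_tw (AlgebraicClosure F) v (hv.eleven_real hω hζ ?_ ?_)
    · intro h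
      have h1 := rep_eq_one _ h
      rw [ev_cons, ev_nil, mul_one] at h1
      exact hv0 h1
    · rw [Module.finrank_fintype_fun_eq_card]
      exact hn

/-- the inverse of `y` -/
theorem Sat.y_inv {G : Type*} [Group G] {v : ℕ → G} (hv : Sat v) :
    (ev v [2])⁻¹ = ev v [2, 2, 2, 2, 2, 2, 2] := by
  rw [inv_eq_iff_mul_eq_one, ← ev_append, ← ev_nil v]
  exact hv.base (by decide +kernel)

/-- if the trace of `y` is not real then there is an invariant line or the dimension is 10 -/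
theorem line_of [Finite F] (p : ℕ) [hp : Fact p.Prime] [CharP F p] (hp3 : p ≠ 3) (hp2 : p ≠ 2) {v : ℕ → P} (hv : Sat v)
    (hv0 : v 0 ≠ 1) (hn : Fintype.card ι ≤ 12)
    (hy : tr (((ev v [2] : P)⁻¹ : P) : GL ι F) ≠ tr ((ev v [2] : P) : GL ι F)) :
    Fintype.card ι = 10 ∨ (tr ((ev v [2, 2] : P) : GL ι F) ≠ 0 ∧ ∃ u : ι → AlgebraicClosure F, u ≠ 0 ∧
      ∃ c : AlgebraicClosure F, rep P _ (v 0) u = u ∧ rep P _ (v 1) u = u ∧ rep P _ (v 4) u = u ∧
        rep P _ (v 2) u = c • u ∧ rep P _ (v 3) u = c • u) := by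
  by_cases h10 : Fintype.card ι = 10
  · exact Or.inl h10
  right
  have hck : CharP (AlgebraicClosure F) p := charP_of_injective_algebraMap (algebraMap F _).injective p
  obtain ⟨ω, hω⟩ := exists_root (AlgebraicClosure F) 3 (cast_ne _ hp.out Nat.prime_three hp3)
  have h2 : (2 : AlgebraicClosure F) ≠ 0 := cast_ne _ hp.out Nat.prime_two hp2
  obtain ⟨h4, u, hu, c, h5⟩ := hv.line (R := rep P (AlgebraicClosure F)) hω h2 (by
    intro h
    have h1 := rep_eq_one _ h
    rw [ev_cons, ev_nil, mul_one] at h1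
    exact hv0 h1) (by rw [Module.finrank_fintype_fun_eq_card]; exact hn)
    (by rw [Module.finrank_fintype_fun_eq_card]; exact h10) (by
    intro h
    apply hy
    rw [hv.y_inv]
    exact tr_eq_of_tw _ v h)
  have e : ∀ i, op v (rep P (AlgebraicClosure F)) [i] = rep P (AlgebraicClosure F) (v i) := by
    intro i
    rw [op, ev_cons, ev_nil, mul_one]
  rw [e, e, e, e, e] at h5
  refine ⟨?_, u, hu, c, h5⟩
  intro h6
  apply h4
  rw [tw_rep, h6, map_zero]

/-- the dimension is at least 9 -/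
theorem nine_le_of [Finite F] (p : ℕ) [hp : Fact p.Prime] [CharP F p] (hp3 : p ≠ 3) (hp2 : p ≠ 2) {v : ℕ → P}
    (hv : Sat v) (hv0 : v 0 ≠ 1) (hn : Fintype.card ι ≤ 12) : 9 ≤ Fintype.card ι := by
  have hck : CharP (AlgebraicClosure F) p := charP_of_injective_algebraMap (algebraMap F _).injective p
  obtain ⟨ω, hω⟩ := exists_root (AlgebraicClosure F) 3 (cast_ne _ hp.out Nat.prime_three hp3)
  have h2 : (2 : AlgebraicClosure F) ≠ 0 := cast_ne _ hp.out Nat.prime_two hp2
  have h := hv.nine_le (R := rep P (AlgebraicClosure F)) hω h2 (by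
    intro h
    have h1 := rep_eq_one _ h
    rw [ev_cons, ev_nil, mul_one] at h1
    exact hv0 h1) (by rw [Module.finrank_fintype_fun_eq_card]; exact hn)
  rwa [Module.finrank_fintype_fun_eq_card] at h

end letters

section main

variable {ι : Type} [Fintype ι] [DecidableEq ι] {F : Type u} [Field F] [Finite F] {P : Subgroup (GL ι F)}

theorem tr_isConj {a b : P} (h : IsConj a b) : tr (a : GL ι F) = tr (b : GL ι F) := tr_of_isConj h

/-- the letters in a core isomorphic to the group of degree 11 -/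
theorem exists_letters (hC : Core P) (h : Spor.IsoM11 (Soc P)) :
    ∃ e : P ≃* Spor.M11, True := by
  obtain ⟨e⟩ := h
  obtain ⟨e', -⟩ := hC.equiv_of_coprime e S2034.result (by
    rw [Nat.card_eq_fintype_card, Fintype.card_multiplicative, ZMod.card]
    exact Nat.coprime_one_left _)
  exact ⟨e', trivial⟩

/-- **Stage 1 for the Mathieu group of degree 11, characteristic not 3.** -/
theorem m11_ne_three (hC : Core P) (p : ℕ) [hp : Fact p.Prime] [CharP F p] (hp3 : p ≠ 3)
    (h : Spor.IsoM11 (Soc P)) (hn : Fintype.card ι ≤ 12) :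
    SD P ∨ (Fintype.card ι = 10 ∧ (((p % 8 = 1 ∨ p % 8 = 3) ∧ Fr P p) ∨ ((p % 8 = 5 ∨ p % 8 = 7) ∧ Cj P p))) := by
  obtain ⟨e, -⟩ := exists_letters hC h
  have hP : Spor.IsoM11 P := ⟨e⟩
  let v : ℕ → P := fun i => e.symm (v11 i)
  have hv : Sat v := sat_11.map e.symm.toMonoidHom
  have hv0 : v 0 ≠ 1 := by
    intro h0
    apply v11_zero_ne
    have := congrArg e h0
    rwa [MulEquiv.apply_symm_apply, map_one] at this
  have hev : ∀ w, ev v w = e.symm (ev v11 w) := fun w => (map_ev v11 e.symm.toMonoidHom w).symm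
  have ho : ∀ w, orderOf (ev v w) = orderOf (ev v11 w) := by
    intro w
    rw [hev]
    exact MulEquiv.orderOf_eq _ _
  have o6 : orderOf (ev v [3, 0]) = 6 := (ho _).trans orders_11.1
  have o8 : orderOf (ev v [2]) = 8 := (ho _).trans orders_11.2.1
  have o5 : orderOf (ev v [6]) = 5 := (ho _).trans orders_11.2.2.1
  have o11 : orderOf (ev v [5]) = 11 := (ho _).trans orders_11.2.2.2
  let χ : P → F := fun g => tr (g : GL ι F)
  have hχ : ∀ a b, IsConj a b → χ a = χ b := fun a b hab => tr_isConj hab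
  have r11 : χ (ev v [5])⁻¹ = χ (ev v [5]) := real_eleven p hp3 hv hv0 hn
  by_cases r8 : χ (ev v [2])⁻¹ = χ (ev v [2])
  · left
    intro g hg
    exact eq_of_order hP o6 o8 o5 o11 χ hχ r8 r11 (a := ⟨g, hg⟩⁻¹) (b := ⟨g, hg⟩) (orderOf_inv _)
  · -- the trace of `y` is not real
    have hp2 : p ≠ 2 := by
      rintro rfl
      apply r8
      have e1 : (ev v [2]) ^ 2 ^ 3 = 1 := by
        rw [show 2 ^ 3 = 8 by norm_num, ← o8]
        exact pow_orderOf_eq_one _
      have e2 : ((ev v [2] : P) : GL ι F) ^ 2 ^ 3 = 1 := by exact_mod_cast congrArg Subtype.val e1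
      have e3 : (((ev v [2] : P)⁻¹ : P) : GL ι F) ^ 2 ^ 3 = 1 := by
        rw [Subgroup.coe_inv, inv_pow, e2, inv_one]
      exact (tr_of_pow 2 e3).trans (tr_of_pow 2 e2).symm
    rcases line_of p hp3 hp2 hv hv0 hn r8 with h10 | ⟨-, u, hu, c, hu0, hu1, hu4, hu2, hu3⟩
    · -- dimension 10
      right
      refine ⟨h10, ?_⟩
      have hpodd : p % 2 = 1 := by
        rcases hp.out.eq_two_or_odd with h0 | h0
        · exact absurd h0 hp2
        · exact h0
      have hne8 : ∀ g : P, ¬ p ∣ orderOf g → orderOf g ≠ 8 → χ (g ^ p) = χ g ∧ χ g⁻¹ = χ g := by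
        intro g hg hg8
        have h1 : orderOf (g ^ p) = orderOf g := by
          rw [orderOf_pow, (Nat.Coprime.symm ((Nat.Prime.coprime_iff_not_dvd hp.out).2 hg)).gcd_eq_one, Nat.div_one]
        exact ⟨eq_of_order' hP o6 o8 o5 o11 χ hχ r11 h1 (by rw [h1]; exact hg8),
          eq_of_order' hP o6 o8 o5 o11 χ hχ r11 (orderOf_inv g) (by rw [orderOf_inv]; exact hg8)⟩
      have hpow : ∀ g : P, tr (g : GL ι F) ^ p = χ (g ^ p) := by
        intro g
        have := tr_pow_char p (g : GL ι F) 1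
        rw [pow_one] at this
        exact this.symm
      have h8 : ∀ g : P, orderOf g = 8 → g ^ p = g ^ (p % 8) := by
        intro g hg
        rw [← hg, pow_mod_orderOf]
      have hc8 : ∀ g : P, orderOf g = 8 → χ (g ^ 3) = χ g := fun g hg =>
        (hχ _ _ (H180.KM11.cube_order_eight hP hg)).symm
      have hcase : p % 8 = 1 ∨ p % 8 = 3 ∨ p % 8 = 5 ∨ p % 8 = 7 := by omega
      rcases hcase with hm | hm | hm | hm
      · refine Or.inl ⟨Or.inl hm, Fr.of_reg' p ?_⟩
        intro g hg hreg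
        have hreg' : ¬ p ∣ orderOf (⟨g, hg⟩ : P) := by rwa [Subgroup.orderOf_mk]
        rw [hpow ⟨g, hg⟩]
        by_cases h0 : orderOf (⟨g, hg⟩ : P) = 8
        · rw [h8 _ h0, hm, pow_one]
        · exact (hne8 _ hreg' h0).1
      · refine Or.inl ⟨Or.inr hm, Fr.of_reg' p ?_⟩
        intro g hg hreg
        have hreg' : ¬ p ∣ orderOf (⟨g, hg⟩ : P) := by rwa [Subgroup.orderOf_mk]
        rw [hpow ⟨g, hg⟩]
        by_cases h0 : orderOf (⟨g, hg⟩ : P) = 8
        · rw [h8 _ h0, hm]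
          exact hc8 _ h0
        · exact (hne8 _ hreg' h0).1
      · refine Or.inr ⟨Or.inl hm, Cj.of_reg' p ?_⟩
        intro g hg hreg
        have hreg' : ¬ p ∣ orderOf (⟨g, hg⟩ : P) := by rwa [Subgroup.orderOf_mk]
        rw [hpow ⟨g, hg⟩]
        by_cases h0 : orderOf (⟨g, hg⟩ : P) = 8
        · rw [h8 _ h0, hm]
          have h1 : (⟨g, hg⟩ : P) ^ 5 = ((⟨g, hg⟩ : P)⁻¹) ^ 3 := by
            have h2 : (⟨g, hg⟩ : P) ^ 8 = 1 := by rw [← h0]; exact pow_orderOf_eq_one _
            rw [inv_pow]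
            apply eq_inv_of_mul_eq_one_left
            rw [← pow_add]
            exact h2
          rw [h1]
          exact hc8 _ (by rw [orderOf_inv]; exact h0)
        · exact (hne8 _ hreg' h0).1.trans (hne8 _ hreg' h0).2.symm
      · refine Or.inr ⟨Or.inr hm, Cj.of_reg' p ?_⟩
        intro g hg hreg
        have hreg' : ¬ p ∣ orderOf (⟨g, hg⟩ : P) := by rwa [Subgroup.orderOf_mk]
        rw [hpow ⟨g, hg⟩]
        by_cases h0 : orderOf (⟨g, hg⟩ : P) = 8
        · rw [h8 _ h0, hm]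
          have h1 : (⟨g, hg⟩ : P) ^ 7 = (⟨g, hg⟩ : P)⁻¹ := by
            have h2 : (⟨g, hg⟩ : P) ^ 8 = 1 := by rw [← h0]; exact pow_orderOf_eq_one _
            apply eq_inv_of_mul_eq_one_left
            rw [← pow_succ]
            exact h2
          rw [h1]
          rfl
        · exact (hne8 _ hreg' h0).1.trans (hne8 _ hreg' h0).2.symm
    · -- an invariant line : impossible
      exfalso
      let S : Submodule (AlgebraicClosure F) (ι → AlgebraicClosure F) := Submodule.span _ {u}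
      -- the stabilizer of the line
      let K : Subgroup P :=
        { carrier := {g | ∃ c : (AlgebraicClosure F), c ≠ 0 ∧ rep P _ g u = c • u}
          one_mem' := ⟨1, one_ne_zero, by rw [map_one, one_smul]; rfl⟩
          mul_mem' := by
            rintro a b ⟨c1, h1, h1'⟩ ⟨c2, h2, h2'⟩
            exact ⟨c2 * c1, mul_ne_zero h2 h1, by rw [map_mul, Module.End.mul_apply, h2', map_smul, h1', smul_smul]⟩
          inv_mem' := by
            rintro a ⟨c1, h1, h1'⟩
            refine ⟨c1⁻¹, inv_ne_zero h1, ?_⟩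
            have h3 : rep P (AlgebraicClosure F) a⁻¹ (rep P _ a u) = u := by
              rw [← Module.End.mul_apply, ← map_mul, inv_mul_cancel, map_one]; rfl
            rw [h1', map_smul] at h3
            rw [eq_inv_smul_iff₀ h1]
            exact h3 }
      have hcne : c ≠ 0 := by
        rintro rfl
        rw [zero_smul] at hu2
        have h3 : rep P (AlgebraicClosure F) (v 2)⁻¹ (rep P _ (v 2) u) = u := by
          rw [← Module.End.mul_apply, ← map_mul, inv_mul_cancel, map_one]; rfl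
        rw [hu2, map_zero] at h3
        exact hu h3.symm
      have m0 : v 0 ∈ K := ⟨1, one_ne_zero, by rw [hu0, one_smul]⟩
      have m1 : v 1 ∈ K := ⟨1, one_ne_zero, by rw [hu1, one_smul]⟩
      have m4 : v 4 ∈ K := ⟨1, one_ne_zero, by rw [hu4, one_smul]⟩
      have m2 : v 2 ∈ K := ⟨c, hcne, hu2⟩
      have m3 : v 3 ∈ K := ⟨c, hcne, hu3⟩
      have hw : ∀ w : List ℕ, (∀ i ∈ w, i ≤ 4) → ev v w ∈ K := by
        intro w
        induction w with
        | nil => intro _; rw [ev_nil]; exact one_mem _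
        | cons i w ih =>
          intro hi
          rw [ev_cons]
          refine mul_mem ?_ (ih fun j hj => hi j (List.mem_cons_of_mem _ hj))
          have h4 : i ≤ 4 := hi i List.mem_cons_self
          interval_cases i
          · exact m0
          · exact m1
          · exact m2
          · exact m3
          · exact m4
      have m5 : v 5 ∈ K := by
        have h1 : ev v [5] = ev v [2, 0, 2, 3, 4, 0, 4] := hv.base (by decide +kernel)
        rw [ev_cons, ev_nil, mul_one] at h1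
        rw [h1]
        exact hw _ (by decide)
      have m8 : v 8 ∈ K := by
        have h1 : ev v [8] = ev v [2, 3, 2, 0] := hv.base (by decide +kernel)
        rw [ev_cons, ev_nil, mul_one] at h1
        rw [h1]
        exact hw _ (by decide)
      have htop : K = ⊤ := by
        rw [eq_top_iff]
        have h1 : Subgroup.closure ({v 5, v 8} : Set P) = ⊤ := by
          have h2 := congrArg (Subgroup.map e.symm.toMonoidHom) closure_11
          rw [MonoidHom.map_closure, Set.image_pair, Subgroup.map_top_of_surjective _ e.symm.surjective] at h2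
          exact h2
        rw [← h1, Subgroup.closure_le]
        rintro g (rfl | hg)
        · exact m5
        · rw [Set.mem_singleton_iff.1 hg]
          exact m8
      have hinv := invariant (AlgebraicClosure F) hC S (by
        intro g x hx
        have hgK : g ∈ K := by rw [htop]; trivial
        obtain ⟨c1, -, h1⟩ := hgK
        rw [Submodule.mem_span_singleton] at hx ⊢
        obtain ⟨a, rfl⟩ := hx
        exact ⟨a * c1, by rw [map_smul, h1, smul_smul]⟩)
      have hS1 : finrank (AlgebraicClosure F) S = 1 := finrank_span_singleton hu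
      rcases hinv with h1 | h1
      · rw [h1, finrank_bot] at hS1
        exact absurd hS1 (by norm_num)
      · rw [h1, finrank_top, Module.finrank_fintype_fun_eq_card] at hS1
        have := hC.two_le
        omega

end main

end Cfsg.Agent.H6.M11
end

private theorem dce_f772bae4d839 : _root_.True := by
  try have : _root_.True := by simp only [_root_.Cfsg.Agent.H6.M11.pE.eq_1]
  try have : _root_.True := by simp only [_root_.Cfsg.Agent.H915.LD.tr.eq_1]
  try have : _root_.True := by simp only [_root_.Cfsg.Agent.H6.M11.pP.eq_1]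
  try have : _root_.True := by simp only [_root_.Cfsg.Agent.H6.M11.UQ.eq_1]
  try have : _root_.True := by simp only [_root_.Cfsg.Agent.H6.M11.pS.eq_1]
  try have : _root_.True := by simp only [_root_.Cfsg.Agent.H6.M11.pQ.eq_1]
  try have : _root_.True := by simp only [_root_.Cfsg.Agent.H6.M11.op.eq_1]
  try have : _root_.True := by simp only [_root_.Cfsg.Agent.H6.M11.p4.eq_1]
  try have : _root_.True := by simp only [_root_.Cfsg.Agent.H6.M11.pM.eq_1]
  try have : _root_.True := by simp only [_root_.Cfsg.Agent.H6.M11.tE.eq_1]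
  exact _root_.True.intro
end
end
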