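import Cfsg.Agent.H932.MtCov_m3
import Cfsg.Agent.H48.M12Three
import Cfsg.Agent.Lib.ListFast
import Cfsg.Agent.H6.M11.Stage11
import Cfsg.Agent.H6.M11.Main11
import Cfsg.Agent.FastGrp
import Cfsg.Agent.Prune
set_option linter.all false

section
prune_inst 0x7fffedffbbf8bbffffff7e7fa6dceffdfbbdbfffe6dff9cbffe069ffabff6b0ac9c5fbad8fe858fe1ed7e21490f87b53fbfffeffea6bfc7ffffd5ff45ffbffcffdf7bd0951d488341fb82ffe83f0778e7f3fffffffffffffffffffffffffffbeffbfffffffff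

-- part: H6/M11/Gam
section
set_option linter.all false
open scoped Cfsg.Agent.FastGrp

/-!
# Words in the double cover of the Mathieu group of degree 12 (helper6)

* `gG i` : lifts of the generators `y, p, q, r, s, b` of `CoThreeStd.MTwelve` to helper932's group `Γ`, `gG 6 = -1`;
* `GW` : value of a word, `GW_eq` : equality test, `sig_GW : sig (GW w) = wd w`;
* `vG` : the letters of the group of degree 11, `sat_G`.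
-/

set_option autoImplicit false
set_option maxRecDepth 100000

namespace Cfsg.Agent.H6.M11

open Cfsg Cfsg.Agent.CoThreeStd.MTwelve Cfsg.Agent.H932.Mt

/-- words of the lifts in helper932's generators -/
def wG : ℕ → List ℕ
  | 0 => [0, 1, 2, 2, 2, 2, 2, 1, 2, 1, 2, 1, 0, 1, 0]
  | 1 => [0, 0, 0, 1, 2, 1, 2, 1, 0, 0, 0, 1, 0, 0, 0, 0, 1]
  | 2 => [2, 1, 0, 1, 0, 0, 1, 2, 2, 2, 2, 2, 1, 0, 0, 0]
  | 3 => [1, 2, 1, 0, 0, 1, 0, 0, 0, 0, 0, 1, 0, 0, 0, 0]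
  | 4 => [0, 1, 0, 0, 1, 0, 1, 0, 0, 0, 1, 0, 0, 0, 1, 0, 1, 2]
  | 5 => [0, 0, 1, 2, 2, 1, 2, 1, 0, 1, 0, 1, 0, 0, 0]
  | _ => [0, 0, 0, 0, 0, 0, 0, 0, 0, 0, 0]

/-- lifts of the generators -/
def gG (i : ℕ) : Γ := el (wG i)

/-- value of a word -/
def GW (w : List ℕ) : Γ := (w.map gG).prod

theorem GW_nil : GW [] = 1 := rfl
theorem GW_cons (i : ℕ) (w : List ℕ) : GW (i :: w) = gG i * GW w := by simp [GW]
theorem GW_append (u w : List ℕ) : GW (u ++ w) = GW u * GW w := by simp [GW]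

theorem gG_six : gG 6 = neg := rfl

theorem GW_six (w : List ℕ) : GW (6 :: w) = neg * GW w := by rw [GW_cons, gG_six]

/-- packed tables of the signed permutations -/
def qS : ℕ → ℕ
  | 0 => 0x9c9cfb5d6aad109845ac214e600462
  | 1 => 0xad2d77b98d94e304256a10c2039885
  | 2 => 0x52c6284672004a4bd8e64258da55ee
  | 3 => 0xa56f673c859c8203986252e304258d
  | 4 => 0x52d28846726b1cfbda9510c2039885
  | 5 => 0x94d28bd98d10e30292950814b7b8c7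
  | _ => 0xb5e9594e1173d8d52d0931c8510c01

/-- the action on the signed points -/
def aS : List ℕ → ℕ → ℕ
  | [], x => x
  | i :: l, x => (qS i >>> (5 * aS l x)) % 32

theorem gG_apply (i : ℕ) (k : Fin 24) : ((gG i).1.1 k : ℕ) = (qS i >>> (5 * (k : ℕ))) % 32 := by
  have h : ∀ k : Fin 24, ∀ i : Fin 7, ((gG i.1).1.1 k : ℕ) = (qS i.1 >>> (5 * (k : ℕ))) % 32 := by decide +kernel
  rcases Nat.lt_or_ge i 6 with hi | hi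
  · exact h k ⟨i, by omega⟩
  · obtain ⟨m, rfl⟩ := Nat.exists_eq_add_of_le hi
    have h6 : gG (6 + m) = gG 6 := by rw [Nat.add_comm]; rfl
    have h7 : qS (6 + m) = qS 6 := by rw [Nat.add_comm]; rfl
    rw [h6, h7]
    exact h k ⟨6, by omega⟩

theorem GW_apply (w : List ℕ) (k : Fin 24) : ((GW w).1.1 k : ℕ) = aS w k := by
  induction w with
  | nil => rfl
  | cons i w ih =>
    rw [GW_cons]
    change ((gG i).1.1 ((GW w).1.1 k) : ℕ) = (qS i >>> (5 * aS w k)) % 32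
    rw [gG_apply, ih]

/-- test for equality -/
def eqG (w w' : List ℕ) : Bool := allB (fun x => Nat.beq (aS w x) (aS w' x)) 24

theorem GW_eq {w w' : List ℕ} (h : eqG w w' = true) : GW w = GW w' := by
  apply gext
  apply Equiv.ext
  intro k
  apply Fin.ext
  rw [GW_apply, GW_apply]
  exact Nat.eq_of_beq_eq_true (allB_spec _ 24 h k k.2)

theorem sig_gG (i : ℕ) : sig (gG i) = gen i := by
  rcases Nat.lt_or_ge i 6 with hi | hi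
  · have h : ∀ i : Fin 6, ∀ p : GolayPt, (gG i.1).1.2 p = (gen i.1).1 p := by decide +kernel
    apply Subtype.ext
    apply Equiv.ext
    exact h ⟨i, hi⟩
  · obtain ⟨m, rfl⟩ := Nat.exists_eq_add_of_le hi
    have h6 : gG (6 + m) = gG 6 := by rw [Nat.add_comm]; rfl
    have h7 : gen (6 + m) = 1 := by rw [Nat.add_comm]; rfl
    rw [h6, h7, gG_six, sig_neg]

theorem sig_GW (w : List ℕ) : sig (GW w) = wd w := by
  induction w with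
  | nil => exact map_one _
  | cons i w ih => rw [GW_cons, map_mul, sig_gG, ih, wd_cons]

theorem eq_or_of_sig {a b : Γ} (h : sig a = sig b) : a = b ∨ a = neg * b := by
  have h1 : sig (a * b⁻¹) = 1 := by rw [map_mul, map_inv, h, mul_inv_cancel]
  rcases eq_of_sig h1 with h2 | h2
  · left; rwa [mul_inv_eq_one] at h2
  · right; rw [← h2, inv_mul_cancel_right]

/-- lifts of the letters of the group of degree 11 -/
def WG : ℕ → List ℕ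
  | 0 => [6, 5, 2, 3, 4, 5, 1, 0, 5]
  | 1 => [6, 0, 5, 2, 3, 1, 5, 1, 5, 3]
  | 2 => [6, 3, 4, 5, 1, 5, 4, 1]
  | 3 => [6, 2, 3, 1, 2]
  | 4 => [1, 5, 4, 5, 1, 5, 1, 2, 3, 0]
  | 5 => [6, 2, 5, 1, 2, 3, 4, 5]
  | 6 => [6, 4, 3, 5, 3, 4, 1]
  | 7 => [2, 5, 3, 1, 0, 5, 2, 1]
  | 8 => [6, 5, 1, 2, 3, 4, 2, 3, 2, 1, 5]
  | _ => []

/-- the letters in the double cover -/
def vG (i : ℕ) : Γ := GW (WG i)

theorem ev_vG (w : List ℕ) : ev vG w = GW (w.flatMap WG) := by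
  induction w with
  | nil => rfl
  | cons i w ih => rw [ev_cons, ih, List.flatMap_cons, GW_append]; rfl

private noncomputable def _root_.Cfsg.Agent.LsF.fc3b9bc_12 : {f // @Cfsg.Agent.H6.M11.relLL = f} := ⟨_, by first | (delta Cfsg.Agent.H6.M11.relLL; rewrite [Cfsg.Agent.LsF.lappend_pat, Cfsg.Agent.LsF.lappend_pat, Cfsg.Agent.LsF.map_eq]; exact rfl) | exact rfl⟩
private noncomputable def _root_.Cfsg.Agent.LsF.fc3b9bc_13 : {f // @Cfsg.Agent.H6.M11.relL = f} := ⟨_, by first | (delta Cfsg.Agent.H6.M11.relL; rewrite [Cfsg.Agent.LsF.fc3b9bc_12.2, Cfsg.Agent.LsF.lappend_pat, Cfsg.Agent.LsF.lappend_pat, Cfsg.Agent.LsF.map_eq]; exact rfl) | exact rfl⟩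
private noncomputable def _root_.Cfsg.Agent.LsF.fc3b9bc_14 : {f // @Cfsg.Agent.CoThreeStd.MTwelve.allB = f} := ⟨_, by first | (delta Cfsg.Agent.CoThreeStd.MTwelve.allB Nat.brecOn.go Nat.brecOn Cfsg.Agent.CoThreeStd.MTwelve.allB._f; rewrite [Cfsg.Agent.LsF.and_eq]; (try delta Cfsg.Agent.CoThreeStd.MTwelve.allB.match_1); (try delta Nat.casesOn); first | dsimp -zeta only | exact rfl) | exact rfl⟩
private noncomputable def _root_.Cfsg.Agent.LsF.fc3b9bc_15 : {f // @Cfsg.Agent.H6.M11.aS = f} := ⟨_, by first | (delta Cfsg.Agent.H6.M11.aS List.brecOn List.brecOn.go Cfsg.Agent.H6.M11.aS._f; rewrite [Cfsg.Agent.LsF.nmul_pat, Cfsg.Agent.LsF.nmod_pat, Cfsg.Agent.LsF.nshr_pat]; (try delta Cfsg.Agent.H6.M11.aS.match_1); (try delta List.casesOn); first | dsimp -zeta only | exact rfl) | exact rfl⟩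
private noncomputable def _root_.Cfsg.Agent.LsF.fc3b9bc_16 : {f // @Cfsg.Agent.H6.M11.eqG = f} := ⟨_, by first | (delta Cfsg.Agent.H6.M11.eqG; rewrite [Cfsg.Agent.LsF.fc3b9bc_14.2, Cfsg.Agent.LsF.fc3b9bc_15.2]; exact rfl) | exact rfl⟩
theorem sat_G_sp0 : ((relL.take 120).all fun r => eqG (r.1.flatMap WG) (r.2.flatMap WG)) = true := by ((try (rewrite [Cfsg.Agent.LsF.fc3b9bc_13.2, Cfsg.Agent.LsF.fc3b9bc_16.2, Cfsg.Agent.LsF.all_eq, Cfsg.Agent.LsF.flatMap_eq, Cfsg.Agent.LsF.take_eq])); decide +kernel)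
theorem sat_G_sp1 : (((relL.drop 120).take 130).all fun r => eqG (r.1.flatMap WG) (r.2.flatMap WG)) = true := by
  ((try (rewrite [Cfsg.Agent.LsF.fc3b9bc_13.2, Cfsg.Agent.LsF.fc3b9bc_16.2, Cfsg.Agent.LsF.all_eq, Cfsg.Agent.LsF.flatMap_eq, Cfsg.Agent.LsF.take_eq, Cfsg.Agent.LsF.drop_eq])); decide +kernel)
theorem sat_G_sp2 : (((relL.drop 120).drop 130).all fun r => eqG (r.1.flatMap WG) (r.2.flatMap WG)) = true := by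
  ((try (rewrite [Cfsg.Agent.LsF.fc3b9bc_13.2, Cfsg.Agent.LsF.fc3b9bc_16.2, Cfsg.Agent.LsF.all_eq, Cfsg.Agent.LsF.flatMap_eq, Cfsg.Agent.LsF.drop_eq])); decide +kernel)

theorem sat_G : Sat vG := by
  have h : (relL.all fun r => eqG (r.1.flatMap WG) (r.2.flatMap WG)) = true := by
    rw [← List.take_append_drop 120 relL, List.all_append, sat_G_sp0, Bool.true_and,
      ← List.take_append_drop 130 (relL.drop 120), List.all_append, sat_G_sp1, Bool.true_and, sat_G_sp2]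
  intro r hr
  rw [ev_vG, ev_vG]
  exact GW_eq (List.all_eq_true.1 h r hr)

theorem vG_zero_ne : vG 0 ≠ 1 := by
  intro h
  have h1 : sig (vG 0) = 1 := by rw [h, map_one]
  rw [vG, sig_GW] at h1
  exact wd_ne (l := WG 0) (l' := []) 1 (by norm_num) (by decide +kernel) h1

end Cfsg.Agent.H6.M11

private theorem dce_dfaa66eba5cc : _root_.True := by
  try have : _root_.True := by simp only [_root_.Cfsg.Agent.H6.M11.vG.eq_1]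
  try have : _root_.True := by simp only [_root_.Cfsg.Agent.H6.M11.GW.eq_1]
  exact _root_.True.intro
end

-- part: H6/M11/StageCover
section
set_option linter.all false
open scoped Cfsg.Agent.FastGrp
private noncomputable def lq26044ec823 {T : Sort _} (f :
    type_of% (@_root_.List.cons.{0}) →
    type_of% (@_root_.List.nil.{0}) →
    type_of% (@_root_.Prod.mk.{0, 0}) →
    type_of% (@_root_.List.cons.{0} (Prod (List Nat) (Prod Nat (Prod (List Nat) (List Nat))))) →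
    type_of% (@_root_.Bool.false) →
    type_of% (@_root_.Bool.true) →
    type_of% (@_root_.Cfsg.Agent.H6.M11.vG) → T) : T :=
  f (@_root_.List.cons.{0}) (@_root_.List.nil.{0}) (@_root_.Prod.mk.{0, 0}) (@_root_.List.cons.{0} (Prod (List Nat) (Prod Nat (Prod (List Nat) (List Nat))))) (@_root_.Bool.false) (@_root_.Bool.true) (@_root_.Cfsg.Agent.H6.M11.vG)

-- part: H6/M11/GamTypes
section
/-!
# Types of the elements of the double cover of the Mathieu group of degree 12 (helper6)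

Generated lists: `(w, t, c, c')`, `w` a word, `t` the type, `c, c'` conjugating words.
Types: 0 : `g ~ -g`; 1 : `g^6 = 1, g ~ g⁻¹`; 2 : `g^8 = 1, g ~ g³, g⁻¹ ~ -g`; 3 : `g^10 = 1, g ~ g³`; 4 : `g ~ ± g20`.
-/

set_option autoImplicit false
set_option maxRecDepth 100000

namespace Cfsg.Agent.H6.M11

open Cfsg Cfsg.Agent.CoThreeStd.MTwelve Cfsg.Agent.H932.Mt

/-- the centralizer of `p r` -/
def LV : List (List ℕ × ℕ × List ℕ × List ℕ) := (beta% delta% lq26044ec823 fun a c d e _ _ _ =>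
 (let f:=(let f:=(let f:=(let f:=(let f:=(e (d (a 4<|a 0<|a 5<|a 4<|a 1<|a 2<|a 1<|a 5<|a 4<|a 3<|c)<|d 2<|d (a 4<|a 5<|a 4<|a 1<|a 2<|a 1<|a 5<|a 4<|c) (a 1<|a 0<|c))<|e (d (a 5<|a 1<|a 5<|a 2<|a 1<|a 0<|a 5<|a 4<|a 2<|c)<|d 1<|d (a 0<|a 5<|a 4<|a 2<|a 5<|a 0<|c) c)<|
 e (d (a 4<|a 5<|a 3<|a 1<|a 0<|a 5<|a 4<|a 1<|a 2<|a 1<|c)<|d 1<|d c c)<|e (d (a 1<|a 2<|a 3<|a 1<|a 2<|a 1<|a 0<|c)<|d 0<|d (a 2<|c) c)<|
 e (d (a 3<|a 1<|a 0<|c)<|d 0<|d (a 1<|c) c)<|e (d (a 4<|a 5<|a 3<|a 1<|a 0<|a 5<|a 4<|a 2<|a 3<|a 2<|c)<|d 1<|d c c)<|c);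
 (e (d (a 1<|a 5<|a 4<|a 2<|a 5<|c)<|d 2<|d (a 0<|a 5<|a 4<|a 2<|a 5<|a 0<|c) (a 1<|c))<|e (d (a 4<|a 2<|a 0<|a 5<|a 3<|a 2<|a 5<|a 1<|a 5<|c)<|d 1<|d (a 5<|a 4<|a 2<|a 5<|c) c)<|
 e (d (a 4<|a 5<|a 0<|a 5<|a 2<|a 1<|a 5<|a 0<|a 5<|a 1<|c)<|d 1<|d (a 5<|a 4<|a 2<|a 5<|c) c)<|e (d (a 5<|a 4<|a 2<|a 5<|a 0<|c)<|d 2<|d (a 1<|a 2<|a 3<|a 1<|a 2<|c) (a 0<|c))<|
 e (d (a 1<|a 2<|a 5<|a 4<|a 3<|a 1<|a 2<|a 0<|a 5<|c)<|d 1<|d (a 1<|a 5<|a 4<|a 2<|a 5<|a 1<|c) c)<|e (d (a 3<|a 4<|a 5<|a 4<|a 1<|a 2<|a 1<|a 5<|a 4<|a 1<|a 0<|c)<|d 2<|d (a 1<|a 2<|a 3<|a 1<|a 2<|a 0<|c) (a 0<|c))<|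
 f));
 (let f:=(e (d (a 3<|a 4<|a 0<|a 5<|a 4<|a 1<|a 2<|a 1<|a 5<|a 4<|c)<|d 2<|d (a 3<|a 4<|a 5<|a 4<|a 1<|a 2<|a 1<|a 5<|a 4<|a 1<|c) (a 1<|a 0<|c))<|e (d (a 5<|a 1<|a 5<|a 2<|a 3<|a 5<|a 4<|a 2<|a 1<|c)<|d 1<|d (a 0<|a 5<|a 4<|a 2<|a 5<|a 0<|c) c)<|
 e (d (a 3<|a 0<|a 5<|a 4<|a 2<|a 5<|a 1<|c)<|d 2<|d (a 5<|a 4<|a 2<|a 5<|c) (a 0<|c))<|e (d (a 5<|a 2<|a 3<|a 4<|a 1<|a 0<|a 5<|a 2<|c)<|d 1<|d (a 1<|a 5<|a 4<|a 1<|a 5<|a 1<|c) c)<|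
 e (d (a 5<|a 2<|a 3<|a 4<|a 1<|a 0<|a 5<|a 3<|a 1<|a 2<|c)<|d 1<|d (a 1<|a 0<|a 5<|a 4<|a 2<|a 5<|a 1<|a 0<|c) c)<|e (d (a 0<|a 5<|a 4<|a 2<|a 5<|a 1<|a 0<|c)<|d 2<|d (a 5<|a 4<|a 2<|a 5<|c) (a 1<|c))<|
 f);
 (e (d (a 2<|a 5<|a 3<|a 4<|a 3<|a 1<|a 0<|a 5<|c)<|d 0<|d (a 2<|a 0<|c) c)<|e (d (a 5<|a 4<|a 0<|a 5<|a 1<|a 0<|a 5<|a 4<|a 0<|a 5<|a 1<|c)<|d 0<|d (a 1<|a 0<|c) c)<|
 e (d (a 4<|a 2<|a 5<|a 3<|a 1<|a 0<|a 5<|a 4<|a 2<|a 1<|a 0<|c)<|d 0<|d (a 1<|c) c)<|e (d (a 5<|a 3<|a 4<|a 3<|a 1<|a 0<|a 5<|a 2<|a 3<|a 1<|c)<|d 0<|d (a 2<|c) c)<|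
 e (d (a 2<|a 5<|a 3<|a 4<|a 5<|a 4<|a 2<|a 5<|a 4<|a 2<|c)<|d 1<|d (a 1<|a 5<|a 4<|a 2<|a 5<|a 1<|c) c)<|e (d (a 4<|a 5<|a 4<|a 1<|a 2<|a 1<|a 5<|a 4<|a 0<|c)<|d 2<|d (a 1<|a 2<|a 3<|a 1<|a 2<|a 0<|c) (a 0<|c))<|
 f)));
 (let f:=(let f:=(e (d (a 4<|a 5<|a 2<|a 1<|a 5<|a 0<|a 5<|a 1<|a 5<|c)<|d 1<|d (a 1<|a 5<|a 4<|a 2<|a 5<|a 1<|c) c)<|e (d (a 0<|a 5<|a 4<|a 2<|a 5<|a 0<|c)<|d 1<|d c c)<|
 e (d (a 1<|a 2<|a 3<|a 1<|a 2<|a 1<|c)<|d 1<|d c c)<|e (d (a 3<|a 2<|a 5<|a 3<|a 4<|a 3<|a 1<|a 0<|a 5<|a 1<|c)<|d 0<|d (a 1<|a 2<|a 1<|c) c)<|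
 e (d (a 3<|a 5<|a 3<|a 4<|a 3<|a 1<|a 0<|a 5<|a 2<|a 1<|c)<|d 0<|d (a 1<|a 2<|a 1<|c) c)<|e (d (a 3<|a 1<|c)<|d 1<|d c c)<|
 f);
 (e (d (a 2<|a 5<|a 4<|a 3<|a 1<|a 2<|a 0<|a 5<|a 0<|c)<|d 1<|d (a 0<|a 5<|a 4<|a 2<|a 5<|a 0<|c) c)<|e (d (a 4<|a 5<|a 3<|a 1<|a 2<|a 5<|a 0<|a 5<|a 1<|a 2<|a 3<|c)<|d 1<|d c c)<|
 e (d (a 4<|a 5<|a 4<|a 1<|a 2<|a 1<|a 5<|a 4<|a 3<|c)<|d 0<|d (a 1<|a 2<|a 3<|a 1<|a 2<|c) c)<|e (d (a 5<|a 1<|a 5<|a 0<|a 5<|a 1<|a 2<|a 5<|a 4<|c)<|d 1<|d (a 1<|a 5<|a 4<|a 2<|a 5<|a 1<|c) c)<|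
 e (d (a 1<|a 0<|a 5<|a 4<|a 2<|a 5<|c)<|d 0<|d (a 5<|a 2<|a 0<|a 5<|c) c)<|e (d (a 4<|a 2<|a 5<|a 3<|a 2<|a 5<|a 1<|a 5<|c)<|d 1<|d (a 1<|a 5<|a 4<|a 2<|a 5<|a 1<|c) c)<|
 f));
 (let f:=(e (d (a 2<|a 3<|a 4<|a 1<|a 5<|a 3<|a 2<|a 5<|a 1<|a 5<|c)<|d 1<|d (a 0<|a 5<|a 4<|a 2<|a 5<|a 0<|c) c)<|e (d (a 5<|a 4<|a 2<|a 5<|a 1<|a 0<|c)<|d 0<|d (a 5<|a 2<|a 0<|a 5<|c) c)<|
 e (d (a 5<|a 1<|a 5<|a 2<|a 3<|a 5<|a 4<|a 3<|a 1<|a 2<|c)<|d 1<|d (a 0<|a 5<|a 4<|a 2<|a 5<|a 0<|c) c)<|e (d (a 4<|a 0<|a 5<|a 4<|a 1<|a 2<|a 1<|a 5<|a 4<|a 0<|c)<|d 1<|d c c)<|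
 e (d (a 3<|a 4<|a 5<|a 4<|a 1<|a 2<|a 1<|a 5<|a 4<|c)<|d 0<|d (a 1<|a 2<|a 3<|a 1<|a 2<|c) c)<|e (d (a 5<|a 1<|a 5<|a 2<|a 3<|a 5<|a 4<|a 2<|c)<|d 1<|d (a 1<|a 5<|a 4<|a 2<|a 5<|a 1<|c) c)<|
 f);
 (e (d (a 5<|a 2<|a 0<|a 5<|a 3<|a 1<|a 5<|a 2<|a 0<|a 5<|c)<|d 1<|d c c)<|e (d (a 5<|a 3<|a 4<|a 3<|a 1<|a 0<|a 5<|a 2<|a 0<|c)<|d 1<|d c c)<|
 e (d (a 3<|a 4<|a 5<|a 3<|a 1<|a 0<|a 5<|a 4<|a 3<|a 2<|c)<|d 1<|d c c)<|e (d (a 5<|a 4<|a 2<|a 5<|a 0<|a 5<|a 4<|a 2<|a 5<|a 1<|c)<|d 1<|d c c)<|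
 e (d (a 3<|a 5<|a 4<|a 2<|a 5<|a 1<|c)<|d 1<|d c c)<|e (d (a 0<|a 5<|a 2<|a 3<|a 4<|a 1<|a 0<|a 5<|a 2<|c)<|d 1<|d (a 0<|a 5<|a 4<|a 2<|a 5<|a 0<|c) c)<|
 f))));
 (let f:=(let f:=(let f:=(e (d (a 1<|a 0<|a 5<|a 4<|a 2<|a 5<|a 0<|c)<|d 2<|d (a 5<|a 4<|a 2<|a 5<|c) (a 1<|c))<|e (d (a 4<|a 5<|a 0<|a 5<|a 2<|a 1<|a 5<|a 0<|a 5<|c)<|d 1<|d (a 0<|a 5<|a 4<|a 2<|a 5<|a 0<|c) c)<|
 e (d (a 4<|a 0<|a 5<|a 4<|a 1<|a 2<|a 1<|a 5<|a 4<|a 3<|a 0<|c)<|d 0<|d (a 1<|a 2<|a 3<|a 1<|a 2<|c) c)<|e (d (a 2<|a 5<|a 4<|a 3<|a 1<|a 2<|a 0<|a 5<|a 3<|c)<|d 1<|d (a 5<|a 4<|a 2<|a 5<|c) c)<|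
 e (d (a 5<|a 1<|a 5<|a 2<|a 1<|a 0<|a 5<|a 4<|a 2<|a 0<|c)<|d 1<|d (a 1<|a 0<|a 5<|a 4<|a 2<|a 5<|a 1<|a 0<|c) c)<|e (d (a 3<|a 4<|a 5<|a 4<|a 1<|a 2<|a 1<|a 5<|a 4<|a 1<|c)<|d 1<|d c c)<|
 f);
 (e (d (a 2<|a 3<|a 1<|a 2<|a 1<|c)<|d 0<|d (a 0<|c) c)<|e (d (a 2<|a 5<|a 3<|a 4<|a 3<|a 1<|a 0<|a 5<|a 3<|c)<|d 2<|d (a 1<|a 2<|a 3<|a 1<|a 2<|a 0<|c) (a 1<|a 0<|c))<|
 e (d (a 3<|c)<|d 0<|d (a 0<|c) c)<|e (d (a 5<|a 3<|a 4<|a 3<|a 1<|a 0<|a 5<|a 2<|a 3<|c)<|d 2<|d (a 1<|a 2<|a 3<|a 1<|a 2<|a 0<|c) (a 1<|a 0<|c))<|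
 e (d (a 4<|a 2<|a 5<|a 3<|a 2<|a 5<|a 1<|a 5<|a 0<|c)<|d 1<|d (a 0<|a 5<|a 4<|a 2<|a 5<|a 0<|c) c)<|e (d (a 0<|a 5<|a 4<|a 2<|a 5<|c)<|d 2<|d (a 1<|a 2<|a 3<|a 1<|a 2<|c) (a 0<|c))<|
 f));
 (let f:=(e (d (a 1<|a 5<|a 1<|a 5<|a 2<|a 3<|a 5<|a 4<|a 2<|c)<|d 1<|d (a 2<|a 5<|a 3<|a 1<|a 5<|a 2<|c) c)<|e (d (a 4<|a 5<|a 4<|a 1<|a 2<|a 1<|a 5<|a 4<|a 3<|a 1<|c)<|d 1<|d c c)<|
 e (d (a 5<|a 4<|a 0<|a 5<|a 1<|a 0<|a 5<|a 4<|a 0<|a 5<|a 0<|c)<|d 0<|d (a 1<|a 0<|c) c)<|e (d (a 1<|a 5<|a 3<|a 4<|a 3<|a 1<|a 0<|a 5<|a 2<|a 0<|c)<|d 2<|d (a 1<|a 2<|a 3<|a 1<|a 2<|c) (a 1<|c))<|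
 e (d (a 5<|a 4<|a 2<|a 5<|a 0<|a 5<|a 4<|a 2<|a 5<|c)<|d 0<|d (a 2<|a 3<|a 1<|a 2<|a 0<|c) c)<|e (d (a 3<|a 2<|a 5<|a 3<|a 4<|a 3<|a 1<|a 0<|a 5<|a 0<|c)<|d 2<|d (a 1<|a 2<|a 3<|a 1<|a 2<|c) (a 1<|c))<|
 f);
 (e (d (a 5<|a 2<|a 3<|a 4<|a 1<|a 0<|a 5<|a 2<|a 3<|c)<|d 1<|d (a 1<|a 5<|a 4<|a 2<|a 5<|a 1<|c) c)<|e (d (a 5<|a 4<|a 2<|a 5<|a 3<|c)<|d 2<|d (a 0<|a 5<|a 4<|a 2<|a 5<|a 0<|c) (a 1<|c))<|
 e (d (a 1<|a 5<|a 4<|a 2<|a 5<|a 1<|a 0<|c)<|d 2<|d (a 5<|a 4<|a 2<|a 5<|c) (a 0<|c))<|e (d (a 2<|a 3<|a 5<|a 4<|a 5<|a 4<|a 2<|a 3<|a 1<|a 5<|c)<|d 1<|d (a 1<|a 5<|a 4<|a 2<|a 5<|a 1<|c) c)<|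
 e (d (a 4<|a 5<|a 3<|a 1<|a 2<|a 5<|a 0<|a 5<|a 1<|a 2<|c)<|d 0<|d (a 1<|a 2<|a 3<|a 1<|a 2<|c) c)<|e (d (a 4<|a 5<|a 4<|a 0<|a 5<|a 1<|a 2<|a 3<|a 5<|a 4<|c)<|d 1<|d (a 5<|a 4<|a 2<|a 5<|c) c)<|
 f)));
 (let f:=(let f:=(e (d (a 5<|a 1<|a 5<|a 0<|a 5<|a 1<|a 2<|a 5<|a 4<|a 0<|c)<|d 1<|d (a 5<|a 4<|a 2<|a 5<|c) c)<|e (d (a 3<|a 4<|a 0<|a 5<|a 4<|a 1<|a 2<|a 1<|a 5<|a 4<|a 1<|c)<|d 2<|d (a 1<|a 2<|a 3<|a 1<|a 2<|a 0<|c) (a 0<|c))<|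
 e (d (a 4<|a 2<|a 5<|a 3<|a 2<|a 5<|a 1<|a 5<|a 3<|c)<|d 1<|d (a 1<|a 0<|a 5<|a 4<|a 2<|a 5<|a 1<|a 0<|c) c)<|e (d (a 5<|a 4<|a 2<|a 5<|c)<|d 1<|d c c)<|
 e (d (a 1<|a 5<|a 4<|a 2<|a 5<|a 0<|c)<|d 0<|d (a 0<|a 5<|a 2<|a 0<|a 5<|a 0<|c) c)<|e (d (a 4<|a 5<|a 2<|a 1<|a 5<|a 0<|a 5<|a 1<|a 5<|a 1<|c)<|d 1<|d (a 1<|a 0<|a 5<|a 4<|a 2<|a 5<|a 1<|a 0<|c) c)<|
 f);
 (e (d (a 4<|a 2<|a 1<|a 5<|a 3<|a 1<|a 0<|a 5<|a 4<|c)<|d 2<|d (a 1<|a 2<|a 3<|a 1<|a 2<|c) (a 1<|c))<|e (d (a 2<|a 3<|a 1<|a 2<|a 1<|a 0<|c)<|d 0<|d (a 0<|c) c)<|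
 e (d (a 2<|a 5<|a 3<|a 4<|a 3<|a 1<|a 0<|a 5<|a 3<|a 0<|c)<|d 2<|d (a 1<|a 2<|a 3<|a 1<|a 2<|c) (a 1<|c))<|e (d (a 3<|a 0<|c)<|d 0<|d (a 0<|c) c)<|
 e (d (a 4<|a 5<|a 4<|a 1<|a 2<|a 1<|a 5<|a 4<|a 3<|a 0<|c)<|d 2<|d (a 3<|a 4<|a 5<|a 4<|a 1<|a 2<|a 1<|a 5<|a 4<|a 1<|c) (a 1<|a 0<|c))<|e (d (a 2<|a 5<|a 4<|a 3<|a 1<|a 2<|a 0<|a 5<|c)<|d 1<|d (a 1<|a 5<|a 4<|a 1<|a 5<|a 1<|c) c)<|
 f));
 (let f:=(e (d (a 1<|a 0<|a 5<|a 4<|a 2<|a 5<|a 1<|a 0<|c)<|d 1<|d c c)<|e (d (a 4<|a 5<|a 3<|a 2<|a 1<|a 5<|a 4<|a 0<|a 5<|a 4<|c)<|d 1<|d (a 5<|a 4<|a 2<|a 5<|c) c)<|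
 e (d (a 1<|a 2<|a 5<|a 3<|a 4<|a 3<|a 1<|a 0<|a 5<|c)<|d 2<|d (a 1<|a 2<|a 3<|a 1<|a 2<|a 0<|c) (a 1<|a 0<|c))<|e (d (a 5<|a 2<|a 0<|a 5<|a 3<|a 0<|a 5<|a 2<|a 0<|a 5<|c)<|d 0<|d (a 5<|a 1<|a 5<|c) c)<|
 e (d (a 3<|a 5<|a 3<|a 4<|a 3<|a 1<|a 0<|a 5<|a 2<|c)<|d 2<|d (a 1<|a 2<|a 3<|a 1<|a 2<|a 0<|c) (a 1<|a 0<|c))<|e (d (a 4<|a 2<|a 5<|a 3<|a 1<|a 0<|a 5<|a 4<|a 2<|a 0<|c)<|d 0<|d (a 1<|c) c)<|
 f);
 (e (d (a 4<|a 1<|a 5<|a 4<|a 1<|a 2<|a 1<|a 5<|a 4<|a 0<|c)<|d 2<|d (a 4<|a 5<|a 4<|a 1<|a 2<|a 1<|a 5<|a 4<|c) (a 1<|a 0<|c))<|e (d (a 2<|a 3<|a 5<|a 4<|a 2<|a 3<|a 1<|a 5<|a 1<|a 5<|c)<|d 1<|d (a 5<|a 2<|a 3<|a 1<|a 2<|a 5<|c) c)<|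
 e (d (a 1<|a 5<|a 1<|a 5<|a 2<|a 3<|a 5<|a 4<|a 2<|a 1<|c)<|d 1<|d (a 5<|a 4<|a 2<|a 5<|c) c)<|e (d (a 5<|a 2<|a 3<|a 4<|a 2<|a 0<|a 5<|a 4<|a 1<|a 5<|c)<|d 2<|d (a 1<|a 2<|a 3<|a 1<|a 2<|a 0<|c) (a 0<|c))<|
 e (d (a 1<|a 5<|a 2<|a 3<|a 4<|a 1<|a 0<|a 5<|a 2<|c)<|d 1<|d (a 5<|a 4<|a 2<|a 5<|c) c)<|e (d (a 0<|a 5<|a 4<|a 2<|a 5<|a 3<|c)<|d 0<|d (a 0<|a 5<|a 2<|a 0<|a 5<|a 3<|c) c)<|
 f)))));
 (let f:=(let f:=(let f:=(let f:=(e (d (a 2<|a 3<|a 1<|a 5<|a 4<|a 3<|a 1<|a 2<|a 0<|a 5<|c)<|d 1<|d (a 1<|a 0<|a 5<|a 4<|a 2<|a 5<|a 1<|a 0<|c) c)<|e (d (a 3<|a 4<|a 5<|a 4<|a 1<|a 2<|a 1<|a 5<|a 4<|a 0<|c)<|d 2<|d (a 4<|a 5<|a 4<|a 1<|a 2<|a 1<|a 5<|a 4<|c) (a 1<|a 0<|c))<|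
 e (d (a 2<|a 1<|a 5<|a 4<|a 1<|a 5<|a 4<|a 2<|a 3<|a 5<|c)<|d 1<|d (a 5<|a 4<|a 2<|a 5<|c) c)<|e (d (a 3<|a 0<|a 5<|a 4<|a 2<|a 5<|a 1<|a 0<|c)<|d 1<|d c c)<|
 e (d (a 0<|a 5<|a 4<|a 2<|a 5<|a 1<|c)<|d 0<|d (a 0<|a 5<|a 2<|a 0<|a 5<|a 0<|c) c)<|e (d (a 5<|a 2<|a 3<|a 4<|a 1<|a 0<|a 5<|a 2<|a 0<|c)<|d 1<|d (a 5<|a 4<|a 2<|a 5<|c) c)<|
 f);
 (e (d (a 1<|a 5<|a 3<|a 4<|a 3<|a 1<|a 0<|a 5<|a 2<|c)<|d 2<|d (a 1<|a 2<|a 3<|a 1<|a 2<|a 0<|c) (a 1<|a 0<|c))<|e (d (a 5<|a 4<|a 2<|a 5<|a 0<|a 5<|a 4<|a 2<|a 5<|a 0<|c)<|d 0<|d (a 1<|c) c)<|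
 e (d (a 3<|a 2<|a 5<|a 3<|a 4<|a 3<|a 1<|a 0<|a 5<|c)<|d 2<|d (a 1<|a 2<|a 3<|a 1<|a 2<|a 0<|c) (a 1<|a 0<|c))<|e (d (a 5<|a 4<|a 0<|a 5<|a 1<|a 0<|a 5<|a 4<|a 0<|a 5<|c)<|d 0<|d (a 5<|a 2<|a 0<|a 5<|c) c)<|
 e (d (a 4<|a 0<|a 5<|a 4<|a 1<|a 2<|a 1<|a 5<|a 4<|c)<|d 2<|d (a 1<|a 2<|a 3<|a 1<|a 2<|a 0<|c) (a 0<|c))<|e (d (a 5<|a 1<|a 5<|a 2<|a 3<|a 5<|a 4<|a 2<|a 0<|c)<|d 1<|d (a 5<|a 4<|a 2<|a 5<|c) c)<|
 f));
 (let f:=(e (d (a 5<|a 4<|a 2<|a 5<|a 3<|a 1<|c)<|d 1<|d c c)<|e (d (a 4<|a 2<|a 5<|a 3<|a 2<|a 5<|a 1<|a 5<|a 1<|c)<|d 1<|d (a 2<|a 5<|a 3<|a 1<|a 5<|a 2<|c) c)<|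
 e (d (a 2<|a 3<|a 4<|a 5<|a 3<|a 1<|a 0<|a 5<|a 4<|c)<|d 2<|d (a 1<|a 2<|a 3<|a 1<|a 2<|c) (a 1<|c))<|e (d (a 1<|a 0<|c)<|d 0<|d (a 0<|c) c)<|
 e (d (a 5<|a 3<|a 4<|a 3<|a 1<|a 0<|a 5<|a 2<|a 1<|a 0<|c)<|d 2<|d (a 1<|a 2<|a 3<|a 1<|a 2<|c) (a 1<|c))<|e (d (a 1<|a 2<|a 3<|a 1<|a 2<|a 0<|c)<|d 0<|d (a 0<|c) c)<|
 f);
 (e (d (a 4<|a 5<|a 3<|a 1<|a 5<|a 1<|a 5<|a 1<|a 0<|a 5<|c)<|d 2<|d (a 1<|a 2<|a 3<|a 1<|a 2<|a 0<|c) (a 0<|c))<|e (d (a 3<|a 5<|a 1<|a 5<|a 2<|a 1<|a 0<|a 5<|a 4<|a 2<|c)<|d 1<|d (a 5<|a 4<|a 2<|a 5<|c) c)<|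
 e (d (a 5<|a 1<|a 2<|a 5<|a 4<|a 3<|a 5<|a 1<|a 5<|c)<|d 1<|d (a 1<|a 0<|a 5<|a 4<|a 2<|a 5<|a 1<|a 0<|c) c)<|e (d (a 4<|a 5<|a 4<|a 1<|a 2<|a 1<|a 5<|a 4<|a 1<|a 0<|c)<|d 2<|d (a 3<|a 4<|a 5<|a 4<|a 1<|a 2<|a 1<|a 5<|a 4<|a 1<|c) (a 1<|a 0<|c))<|
 e (d (a 4<|a 5<|a 2<|a 1<|a 5<|a 0<|a 5<|a 1<|a 5<|a 3<|c)<|d 1<|d (a 1<|a 0<|a 5<|a 4<|a 2<|a 5<|a 1<|a 0<|c) c)<|e (d (a 3<|a 5<|a 4<|a 2<|a 5<|a 0<|c)<|d 0<|d (a 0<|a 5<|a 2<|a 0<|a 5<|a 3<|c) c)<|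
 f)));
 (let f:=(let f:=(e (d (a 5<|a 4<|a 2<|a 5<|a 1<|c)<|d 2<|d (a 0<|a 5<|a 4<|a 2<|a 5<|a 0<|c) (a 1<|c))<|e (d (a 5<|a 2<|a 3<|a 4<|a 1<|a 0<|a 5<|a 2<|a 1<|c)<|d 1<|d (a 1<|a 5<|a 4<|a 2<|a 5<|a 1<|c) c)<|
 e (d (a 4<|a 5<|a 4<|a 1<|a 2<|a 1<|a 5<|a 4<|c)<|d 1<|d c c)<|e (d (a 3<|a 5<|a 1<|a 5<|a 2<|a 3<|a 5<|a 4<|a 2<|c)<|d 1<|d (a 1<|a 0<|a 5<|a 4<|a 2<|a 5<|a 1<|a 0<|c) c)<|
 e (d (a 5<|a 3<|a 4<|a 2<|a 5<|a 4<|a 1<|a 5<|a 1<|a 2<|c)<|d 1<|d (a 5<|a 4<|a 2<|a 5<|c) c)<|e (d (a 3<|a 4<|a 0<|a 5<|a 4<|a 1<|a 2<|a 1<|a 5<|a 4<|a 0<|c)<|d 0<|d (a 1<|a 2<|a 3<|a 1<|a 2<|c) c)<|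
 f);
 (e (d (a 4<|a 2<|a 5<|a 3<|a 1<|a 0<|a 5<|a 4<|a 2<|c)<|d 0<|d (a 2<|a 3<|a 1<|a 2<|a 0<|c) c)<|e (d (a 4<|a 5<|a 3<|a 1<|a 0<|a 5<|a 4<|a 3<|a 2<|c)<|d 2<|d (a 1<|a 2<|a 3<|a 1<|a 2<|c) (a 1<|c))<|
 e (d (a 5<|a 2<|a 0<|a 5<|a 3<|a 0<|a 5<|a 2<|a 0<|a 5<|a 0<|c)<|d 0<|d (a 1<|a 0<|c) c)<|e (d (a 4<|a 5<|a 3<|a 1<|a 0<|a 5<|a 4<|a 1<|a 2<|c)<|d 2<|d (a 1<|a 2<|a 3<|a 1<|a 2<|c) (a 1<|c))<|
 e (d (a 4<|a 5<|a 2<|a 3<|a 5<|a 4<|a 5<|a 4<|a 3<|a 2<|c)<|d 1<|d (a 1<|a 5<|a 4<|a 2<|a 5<|a 1<|c) c)<|e (d (a 3<|a 5<|a 4<|a 2<|a 5<|a 1<|a 0<|c)<|d 2<|d (a 5<|a 4<|a 2<|a 5<|c) (a 0<|c))<|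
 f));
 (let f:=(e (d (a 2<|a 5<|a 4<|a 3<|a 1<|a 2<|a 0<|a 5<|a 1<|c)<|d 1<|d (a 5<|a 4<|a 2<|a 5<|c) c)<|e (d (a 2<|a 1<|a 5<|a 0<|a 5<|a 2<|a 3<|a 1<|a 5<|a 4<|c)<|d 0<|d (a 1<|a 2<|a 3<|a 1<|a 2<|c) c)<|
 e (d (a 1<|c)<|d 0<|d (a 0<|c) c)<|e (d (a 5<|a 3<|a 4<|a 3<|a 1<|a 0<|a 5<|a 2<|a 1<|c)<|d 2<|d (a 1<|a 2<|a 3<|a 1<|a 2<|a 0<|c) (a 1<|a 0<|c))<|
 e (d (a 1<|a 2<|a 3<|a 1<|a 2<|c)<|d 0<|d (a 0<|c) c)<|e (d (a 2<|a 5<|a 3<|a 4<|a 3<|a 1<|a 0<|a 5<|a 1<|c)<|d 2<|d (a 1<|a 2<|a 3<|a 1<|a 2<|a 0<|c) (a 1<|a 0<|c))<|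
 f);
 (e (d (a 5<|a 2<|a 1<|a 5<|a 0<|a 5<|a 1<|a 5<|a 3<|a 4<|c)<|d 1<|d (a 0<|a 5<|a 4<|a 2<|a 5<|a 0<|c) c)<|e (d (a 3<|a 0<|a 5<|a 4<|a 2<|a 5<|a 0<|c)<|d 2<|d (a 5<|a 4<|a 2<|a 5<|c) (a 1<|c))<|
 e (d (a 0<|a 5<|a 4<|a 2<|a 5<|a 3<|a 1<|c)<|d 2<|d (a 1<|a 2<|a 3<|a 1<|a 2<|c) (a 0<|c))<|e (d (a 3<|a 4<|a 2<|a 5<|a 3<|a 2<|a 5<|a 1<|a 5<|c)<|d 1<|d (a 0<|a 5<|a 4<|a 2<|a 5<|a 0<|c) c)<|
 e (d (a 4<|a 1<|a 5<|a 4<|a 1<|a 2<|a 1<|a 5<|a 4<|a 1<|c)<|d 1<|d c c)<|e (d (a 3<|a 5<|a 1<|a 5<|a 0<|a 5<|a 1<|a 2<|a 5<|a 4<|c)<|d 1<|d (a 1<|a 0<|a 5<|a 4<|a 2<|a 5<|a 1<|a 0<|c) c)<|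
 f))));
 (let f:=(let f:=(let f:=(e (d (a 5<|a 4<|a 1<|a 5<|a 4<|a 2<|a 3<|a 2<|a 0<|a 5<|c)<|d 2<|d (a 1<|a 2<|a 3<|a 1<|a 2<|a 0<|c) (a 0<|c))<|e (d (a 5<|a 3<|a 4<|a 1<|a 2<|a 5<|a 4<|a 5<|a 3<|a 2<|c)<|d 1<|d (a 1<|a 5<|a 4<|a 2<|a 5<|a 1<|c) c)<|
 e (d (a 5<|a 3<|a 4<|a 3<|a 1<|a 0<|a 5<|a 2<|c)<|d 0<|d (a 2<|a 0<|c) c)<|e (d (a 5<|a 4<|a 2<|a 5<|a 0<|a 5<|a 4<|a 2<|a 5<|a 1<|a 0<|c)<|d 0<|d (a 1<|c) c)<|
 e (d (a 5<|a 2<|a 0<|a 5<|a 3<|a 1<|a 5<|a 2<|a 0<|a 5<|a 0<|c)<|d 0<|d (a 1<|a 0<|c) c)<|e (d (a 2<|a 5<|a 3<|a 4<|a 3<|a 1<|a 0<|a 5<|a 3<|a 1<|c)<|d 0<|d (a 2<|c) c)<|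
 f);
 (e (d (a 0<|a 5<|a 4<|a 2<|a 5<|a 3<|a 0<|c)<|d 2<|d (a 5<|a 4<|a 2<|a 5<|c) (a 1<|c))<|e (d (a 5<|a 1<|a 5<|a 3<|a 4<|a 1<|a 2<|a 5<|a 3<|a 2<|c)<|d 1<|d (a 5<|a 2<|a 3<|a 1<|a 2<|a 5<|c) c)<|
 e (d (a 5<|a 1<|a 5<|a 3<|a 4<|a 5<|a 2<|a 1<|a 5<|c)<|d 1<|d (a 1<|a 0<|a 5<|a 4<|a 2<|a 5<|a 1<|a 0<|c) c)<|e (d (a 1<|a 0<|a 5<|a 4<|a 2<|a 5<|a 1<|c)<|d 2<|d (a 5<|a 4<|a 2<|a 5<|c) (a 0<|c))<|
 e (d (a 5<|a 1<|a 5<|a 2<|a 3<|a 5<|a 4<|a 2<|a 3<|c)<|d 1<|d (a 0<|a 5<|a 4<|a 2<|a 5<|a 0<|c) c)<|e (d (a 5<|a 4<|a 5<|a 1<|a 2<|a 5<|a 0<|a 5<|a 4<|a 2<|c)<|d 2<|d (a 3<|a 4<|a 5<|a 4<|a 1<|a 2<|a 1<|a 5<|a 4<|a 1<|c) (a 1<|a 0<|c))<|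
 f));
 (let f:=(e (d (a 5<|a 0<|a 5<|a 1<|a 5<|a 3<|a 1<|a 5<|a 3<|a 4<|c)<|d 2<|d (a 1<|a 2<|a 3<|a 1<|a 2<|a 0<|c) (a 0<|c))<|e (d (a 3<|a 2<|a 5<|a 4<|a 3<|a 1<|a 2<|a 0<|a 5<|c)<|d 1<|d (a 1<|a 5<|a 4<|a 2<|a 5<|a 1<|c) c)<|
 e (d (a 5<|a 4<|a 2<|a 5<|a 3<|a 1<|a 0<|c)<|d 2<|d (a 1<|a 2<|a 3<|a 1<|a 2<|c) (a 0<|c))<|e (d (a 4<|a 5<|a 0<|a 5<|a 2<|a 1<|a 5<|a 0<|a 5<|a 3<|c)<|d 1<|d (a 5<|a 4<|a 2<|a 5<|c) c)<|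
 e (d (a 4<|a 2<|a 5<|a 3<|a 2<|a 5<|a 1<|a 5<|a 1<|a 0<|c)<|d 1<|d (a 5<|a 4<|a 2<|a 5<|c) c)<|e (d (a 3<|a 5<|a 4<|a 2<|a 5<|c)<|d 2<|d (a 0<|a 5<|a 4<|a 2<|a 5<|a 0<|c) (a 1<|c))<|
 f);
 (e (d (a 4<|a 5<|a 3<|a 1<|a 0<|a 5<|a 4<|a 3<|a 2<|a 1<|c)<|d 1<|d c c)<|e (d (a 0<|c)<|d 0<|d (a 1<|c) c)<|
 e (d (a 2<|a 3<|a 1<|a 2<|a 0<|c)<|d 0<|d (a 1<|a 2<|a 1<|c) c)<|e (d (a 4<|a 5<|a 3<|a 1<|a 0<|a 5<|a 4<|a 1<|a 2<|a 3<|c)<|d 1<|d c c)<|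
 e (d (a 5<|a 1<|a 5<|a 0<|a 5<|a 1<|a 2<|a 5<|a 4<|a 3<|c)<|d 1<|d (a 0<|a 5<|a 4<|a 2<|a 5<|a 0<|c) c)<|e (d (a 4<|a 0<|a 5<|a 4<|a 1<|a 2<|a 1<|a 5<|a 4<|a 1<|c)<|d 2<|d (a 4<|a 5<|a 4<|a 1<|a 2<|a 1<|a 5<|a 4<|c) (a 1<|a 0<|c))<|
 f)));
 (let f:=(let f:=(e (d (a 5<|a 2<|a 3<|a 4<|a 1<|a 0<|a 5<|a 2<|a 3<|a 0<|c)<|d 1<|d (a 5<|a 4<|a 1<|a 5<|c) c)<|e (d (a 1<|a 5<|a 4<|a 2<|a 5<|a 1<|c)<|d 1<|d c c)<|
 e (d (a 4<|a 2<|a 5<|a 3<|a 1<|a 0<|a 5<|a 4<|a 2<|a 1<|c)<|d 1<|d c c)<|e (d (a 2<|a 5<|a 3<|a 4<|a 3<|a 1<|a 0<|a 5<|a 0<|c)<|d 1<|d c c)<|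
 e (d (a 4<|a 2<|a 1<|a 5<|a 3<|a 1<|a 0<|a 5<|a 4<|a 1<|c)<|d 1<|d c c)<|e (d (a 5<|a 4<|a 0<|a 5<|a 1<|a 0<|a 5<|a 4<|a 0<|a 5<|a 1<|a 0<|c)<|d 1<|d c c)<|
 f);
 (e (d (a 5<|a 1<|a 5<|a 2<|a 3<|a 5<|a 4<|a 2<|a 3<|a 1<|c)<|d 1<|d (a 1<|a 5<|a 4<|a 2<|a 5<|a 1<|c) c)<|e (d (a 4<|a 1<|a 5<|a 4<|a 1<|a 2<|a 1<|a 5<|a 4<|c)<|d 0<|d (a 1<|a 2<|a 3<|a 1<|a 2<|c) c)<|
 e (d (a 5<|a 1<|a 2<|a 3<|a 4<|a 5<|a 4<|a 0<|a 5<|a 2<|c)<|d 1<|d c c)<|e (d (a 4<|a 5<|a 1<|a 2<|a 0<|a 5<|a 3<|a 4<|a 5<|a 2<|c)<|d 1<|d (a 0<|a 5<|a 4<|a 2<|a 5<|a 0<|c) c)<|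
 e (d (a 5<|a 4<|a 2<|a 5<|a 3<|a 0<|c)<|d 0<|d (a 5<|a 4<|a 0<|a 5<|c) c)<|e (d (a 2<|a 5<|a 4<|a 3<|a 5<|a 2<|a 1<|a 0<|a 5<|a 4<|c)<|d 1<|d (a 0<|a 5<|a 4<|a 2<|a 5<|a 0<|c) c)<|
 f));
 (let f:=(e (d (a 3<|a 4<|a 2<|a 5<|a 3<|a 2<|a 5<|a 1<|a 5<|a 0<|c)<|d 1<|d (a 1<|a 5<|a 4<|a 2<|a 5<|a 1<|c) c)<|e (d (a 3<|a 0<|a 5<|a 4<|a 2<|a 5<|c)<|d 0<|d (a 5<|a 4<|a 0<|a 5<|c) c)<|
 e (d (a 4<|a 3<|a 5<|a 1<|a 5<|a 2<|a 1<|a 0<|a 5<|a 2<|c)<|d 1<|d (a 1<|a 5<|a 4<|a 2<|a 5<|a 1<|c) c)<|e (d (a 4<|a 5<|a 4<|a 1<|a 2<|a 1<|a 5<|a 4<|a 1<|c)<|d 0<|d (a 1<|a 2<|a 3<|a 1<|a 2<|c) c)<|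
 e (d (a 5<|a 4<|a 1<|a 5<|a 1<|a 5<|a 0<|a 5<|a 4<|a 2<|c)<|d 1<|d c c)<|e (d (a 5<|a 1<|a 2<|a 5<|a 4<|a 3<|a 5<|a 1<|a 5<|a 0<|c)<|d 1<|d (a 5<|a 4<|a 1<|a 5<|c) c)<|
 f);
 (a (d c<|d 1<|d c c)<|a (d (a 1<|a 5<|a 3<|a 4<|a 3<|a 1<|a 0<|a 5<|a 2<|a 1<|c)<|d 0<|d (a 1<|a 2<|a 1<|a 0<|c) c)<|
 a (d (a 1<|a 2<|a 5<|a 3<|a 4<|a 3<|a 1<|a 0<|a 5<|a 1<|c)<|d 0<|d (a 1<|a 2<|a 1<|a 0<|c) c)<|a (d (a 2<|a 3<|a 1<|a 2<|c)<|d 1<|d c c)<|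
 a (d (a 0<|a 5<|a 4<|a 2<|a 5<|a 3<|a 1<|a 0<|c)<|d 1<|d c c)<|a (d (a 2<|a 5<|a 2<|a 3<|a 4<|a 5<|a 1<|a 0<|a 5<|a 2<|c)<|d 1<|d (a 1<|a 5<|a 4<|a 2<|a 5<|a 1<|c) c)<|
 f)))))))

/-- the centralizer of `y` -/
def LY : List (List ℕ × ℕ × List ℕ × List ℕ) := (beta% delta% lq26044ec823 fun a c d e _ _ _ =>
 (let f:=(let f:=(let f:=(let f:=(let f:=(let f:=(e (d (a 2<|a 3<|a 2<|a 1<|a 0<|c)<|d 0<|d (a 3<|a 4<|a 3<|c) c)<|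
 e (d (a 2<|a 3<|a 4<|a 2<|a 0<|c)<|d 0<|d (a 1<|a 2<|a 1<|c) c)<|e (d (a 4<|a 1<|a 2<|a 3<|a 2<|a 0<|c)<|d 0<|d (a 0<|c) c)<|e (d (a 1<|a 2<|a 3<|a 4<|a 3<|a 2<|a 1<|a 0<|c)<|d 0<|d (a 0<|c) c)<|c);
 (e (d (a 2<|a 3<|a 4<|a 1<|a 2<|a 3<|a 1<|a 0<|c)<|d 0<|d (a 0<|c) c)<|e (d (a 4<|a 3<|a 0<|c)<|d 0<|d (a 1<|c) c)<|
 e (d (a 3<|a 4<|a 3<|a 1<|a 0<|c)<|d 0<|d (a 1<|c) c)<|e (d (a 1<|a 2<|a 3<|a 4<|a 1<|a 2<|a 3<|a 0<|c)<|d 0<|d (a 0<|c) c)<|f));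
 (e (d (a 3<|a 1<|a 2<|a 0<|c)<|d 0<|d (a 0<|c) c)<|e (d (a 2<|a 3<|a 4<|a 3<|a 1<|a 2<|a 0<|c)<|d 0<|d (a 1<|a 2<|a 1<|c) c)<|e (d (a 4<|a 2<|a 3<|a 1<|a 2<|a 1<|a 0<|c)<|d 4<|d (a 4<|a 2<|a 1<|c) c)<|
 e (d (a 1<|a 2<|a 3<|a 4<|a 2<|a 3<|a 1<|a 2<|a 0<|c)<|d 4<|d (a 2<|a 3<|a 2<|c) c)<|e (d (a 2<|a 0<|c)<|d 0<|d (a 0<|c) c)<|e (d (a 4<|a 2<|a 1<|a 0<|c)<|d 0<|d (a 0<|c) c)<|
 e (d (a 3<|a 4<|a 1<|a 2<|a 3<|a 1<|a 2<|a 1<|a 0<|c)<|d 4<|d (a 2<|a 3<|a 4<|a 2<|c) c)<|f));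
 (let f:=(let f:=(e (d (a 1<|a 2<|a 3<|a 4<|a 0<|c)<|d 4<|d c c)<|
 e (d (a 1<|a 2<|a 3<|a 1<|a 0<|c)<|d 0<|d (a 2<|a 3<|a 4<|a 3<|a 2<|c) c)<|e (d (a 2<|a 3<|a 4<|a 2<|a 3<|a 2<|a 1<|a 0<|c)<|d 0<|d (a 0<|c) c)<|e (d (a 3<|a 4<|a 1<|a 2<|a 1<|a 0<|c)<|d 0<|d (a 0<|c) c)<|
 f);
 (e (d (a 2<|a 3<|a 4<|a 2<|a 3<|a 1<|a 2<|c)<|d 0<|d (a 0<|c) c)<|e (d (a 4<|a 1<|a 2<|a 1<|c)<|d 1<|d c c)<|
 e (d (a 3<|a 4<|a 2<|a 3<|a 1<|a 2<|a 1<|c)<|d 0<|d (a 0<|c) c)<|e (d (a 3<|a 4<|a 2<|a 3<|a 2<|a 0<|c)<|d 0<|d (a 0<|c) c)<|f));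
 (e (d (a 2<|a 3<|a 4<|a 1<|a 2<|a 3<|c)<|d 3<|d (a 2<|a 3<|a 1<|c) c)<|e (d (a 3<|a 4<|a 3<|c)<|d 0<|d (a 0<|c) c)<|e (d (a 1<|a 2<|a 3<|a 4<|a 2<|c)<|d 0<|d (a 0<|c) c)<|
 e (d (a 1<|a 2<|a 3<|a 2<|a 1<|c)<|d 0<|d (a 0<|c) c)<|e (d (a 4<|a 2<|a 3<|a 2<|c)<|d 1<|d (a 4<|c) c)<|e (d (a 2<|a 3<|a 4<|a 3<|a 2<|a 1<|c)<|d 1<|d (a 1<|c) c)<|
 e (d (a 1<|a 2<|c)<|d 1<|d (a 1<|c) c)<|f)));
 (let f:=(let f:=(let f:=(e (d (a 2<|a 3<|a 4<|c)<|d 0<|d (a 0<|c) c)<|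
 e (d (a 1<|a 2<|a 3<|a 4<|a 2<|a 3<|a 2<|a 1<|c)<|d 1<|d c c)<|e (d (a 4<|a 3<|a 1<|c)<|d 0<|d (a 0<|c) c)<|e (d (a 1<|a 2<|a 3<|a 4<|a 1<|a 2<|a 3<|a 1<|c)<|d 3<|d (a 1<|a 2<|a 3<|c) c)<|
 f);
 (e (d (a 3<|a 2<|c)<|d 1<|d (a 2<|c) c)<|e (d (a 4<|a 1<|a 2<|a 3<|a 1<|a 2<|a 1<|c)<|d 0<|d (a 0<|c) c)<|
 e (d (a 3<|a 4<|a 1<|a 2<|a 3<|a 2<|c)<|d 3<|d (a 2<|a 3<|a 4<|c) c)<|e (d (a 2<|a 3<|a 1<|c)<|d 0<|d (a 0<|c) c)<|f));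
 (e (d (a 3<|a 4<|a 2<|a 3<|a 1<|a 2<|a 0<|c)<|d 4<|d (a 3<|a 1<|a 2<|c) c)<|e (d (a 4<|a 1<|a 2<|a 3<|a 2<|a 1<|a 0<|c)<|d 0<|d (a 2<|c) c)<|e (d (a 1<|a 2<|a 3<|a 4<|a 3<|a 2<|a 0<|c)<|d 0<|d (a 3<|c) c)<|
 e (d (a 2<|a 3<|a 4<|a 2<|a 1<|a 0<|c)<|d 0<|d (a 0<|c) c)<|e (d (a 2<|a 3<|a 2<|a 0<|c)<|d 0<|d (a 0<|c) c)<|e (d (a 3<|a 4<|a 2<|a 1<|c)<|d 3<|d (a 4<|a 3<|a 2<|c) c)<|
 e (d (a 1<|a 2<|a 3<|a 4<|a 3<|a 1<|a 2<|c)<|d 0<|d (a 0<|c) c)<|f));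
 (let f:=(let f:=(e (d (a 3<|a 4<|a 0<|c)<|d 0<|d (a 1<|c) c)<|
 e (d (a 2<|a 3<|a 4<|a 2<|a 3<|a 1<|a 2<|a 1<|a 0<|c)<|d 4<|d (a 2<|a 3<|a 2<|a 1<|c) c)<|e (d (a 4<|a 1<|a 2<|a 0<|c)<|d 0<|d (a 0<|c) c)<|e (d (a 1<|a 2<|a 1<|a 0<|c)<|d 0<|d (a 0<|c) c)<|
 f);
 (e (d (a 4<|a 3<|a 2<|a 0<|c)<|d 0<|d (a 0<|c) c)<|e (d (a 1<|a 2<|a 3<|a 4<|a 1<|a 2<|a 3<|a 2<|a 1<|a 0<|c)<|d 0<|d (a 0<|c) c)<|
 e (d (a 3<|a 1<|a 0<|c)<|d 0<|d (a 1<|c) c)<|e (d (a 2<|a 3<|a 4<|a 1<|a 2<|a 3<|a 2<|a 0<|c)<|d 0<|d (a 0<|c) c)<|f));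
 (e (d (a 3<|a 4<|a 1<|a 2<|a 3<|a 0<|c)<|d 0<|d (a 0<|c) c)<|e (d (a 4<|a 2<|a 3<|a 1<|a 0<|c)<|d 4<|d (a 4<|a 1<|c) c)<|e (d (a 1<|a 2<|a 3<|a 4<|a 2<|a 3<|a 1<|a 0<|c)<|d 0<|d (a 0<|c) c)<|
 e (d (a 2<|a 3<|a 4<|a 3<|a 0<|c)<|d 0<|d (a 1<|a 2<|a 3<|a 2<|a 1<|c) c)<|e (d (a 3<|a 4<|a 3<|a 2<|a 1<|a 0<|c)<|d 0<|d (a 0<|c) c)<|e (d (a 1<|a 2<|a 3<|a 4<|a 1<|a 2<|a 0<|c)<|d 4<|d (a 2<|c) c)<|
 e (d (a 1<|a 2<|a 3<|a 1<|a 2<|a 1<|a 0<|c)<|d 0<|d (a 2<|c) c)<|f))));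
 (let f:=(let f:=(let f:=(let f:=(e (d (a 4<|a 3<|a 1<|a 0<|c)<|d 0<|d (a 0<|c) c)<|
 e (d (a 1<|a 2<|a 3<|a 4<|a 1<|a 2<|a 3<|a 1<|a 0<|c)<|d 4<|d (a 2<|a 3<|c) c)<|e (d (a 2<|a 3<|a 4<|a 1<|a 2<|a 3<|a 0<|c)<|d 4<|d (a 2<|a 3<|a 1<|c) c)<|e (d (a 3<|a 4<|a 3<|a 0<|c)<|d 0<|d (a 0<|c) c)<|
 f);
 (e (d (a 1<|a 2<|a 0<|c)<|d 0<|d (a 4<|c) c)<|e (d (a 2<|a 3<|a 4<|a 2<|a 3<|a 1<|a 2<|a 0<|c)<|d 0<|d (a 0<|c) c)<|
 e (d (a 3<|a 4<|a 2<|a 3<|a 1<|a 2<|a 1<|a 0<|c)<|d 0<|d (a 0<|c) c)<|e (d (a 4<|a 1<|a 2<|a 1<|a 0<|c)<|d 0<|d (a 4<|c) c)<|f));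
 (e (d (a 1<|a 2<|a 3<|a 4<|a 2<|a 3<|a 2<|a 1<|a 0<|c)<|d 0<|d (a 3<|c) c)<|e (d (a 2<|a 3<|a 1<|a 0<|c)<|d 0<|d (a 0<|c) c)<|e (d (a 2<|a 3<|a 4<|a 0<|c)<|d 0<|d (a 0<|c) c)<|
 e (d (a 1<|a 2<|a 3<|a 4<|a 2<|a 0<|c)<|d 0<|d (a 0<|c) c)<|e (d (a 1<|a 2<|a 3<|a 2<|a 1<|a 0<|c)<|d 0<|d (a 0<|c) c)<|e (d (a 2<|a 3<|a 4<|a 3<|a 2<|a 1<|a 0<|c)<|d 0<|d (a 3<|c) c)<|
 e (d (a 4<|a 2<|a 3<|a 2<|a 0<|c)<|d 0<|d (a 1<|a 2<|a 1<|c) c)<|f));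
 (let f:=(let f:=(e (d (a 4<|a 1<|a 2<|a 3<|a 1<|a 2<|a 1<|a 0<|c)<|d 0<|d (a 0<|c) c)<|
 e (d (a 1<|a 2<|a 3<|a 4<|a 3<|a 1<|a 2<|a 0<|c)<|d 0<|d (a 0<|c) c)<|e (d (a 3<|a 2<|a 0<|c)<|d 0<|d (a 1<|a 2<|a 3<|a 4<|a 3<|a 2<|a 1<|c) c)<|e (d (a 3<|a 4<|a 1<|a 2<|a 3<|a 2<|a 0<|c)<|d 4<|d (a 3<|a 4<|c) c)<|
 f);
 (e (d (a 4<|a 1<|a 2<|c)<|d 0<|d (a 0<|c) c)<|e (d (a 3<|a 4<|a 2<|a 3<|a 1<|a 2<|c)<|d 3<|d (a 2<|a 3<|a 1<|c) c)<|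
 e (d (a 1<|a 2<|a 1<|c)<|d 0<|d (a 0<|c) c)<|e (d (a 3<|a 4<|a 2<|a 1<|a 0<|c)<|d 4<|d (a 1<|a 2<|a 1<|c) c)<|f));
 (e (d (a 2<|a 3<|a 4<|a 2<|a 1<|c)<|d 0<|d (a 0<|c) c)<|e (d (a 2<|a 3<|a 2<|c)<|d 0<|d (a 0<|c) c)<|e (d (a 1<|a 2<|a 3<|a 4<|a 1<|a 2<|a 3<|a 2<|a 1<|c)<|d 0<|d (a 0<|c) c)<|
 e (d (a 3<|a 1<|c)<|d 1<|d c c)<|e (d (a 3<|a 4<|c)<|d 1<|d (a 3<|c) c)<|e (d (a 2<|a 3<|a 4<|a 1<|a 2<|a 3<|a 2<|c)<|d 0<|d (a 0<|c) c)<|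
 e (d (a 2<|a 3<|a 4<|a 2<|a 3<|a 1<|a 2<|a 1<|c)<|d 3<|d (a 4<|a 3<|a 2<|c) c)<|f)));
 (let f:=(let f:=(let f:=(e (d (a 4<|a 3<|a 2<|c)<|d 0<|d (a 0<|c) c)<|
 e (d (a 1<|a 2<|a 3<|a 4<|a 1<|a 2<|c)<|d 3<|d (a 2<|a 3<|a 4<|c) c)<|e (d (a 4<|a 1<|a 2<|a 3<|a 2<|a 1<|c)<|d 1<|d (a 4<|c) c)<|e (d (a 1<|a 2<|a 3<|a 4<|a 3<|a 2<|c)<|d 1<|d (a 1<|c) c)<|
 f);
 (e (d (a 2<|a 3<|a 4<|a 3<|c)<|d 1<|d (a 2<|c) c)<|e (d (a 4<|a 2<|a 3<|a 1<|c)<|d 3<|d (a 1<|a 2<|a 3<|a 1<|a 2<|c) c)<|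
 e (d (a 3<|a 4<|a 3<|a 2<|a 1<|c)<|d 0<|d (a 0<|c) c)<|e (d (a 1<|a 2<|a 3<|a 1<|a 2<|a 1<|c)<|d 1<|d c c)<|f));
 (e (d (a 3<|a 4<|a 1<|c)<|d 0<|d (a 0<|c) c)<|e (d (a 2<|a 3<|a 4<|a 3<|a 2<|c)<|d 0<|d (a 0<|c) c)<|e (d (a 4<|a 2<|a 3<|a 2<|a 1<|c)<|d 0<|d (a 0<|c) c)<|
 e (d (a 1<|a 2<|a 3<|a 4<|a 2<|a 1<|c)<|d 1<|d (a 4<|c) c)<|e (d (a 1<|a 2<|a 3<|a 2<|c)<|d 1<|d (a 1<|c) c)<|e (d (a 3<|a 4<|a 1<|a 2<|a 3<|c)<|d 0<|d (a 0<|c) c)<|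
 e (d (a 1<|a 2<|a 3<|a 4<|a 2<|a 3<|a 1<|c)<|d 0<|d (a 0<|c) c)<|f));
 (let f:=(let f:=(e (d (a 3<|a 4<|a 1<|a 2<|a 3<|a 1<|a 2<|c)<|d 0<|d (a 0<|c) c)<|
 e (d (a 3<|c)<|d 0<|d (a 0<|c) c)<|e (d (a 2<|a 3<|a 4<|a 1<|a 2<|a 3<|a 2<|a 1<|c)<|d 3<|d (a 1<|a 2<|a 3<|a 1<|a 2<|c) c)<|e (d (a 1<|a 2<|a 3<|a 4<|a 1<|a 2<|a 3<|a 2<|c)<|d 3<|d (a 4<|a 3<|a 2<|c) c)<|
 f);
 (e (d (a 1<|a 2<|a 3<|a 4<|a 3<|c)<|d 0<|d (a 0<|c) c)<|e (d (a 4<|a 2<|c)<|d 1<|d c c)<|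
 e (d (a 1<|a 2<|a 3<|a 4<|a 2<|a 3<|a 1<|a 2<|a 1<|c)<|d 0<|d (a 0<|c) c)<|e (d (a 2<|a 1<|c)<|d 1<|d (a 1<|c) c)<|f));
 (e (d (a 3<|a 4<|a 3<|a 1<|a 2<|a 1<|c)<|d 1<|d (a 1<|a 2<|a 1<|c) c)<|e (d (a 2<|a 3<|a 4<|a 1<|a 2<|c)<|d 0<|d (a 0<|c) c)<|e (d (a 2<|a 3<|a 1<|a 2<|a 1<|c)<|d 0<|d (a 0<|c) c)<|
 e (d (a 4<|a 3<|a 1<|a 2<|c)<|d 3<|d (a 1<|a 2<|a 3<|c) c)<|e (d (a 3<|a 4<|a 2<|a 3<|c)<|d 1<|d c c)<|e (d (a 4<|a 1<|a 2<|a 3<|a 1<|c)<|d 0<|d (a 0<|c) c)<|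
 e (d (a 2<|a 3<|a 4<|a 2<|a 3<|a 1<|c)<|d 3<|d (a 2<|a 3<|a 4<|c) c)<|f)))));
 (let f:=(let f:=(let f:=(let f:=(let f:=(e (d (a 2<|a 3<|a 4<|a 1<|a 2<|a 3<|a 1<|c)<|d 0<|d (a 0<|c) c)<|
 e (d (a 4<|a 3<|c)<|d 1<|d (a 3<|c) c)<|e (d (a 3<|a 4<|a 3<|a 1<|c)<|d 1<|d c c)<|e (d (a 1<|a 2<|a 3<|a 4<|a 1<|a 2<|a 3<|c)<|d 0<|d (a 0<|c) c)<|
 f);
 (e (d (a 2<|a 3<|a 2<|a 1<|c)<|d 1<|d (a 1<|c) c)<|e (d (a 2<|a 3<|a 4<|a 2<|c)<|d 1<|d (a 4<|c) c)<|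
 e (d (a 4<|a 1<|a 2<|a 3<|a 2<|c)<|d 0<|d (a 0<|c) c)<|e (d (a 1<|a 2<|a 3<|a 4<|a 3<|a 2<|a 1<|c)<|d 0<|d (a 0<|c) c)<|f));
 (e (d (a 3<|a 1<|a 2<|c)<|d 0<|d (a 0<|c) c)<|e (d (a 4<|a 2<|a 3<|a 1<|a 2<|a 1<|c)<|d 3<|d (a 2<|a 3<|a 4<|c) c)<|e (d (a 2<|a 3<|a 4<|a 3<|a 1<|a 2<|c)<|d 1<|d c c)<|
 e (d (a 1<|a 2<|a 3<|a 4<|a 2<|a 3<|a 1<|a 2<|c)<|d 3<|d (a 1<|a 2<|a 3<|a 1<|a 2<|c) c)<|e (d (a 2<|c)<|d 0<|d (a 0<|c) c)<|e (d (a 3<|a 4<|a 1<|a 2<|a 3<|a 1<|a 2<|a 1<|c)<|d 3<|d (a 1<|a 2<|a 3<|c) c)<|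
 e (d (a 4<|a 2<|a 1<|c)<|d 0<|d (a 0<|c) c)<|f));
 (let f:=(let f:=(e (d (a 1<|a 2<|a 3<|a 4<|c)<|d 3<|d (a 2<|a 3<|a 1<|c) c)<|
 e (d (a 2<|a 3<|a 4<|a 2<|a 3<|a 2<|a 1<|c)<|d 0<|d (a 0<|c) c)<|e (d (a 1<|a 2<|a 3<|a 1<|c)<|d 1<|d (a 3<|c) c)<|e (d (a 3<|a 4<|a 1<|a 2<|a 1<|c)<|d 0<|d (a 0<|c) c)<|
 f);
 (e (d (a 1<|a 2<|a 3<|a 4<|a 2<|a 3<|a 1<|a 2<|a 1<|a 0<|c)<|d 0<|d (a 0<|c) c)<|e (d (a 3<|a 4<|a 1<|a 2<|a 3<|a 1<|a 2<|a 0<|c)<|d 0<|d (a 0<|c) c)<|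
 e (d (a 2<|a 1<|a 0<|c)<|d 0<|d (a 4<|c) c)<|e (d (a 3<|a 4<|a 2<|a 3<|a 2<|c)<|d 0<|d (a 0<|c) c)<|f));
 (e (d (a 1<|a 2<|a 3<|a 2<|a 0<|c)<|d 0<|d (a 3<|a 4<|a 3<|c) c)<|e (d (a 1<|a 2<|a 3<|a 4<|a 2<|a 1<|a 0<|c)<|d 0<|d (a 2<|c) c)<|e (d (a 3<|a 0<|c)<|d 0<|d (a 0<|c) c)<|
 e (d (a 2<|a 3<|a 4<|a 1<|a 2<|a 3<|a 2<|a 1<|a 0<|c)<|d 4<|d (a 2<|a 3<|a 4<|c) c)<|e (d (a 3<|a 4<|a 1<|a 0<|c)<|d 0<|d (a 0<|c) c)<|e (d (a 1<|a 2<|a 3<|a 4<|a 1<|a 2<|a 3<|a 2<|a 0<|c)<|d 4<|d (a 3<|a 2<|c) c)<|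
 e (d (a 4<|a 2<|a 0<|c)<|d 0<|d (a 2<|c) c)<|f)));
 (let f:=(let f:=(let f:=(e (d (a 2<|a 3<|a 4<|a 2<|a 3<|a 1<|a 0<|c)<|d 4<|d (a 3<|a 1<|c) c)<|
 e (d (a 4<|a 1<|a 2<|a 3<|a 1<|a 0<|c)<|d 0<|d (a 0<|c) c)<|e (d (a 2<|a 3<|a 4<|a 3<|a 2<|a 0<|c)<|d 0<|d (a 0<|c) c)<|e (d (a 4<|a 2<|a 3<|a 2<|a 1<|a 0<|c)<|d 0<|d (a 0<|c) c)<|
 f);
 (e (d (a 2<|a 3<|a 1<|a 2<|a 1<|a 0<|c)<|d 0<|d (a 0<|c) c)<|e (d (a 2<|a 3<|a 4<|a 1<|a 2<|a 0<|c)<|d 0<|d (a 0<|c) c)<|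
 e (d (a 3<|a 4<|a 2<|a 3<|a 0<|c)<|d 0<|d (a 2<|a 3<|a 2<|c) c)<|e (d (a 1<|a 2<|a 3<|a 4<|a 3<|a 0<|c)<|d 0<|d (a 0<|c) c)<|f));
 (e (d (a 1<|a 2<|a 3<|a 4<|a 1<|a 2<|a 1<|a 0<|c)<|d 0<|d (a 0<|c) c)<|e (d (a 4<|a 2<|a 3<|a 1<|a 2<|a 0<|c)<|d 0<|d (a 0<|c) c)<|e (d (a 2<|a 3<|a 4<|a 3<|a 1<|a 2<|a 1<|a 0<|c)<|d 0<|d (a 0<|c) c)<|
 e (d (a 3<|a 4<|a 1<|a 2<|a 0<|c)<|d 4<|d (a 1<|a 2<|c) c)<|e (d (a 3<|a 1<|a 2<|a 1<|a 0<|c)<|d 0<|d (a 2<|a 3<|a 4<|a 3<|a 2<|c) c)<|e (d (a 3<|a 4<|a 3<|a 1<|a 2<|a 1<|a 0<|c)<|d 0<|d (a 2<|a 3<|a 2<|c) c)<|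
 e (d (a 4<|a 3<|a 1<|a 2<|a 0<|c)<|d 4<|d (a 3<|a 4<|a 3<|c) c)<|f));
 (let f:=(let f:=(e (d (a 1<|a 2<|a 3<|a 4<|a 2<|a 3<|a 2<|a 0<|c)<|d 0<|d (a 0<|c) c)<|
 e (d (a 1<|a 2<|a 3<|a 1<|a 2<|a 0<|c)<|d 0<|d (a 0<|c) c)<|e (d (a 3<|a 4<|a 3<|a 2<|a 0<|c)<|d 0<|d (a 1<|a 2<|a 3<|a 2<|a 1<|c) c)<|e (d (a 4<|a 3<|a 2<|a 1<|a 0<|c)<|d 4<|d (a 3<|a 4<|a 3<|a 1<|c) c)<|
 f);
 (e (d (a 3<|a 4<|a 2<|a 3<|a 1<|a 0<|c)<|d 0<|d (a 0<|c) c)<|e (d (a 2<|a 3<|a 4<|a 1<|a 0<|c)<|d 4<|d (a 1<|c) c)<|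
 e (d (a 2<|a 3<|a 0<|c)<|d 0<|d (a 1<|a 2<|a 3<|a 4<|a 3<|a 2<|a 1<|c) c)<|e (d (a 3<|a 4<|a 1<|a 2<|a 3<|a 2<|a 1<|a 0<|c)<|d 0<|d (a 0<|c) c)<|f));
 (e (d (a 4<|a 0<|c)<|d 0<|d (a 0<|c) c)<|e (d (a 1<|a 2<|a 3<|a 4<|a 1<|a 2<|a 3<|a 1<|a 2<|a 1<|a 0<|c)<|d 0<|d (a 2<|a 3<|a 2<|c) c)<|e (d (a 1<|a 0<|c)<|d 0<|d (a 0<|c) c)<|
 e (d (a 2<|a 3<|a 4<|a 1<|a 2<|a 3<|a 1<|a 2<|a 0<|c)<|d 0<|d (a 1<|a 2<|a 3<|a 2<|a 1<|c) c)<|e (d (a 1<|a 2<|a 3<|a 4<|a 3<|a 1<|a 0<|c)<|d 0<|d (a 2<|a 3<|a 2<|c) c)<|e (d (a 2<|a 3<|a 4<|a 2<|a 3<|a 0<|c)<|d 0<|d (a 0<|c) c)<|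
 e (d (a 4<|a 1<|a 2<|a 3<|a 0<|c)<|d 4<|d (a 4<|c) c)<|f))));
 (let f:=(let f:=(let f:=(let f:=(e (d (a 2<|a 3<|a 4<|a 1<|c)<|d 3<|d (a 1<|a 2<|a 3<|c) c)<|
 e (d (a 3<|a 4<|a 1<|a 2<|a 3<|a 2<|a 1<|c)<|d 0<|d (a 0<|c) c)<|e (d (a 1<|a 2<|a 3<|a 4<|a 2<|a 3<|a 2<|c)<|d 0<|d (a 0<|c) c)<|e (d (a 2<|a 3<|c)<|d 1<|d (a 2<|c) c)<|
 f);
 (e (d (a 1<|a 2<|a 3<|a 1<|a 2<|c)<|d 0<|d (a 0<|c) c)<|e (d (a 4<|a 3<|a 2<|a 1<|c)<|d 3<|d (a 2<|a 3<|a 1<|c) c)<|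
 e (d (a 1<|a 2<|a 3<|a 4<|a 1<|a 2<|a 1<|c)<|d 0<|d (a 0<|c) c)<|e (d (a 3<|a 4<|a 3<|a 2<|c)<|d 1<|d (a 2<|c) c)<|f));
 (e (d (a 2<|a 3<|a 4<|a 3<|a 1<|a 2<|a 1<|c)<|d 0<|d (a 0<|c) c)<|e (d (a 3<|a 1<|a 2<|a 1<|c)<|d 1<|d (a 3<|c) c)<|e (d (a 3<|a 4<|a 1<|a 2<|c)<|d 3<|d (a 1<|a 2<|a 3<|a 1<|a 2<|c) c)<|
 e (d (a 1<|a 2<|a 3<|a 4<|a 3<|a 1<|c)<|d 1<|d (a 1<|a 2<|a 1<|c) c)<|e (d (a 3<|a 4<|a 2<|a 3<|a 1<|c)<|d 0<|d (a 0<|c) c)<|e (d (a 4<|a 1<|a 2<|a 3<|c)<|d 3<|d (a 4<|a 3<|a 2<|c) c)<|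
 e (d (a 2<|a 3<|a 4<|a 2<|a 3<|c)<|d 0<|d (a 0<|c) c)<|f));
 (let f:=(let f:=(e (d (a 2<|a 3<|a 4<|a 1<|a 2<|a 3<|a 1<|a 2<|c)<|d 1<|d c c)<|
 e (d (a 1<|c)<|d 0<|d (a 0<|c) c)<|e (d (a 4<|c)<|d 0<|d (a 0<|c) c)<|e (d (a 4<|a 2<|a 3<|a 1<|a 2<|c)<|d 0<|d (a 0<|c) c)<|
 f);
 (e (d (a 2<|a 3<|a 4<|a 2<|a 3<|a 2<|a 0<|c)<|d 0<|d (a 3<|c) c)<|e (d (a 3<|a 4<|a 2<|a 3<|a 2<|a 1<|a 0<|c)<|d 4<|d (a 3<|a 4<|a 1<|c) c)<|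
 e (d (a 1<|a 2<|a 3<|a 0<|c)<|d 0<|d (a 0<|c) c)<|e (d (a 1<|a 2<|a 3<|a 4<|a 1<|a 2<|a 3<|a 1<|a 2<|a 1<|c)<|d 1<|d c c)<|f));
 (e (d (a 3<|a 4<|a 2<|a 0<|c)<|d 0<|d (a 0<|c) c)<|e (d (a 1<|a 2<|a 3<|a 4<|a 3<|a 1<|a 2<|a 1<|a 0<|c)<|d 0<|d (a 2<|c) c)<|e (d (a 2<|a 3<|a 4<|a 3<|a 1<|a 0<|c)<|d 0<|d (a 0<|c) c)<|
 e (d (a 3<|a 4<|a 1<|a 2<|a 3<|a 1<|a 0<|c)<|d 0<|d (a 3<|a 4<|a 3<|c) c)<|e (d (a 4<|a 2<|a 3<|a 0<|c)<|d 0<|d (a 0<|c) c)<|e (d (a 1<|a 2<|a 3<|a 4<|a 2<|a 3<|a 0<|c)<|d 4<|d (a 3<|c) c)<|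
 e (d (a 1<|a 2<|a 3<|a 4<|a 1<|a 0<|c)<|d 0<|d (a 0<|c) c)<|f)));
 (let f:=(let f:=(let f:=(e (d (a 4<|a 3<|a 1<|a 2<|a 1<|a 0<|c)<|d 0<|d (a 0<|c) c)<|
 e (d (a 3<|a 4<|a 3<|a 1<|a 2<|a 0<|c)<|d 0<|d (a 0<|c) c)<|e (d (a 4<|a 1<|a 2<|a 3<|a 1<|a 2<|a 0<|c)<|d 4<|d (a 4<|a 2<|c) c)<|e (d (a 3<|a 2<|a 1<|a 0<|c)<|d 0<|d (a 0<|c) c)<|
 f);
 (e (d (a 2<|a 3<|a 4<|a 1<|a 2<|a 3<|a 1<|a 2<|a 1<|a 0<|c)<|d 0<|d (a 0<|c) c)<|e (d (a 4<|a 1<|a 0<|c)<|d 0<|d (a 1<|c) c)<|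
 e (d (a 2<|a 3<|a 1<|a 2<|a 0<|c)<|d 0<|d (a 1<|a 2<|a 1<|c) c)<|e (d (a 2<|a 3<|a 4<|a 1<|a 2<|a 1<|a 0<|c)<|d 4<|d (a 2<|a 1<|c) c)<|f));
 (e (d (a 3<|a 4<|a 1<|a 2<|a 3<|a 1<|c)<|d 1<|d c c)<|e (d (a 4<|a 1<|a 2<|a 3<|a 1<|a 2<|c)<|d 3<|d (a 3<|a 2<|a 1<|c) c)<|e (d (a 3<|a 4<|a 2<|c)<|d 0<|d (a 0<|c) c)<|
 e (d (a 1<|a 2<|a 3<|a 4<|a 3<|a 1<|a 2<|a 1<|c)<|d 1<|d c c)<|e (d (a 3<|a 2<|a 1<|c)<|d 0<|d (a 0<|c) c)<|e (d (a 1<|a 2<|a 3<|a 4<|a 1<|a 2<|a 3<|a 1<|a 2<|a 0<|c)<|d 0<|d (a 0<|c) c)<|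
 e (d (a 0<|c)<|d 0<|d (a 1<|c) c)<|f));
 (let f:=(let f:=(e (d (a 2<|a 3<|a 4<|a 1<|a 2<|a 1<|c)<|d 3<|d (a 3<|a 2<|a 1<|c) c)<|
 e (d (a 2<|a 3<|a 4<|a 3<|a 1<|c)<|d 0<|d (a 0<|c) c)<|e (d (a 4<|a 2<|a 3<|c)<|d 0<|d (a 0<|c) c)<|e (d (a 1<|a 2<|a 3<|a 4<|a 2<|a 3<|c)<|d 3<|d (a 3<|a 2<|a 1<|c) c)<|
 f);
 (e (d (a 3<|a 4<|a 2<|a 3<|a 2<|a 1<|c)<|d 3<|d (a 3<|a 2<|a 1<|c) c)<|e (d (a 2<|a 3<|a 1<|a 2<|c)<|d 1<|d c c)<|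
 e (d (a 3<|a 4<|a 3<|a 1<|a 2<|c)<|d 0<|d (a 0<|c) c)<|e (d (a 4<|a 3<|a 1<|a 2<|a 1<|c)<|d 0<|d (a 0<|c) c)<|f));
 (a (d c<|d 1<|d c c)<|a (d (a 4<|a 1<|c)<|d 1<|d c c)<|a (d (a 2<|a 3<|a 4<|a 1<|a 2<|a 3<|a 1<|a 2<|a 1<|c)<|d 0<|d (a 0<|c) c)<|
 a (d (a 1<|a 2<|a 3<|a 4<|a 1<|a 2<|a 3<|a 1<|a 2<|c)<|d 0<|d (a 0<|c) c)<|a (d (a 1<|a 2<|a 3<|a 4<|a 1<|c)<|d 0<|d (a 0<|c) c)<|a (d (a 2<|a 3<|a 4<|a 2<|a 3<|a 2<|c)<|d 1<|d c c)<|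
 a (d (a 1<|a 2<|a 3<|c)<|d 0<|d (a 0<|c) c)<|f)))))))

/-- the Sylow 3-subgroup, words in the two generators -/
def LT : List (List ℕ × ℕ × List ℕ × List ℕ) := (beta% delta% lq26044ec823 fun a c d _ _ _ _ =>
 (a (d c<|d 1<|d c c)<|a (d (a 0<|a 0<|a 1<|a 1<|c)<|d 1<|d (a 1<|a 5<|a 4<|a 2<|a 5<|a 1<|c) c)<|a (d (a 1<|a 0<|c)<|d 1<|d (a 1<|a 5<|a 4<|a 2<|a 5<|a 1<|c) c)<|
 a (d (a 0<|a 1<|a 0<|c)<|d 1<|d (a 0<|a 5<|a 2<|a 3<|a 1<|c) c)<|a (d (a 0<|c)<|d 1<|d (a 2<|c) c)<|a (d (a 1<|a 1<|c)<|d 1<|d (a 4<|a 1<|a 0<|c) c)<|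
 a (d (a 1<|a 0<|a 1<|c)<|d 1<|d (a 0<|a 5<|a 2<|a 3<|a 1<|c) c)<|a (d (a 0<|a 1<|a 0<|a 0<|c)<|d 1<|d (a 1<|a 5<|a 2<|a 0<|a 5<|a 0<|c) c)<|a (d (a 0<|a 1<|a 0<|a 1<|a 1<|c)<|d 1<|d (a 4<|a 3<|a 5<|a 3<|a 4<|c) c)<|
 a (d (a 0<|a 0<|a 1<|a 1<|a 0<|a 1<|c)<|d 1<|d (a 0<|a 5<|a 4<|a 5<|a 1<|a 5<|c) c)<|a (d (a 0<|a 1<|a 1<|a 0<|c)<|d 1<|d (a 5<|a 2<|a 3<|a 1<|a 2<|a 5<|c) c)<|a (d (a 0<|a 1<|c)<|d 1<|d (a 2<|a 5<|a 4<|a 2<|a 5<|a 2<|c) c)<|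
 a (d (a 1<|a 1<|a 0<|c)<|d 1<|d (a 1<|a 2<|a 1<|a 5<|a 3<|a 2<|a 0<|c) c)<|a (d (a 1<|c)<|d 1<|d (a 4<|a 1<|a 0<|c) c)<|a (d (a 0<|a 1<|a 1<|a 0<|a 1<|c)<|d 1<|d (a 5<|a 2<|a 0<|a 5<|c) c)<|
 a (d (a 0<|a 0<|a 1<|c)<|d 1<|d (a 1<|a 2<|a 1<|a 5<|a 3<|a 2<|a 0<|c) c)<|a (d (a 1<|a 1<|a 0<|a 1<|c)<|d 1<|d (a 4<|a 3<|a 5<|a 3<|a 4<|c) c)<|a (d (a 0<|a 0<|a 1<|a 1<|a 0<|c)<|d 1<|d (a 5<|a 3<|a 0<|a 5<|a 4<|a 0<|c) c)<|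
 a (d (a 1<|a 0<|a 0<|c)<|d 1<|d (a 3<|a 2<|a 5<|a 3<|a 4<|a 3<|a 0<|c) c)<|a (d (a 1<|a 0<|a 1<|a 1<|c)<|d 1<|d (a 5<|a 2<|a 0<|a 5<|c) c)<|a (d (a 0<|a 0<|a 1<|a 0<|a 1<|c)<|d 1<|d (a 1<|a 5<|a 2<|a 0<|a 5<|a 0<|c) c)<|
 a (d (a 0<|a 1<|a 1<|c)<|d 1<|d (a 3<|a 2<|a 5<|a 3<|a 4<|a 3<|a 0<|c) c)<|a (d (a 0<|a 0<|a 1<|a 0<|c)<|d 1<|d (a 5<|a 3<|a 0<|a 5<|a 4<|a 0<|c) c)<|a (d (a 0<|a 0<|c)<|d 1<|d (a 2<|c) c)<|
 a (d (a 0<|a 0<|a 1<|a 0<|a 1<|a 1<|c)<|d 1<|d (a 0<|a 5<|a 4<|a 5<|a 1<|a 5<|c) c)<|a (d (a 0<|a 1<|a 0<|a 1<|c)<|d 1<|d (a 2<|a 5<|a 4<|a 2<|a 5<|a 2<|c) c)<|a (d (a 0<|a 0<|a 1<|a 0<|a 0<|c)<|d 1<|d (a 5<|a 2<|a 3<|a 1<|a 2<|a 5<|c) c)<|c))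

/-- the element of order 20 -/
def w20 : List ℕ := [6,0,1,2,3,4]

/-- the test -/
def tyB (w : List ℕ) (t : ℕ) (c c' : List ℕ) : Bool :=
  match t with
  | 0 => eqG (c ++ w) (6 :: (w ++ c))
  | 1 => eqG (w ++ (w ++ (w ++ (w ++ (w ++ w))))) [] && eqG c (w ++ (c ++ w))
  | 2 => eqG (w ++ (w ++ (w ++ (w ++ (w ++ (w ++ (w ++ w))))))) [] && eqG (c ++ w) (w ++ (w ++ (w ++ c))) &&
      eqG c' (6 :: (w ++ (c' ++ w)))
  | 3 => eqG (w ++ (w ++ (w ++ (w ++ (w ++ (w ++ (w ++ (w ++ (w ++ w))))))))) [] && eqG (c ++ w) (w ++ (w ++ (w ++ c)))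
  | _ => eqG (c ++ w) (w20 ++ c) || eqG (c ++ w) (6 :: (w20 ++ c))

/-- the element of order 20 -/
def g20 : Γ := GW w20

/-- the types -/
def Ty (g : Γ) : Prop :=
  IsConj g (neg * g) ∨ (g ^ 6 = 1 ∧ IsConj g⁻¹ g) ∨ (g ^ 8 = 1 ∧ IsConj g (g ^ 3) ∧ IsConj g⁻¹ (neg * g)) ∨
    (g ^ 10 = 1 ∧ IsConj g (g ^ 3)) ∨ (IsConj g g20 ∨ IsConj g (neg * g20))

theorem ty_of {w : List ℕ} {t : ℕ} {c c' : List ℕ} (h : tyB w t c c' = true) : Ty (GW w) := by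
  unfold tyB at h
  split at h
  · left
    have h1 := GW_eq h
    rw [GW_append, GW_six, GW_append] at h1
    rw [isConj_iff]
    exact ⟨GW c, by rw [h1]; group⟩
  · right; left
    rw [Bool.and_eq_true] at h
    have h1 := GW_eq h.1
    have h2 := GW_eq h.2
    simp only [GW_append, GW_nil] at h1 h2
    refine ⟨?_, ?_⟩
    · rw [← h1]; simp only [pow_succ, pow_zero, one_mul, mul_assoc]
    · rw [isConj_iff]
      refine ⟨GW c, ?_⟩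
      calc GW c * (GW w)⁻¹ * (GW c)⁻¹ = (GW w * (GW c * GW w)) * (GW w)⁻¹ * (GW c)⁻¹ := by rw [← h2]
        _ = GW w := by group
  · right; right; left
    rw [Bool.and_eq_true, Bool.and_eq_true] at h
    have h1 := GW_eq h.1.1
    have h2 := GW_eq h.1.2
    have h3 := GW_eq h.2
    simp only [GW_append, GW_nil, GW_six] at h1 h2 h3
    refine ⟨?_, ?_, ?_⟩
    · rw [← h1]; simp only [pow_succ, pow_zero, one_mul, mul_assoc]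
    · rw [isConj_iff]
      refine ⟨GW c, ?_⟩
      rw [h2]
      simp only [pow_succ, pow_zero, one_mul, mul_assoc, mul_inv_cancel, mul_one]
    · rw [isConj_iff]
      refine ⟨GW c', ?_⟩
      calc GW c' * (GW w)⁻¹ * (GW c')⁻¹ = (neg * (GW w * (GW c' * GW w))) * (GW w)⁻¹ * (GW c')⁻¹ := by rw [← h3]
        _ = neg * GW w := by group
  · right; right; right; left
    rw [Bool.and_eq_true] at h
    have h1 := GW_eq h.1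
    have h2 := GW_eq h.2
    simp only [GW_append, GW_nil] at h1 h2
    refine ⟨?_, ?_⟩
    · rw [← h1]; simp only [pow_succ, pow_zero, one_mul, mul_assoc]
    · rw [isConj_iff]
      refine ⟨GW c, ?_⟩
      rw [h2]
      simp only [pow_succ, pow_zero, one_mul, mul_assoc, mul_inv_cancel, mul_one]
  · right; right; right; right
    rw [Bool.or_eq_true] at h
    rcases h with h | h
    · left
      have h1 := GW_eq h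
      rw [GW_append, GW_append] at h1
      rw [isConj_iff]
      exact ⟨GW c, by rw [h1, g20]; group⟩
    · right
      have h1 := GW_eq h
      rw [GW_append, GW_six, GW_append] at h1
      rw [isConj_iff]
      exact ⟨GW c, by rw [h1, g20]; group⟩

theorem LV_len : LV.length = 192 := by decide +kernel
private theorem _root_.Cfsg.Agent.KO109d9b9.e0.{ku, kv} {α : Type kv} {M : List α → Sort ku} (φ : ∀ l, M l) {z : M List.nil} {s : ∀ a l, M l → M (List.cons a l)} (h0 : φ List.nil = z) (hs : ∀ a l, φ (List.cons a l) = s a l (φ l)) (l : List α) : φ l = @List.rec α M z s l := List.rec h0 (fun a l ih => (hs a l).trans (congrArg (s a l) ih)) l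
private noncomputable def _root_.Cfsg.Agent.KO109d9b9.k1.{ku0} : ((x0 : Sort (ku0+1)) → ((@List.{ku0} @x0) → ((x0 → @Bool) → @Bool))) := @(fun (x0 : Sort (ku0+1)) (x1 : @List.{ku0} @x0) (x2 : (x0 → @Bool)) => @List.rec.{(ku0+1), ku0} @x0 @(fun (x3 : @List.{ku0} @x0) => ((x0 → @Bool) → @Bool)) @(fun (x3 : (x0 → @Bool)) => @Bool.true) @(fun (x3 : x0) (x4 : @List.{ku0} @x0) (x5 : ((x0 → @Bool) → @Bool)) (x6 : (x0 → @Bool)) => @Bool.rec.{1} @(fun (x7 : @Bool) => @Bool) @Bool.false (@x5 @x6) (@x6 @x3)) @x1 @x2)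
private theorem _root_.Cfsg.Agent.KO109d9b9.e1.{ku0} : @List.all.{ku0} = @_root_.Cfsg.Agent.KO109d9b9.k1.{ku0} := by delta _root_.Cfsg.Agent.KO109d9b9.k1; funext a0 a1 a2; refine (congrFun (_root_.Cfsg.Agent.KO109d9b9.e0 (fun a1 a2 => @List.all.{ku0} a0 a1 a2) ?_ (fun c0 c1 => ?_) a1) a2 :) <;> (rfl')
private theorem _root_.Cfsg.Agent.KO109d9b9.e2.{ku} {M : Nat → Sort ku} (φ : ∀ n, M n) {z : M Nat.zero} {s : ∀ n, M n → M (Nat.succ n)} (h0 : φ Nat.zero = z) (hs : ∀ n, φ (Nat.succ n) = s n (φ n)) (n : Nat) : φ n = @Nat.rec M z s n := Nat.rec h0 (fun n ih => (hs n).trans (congrArg (s n) ih)) n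
private noncomputable def _root_.Cfsg.Agent.KO109d9b9.k3 : (by first | exact type_of% @Cfsg.Agent.CoThreeStd.MTwelve.allB | exact Unit : Sort _) := by first | (refine @Subtype.val _ (fun g => @Cfsg.Agent.CoThreeStd.MTwelve.allB = @g) (@Subtype.mk _ _ (@(fun (x0 : (@Nat → @Bool)) (x1 : @Nat) => @Nat.rec.{1} @(fun (x2 : @Nat) => @Bool) @Bool.true @(fun (x2 : @Nat) (x3 : @Bool) => @Bool.rec.{1} @(fun (x4 : @Bool) => @Bool) @Bool.false @x3 (@x0 @x2)) @x1)) ?_); funext a0 a1; refine (_root_.Cfsg.Agent.KO109d9b9.e2 (fun a1 => @Cfsg.Agent.CoThreeStd.MTwelve.allB a0 a1) ?_ (fun c0 => ?_) a1 :) <;> (rfl')) | exact @Cfsg.Agent.CoThreeStd.MTwelve.allB | exact ()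
private theorem _root_.Cfsg.Agent.KO109d9b9.e3 : (by first | exact @Cfsg.Agent.CoThreeStd.MTwelve.allB = @_root_.Cfsg.Agent.KO109d9b9.k3 | exact True : Prop) := by first | (delta _root_.Cfsg.Agent.KO109d9b9.k3; exact @Subtype.property _ (fun g => @Cfsg.Agent.CoThreeStd.MTwelve.allB = @g) _) | rfl | trivial
private noncomputable def _root_.Cfsg.Agent.KO109d9b9.k4 : ((x0 : @Nat) → ((x1 : @Nat) → @Decidable (@Eq.{1} @Nat @x0 @x1))) := @(fun (x0 : @Nat) (x1 : @Nat) => @Bool.rec.{1} @(fun (x2 : @Bool) => ((@Eq.{1} @Bool (@Nat.beq @x0 @x1) @x2) → @Decidable (@Eq.{1} @Nat @x0 @x1))) @(fun (x2 : @Eq.{1} @Bool (@Nat.beq @x0 @x1) @Bool.false) => @Decidable.isFalse (@Eq.{1} @Nat @x0 @x1) (@Nat.ne_of_beq_eq_false @x0 @x1 @x2)) @(fun (x2 : @Eq.{1} @Bool (@Nat.beq @x0 @x1) @Bool.true) => @Decidable.isTrue (@Eq.{1} @Nat @x0 @x1) (@Nat.eq_of_beq_eq_true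 @x0 @x1 @x2)) (@Nat.beq @x0 @x1) (@Eq.refl.{1} @Bool (@Nat.beq @x0 @x1)))
private theorem _root_.Cfsg.Agent.KO109d9b9.e4 : @Nat.decEq = @_root_.Cfsg.Agent.KO109d9b9.k4 := by delta _root_.Cfsg.Agent.KO109d9b9.k4; rfl'
private noncomputable def _root_.Cfsg.Agent.KO109d9b9.k5 : (by first | exact type_of% @Cfsg.Agent.CoThreeStd.MTwelve.ptab | exact Unit : Sort _) := by first | (refine @Subtype.val _ (fun g => @Cfsg.Agent.CoThreeStd.MTwelve.ptab = @g) (@Subtype.mk _ _ (@(fun (x0 : @Nat) => @Decidable.rec.{1} (@Eq.{1} @Nat @x0 (@OfNat.ofNat.{0} @Nat (nat_lit 0) (@instOfNatNat (nat_lit 0)))) @(fun (x1 : @Decidable (@Eq.{1} @Nat @x0 (@OfNat.ofNat.{0} @Nat (nat_lit 0) (@instOfNatNat (nat_lit 0))))) => @Nat) @(fun (x1 : @Not (@Eq.{1} @Nat @x0 (@OfNat.ofNat.{0} @Nat (nat_lit 0) (@instOfNatNat (nat_lit 0))))) => @Decidable.rec.{1} (@Eq.{1}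 @Nat @x0 (@OfNat.ofNat.{0} @Nat (nat_lit 1) (@instOfNatNat (nat_lit 1)))) @(fun (x2 : @Decidable (@Eq.{1} @Nat @x0 (@OfNat.ofNat.{0} @Nat (nat_lit 1) (@instOfNatNat (nat_lit 1))))) => @Nat) @(fun (x2 : @Not (@Eq.{1} @Nat @x0 (@OfNat.ofNat.{0} @Nat (nat_lit 1) (@instOfNatNat (nat_lit 1))))) => @Decidable.rec.{1} (@Eq.{1} @Nat @x0 (@OfNat.ofNat.{0} @Nat (nat_lit 2) (@instOfNatNat (nat_lit 2)))) @(fun (x3 : @Decidable (@Eq.{1} @Nat @x0 (@OfNat.ofNat.{0} @Nat (nat_lit 2) (@instOfNatNat (nat_lit 2))))) => @Nat) @(fun (x3 : @Not (@Eq.{1} @Nat @x0 (@OfNat.ofNat.{0} @Nat (nat_lit 2) (@instOfNatNat (nat_lit 2))))) => @Decidable.rec.{1} (@Eq.{1} @Nat @x0 (@OfNat.ofNat.{0} @Nat (nat_lit 3) (@instOfNatNat (nat_lit 3)))) @(fun (x4 : @Decidable (@Eq.{1} @Nat @x0 (@OfNat.ofNat.{0} @Nat (nat_lit 3) (@instOfNatNat (nat_lit 3))))) => @Nat) @(fun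 (x4 : @Not (@Eq.{1} @Nat @x0 (@OfNat.ofNat.{0} @Nat (nat_lit 3) (@instOfNatNat (nat_lit 3))))) => @Decidable.rec.{1} (@Eq.{1} @Nat @x0 (@OfNat.ofNat.{0} @Nat (nat_lit 4) (@instOfNatNat (nat_lit 4)))) @(fun (x5 : @Decidable (@Eq.{1} @Nat @x0 (@OfNat.ofNat.{0} @Nat (nat_lit 4) (@instOfNatNat (nat_lit 4))))) => @Nat) @(fun (x5 : @Not (@Eq.{1} @Nat @x0 (@OfNat.ofNat.{0} @Nat (nat_lit 4) (@instOfNatNat (nat_lit 4))))) => @Decidable.rec.{1} (@Eq.{1} @Nat @x0 (@OfNat.ofNat.{0} @Nat (nat_lit 5) (@instOfNatNat (nat_lit 5)))) @(fun (x6 : @Decidable (@Eq.{1} @Nat @x0 (@OfNat.ofNat.{0} @Nat (nat_lit 5) (@instOfNatNat (nat_lit 5))))) => @Nat) @(fun (x6 : @Not (@Eq.{1} @Nat @x0 (@OfNat.ofNat.{0} @Nat (nat_lit 5) (@instOfNatNat (nat_lit 5))))) => nat_lit 984818244535754528103549039458486304) @(fun (x6 : @Eq.{1} @Nat @x0 (@OfNat.ofNat.{0}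 @Nat (nat_lit 5) (@instOfNatNat (nat_lit 5)))) => @Eq.rec.{1, 1} @Nat (nat_lit 5) @(fun (x7 : @Nat) (x8 : @Eq.{1} @Nat (@OfNat.ofNat.{0} @Nat (nat_lit 5) (@instOfNatNat (nat_lit 5))) @x7) => @Nat) (nat_lit 470695984958501183632338083676959939) @x0 (@Eq.symm.{1} @Nat @x0 (@OfNat.ofNat.{0} @Nat (nat_lit 5) (@instOfNatNat (nat_lit 5))) @x6)) (@Cfsg.Agent.KO109d9b9.k4 @x0 (nat_lit 5))) @(fun (x5 : @Eq.{1} @Nat @x0 (@OfNat.ofNat.{0} @Nat (nat_lit 4) (@instOfNatNat (nat_lit 4)))) => @Eq.rec.{1, 1} @Nat (nat_lit 4) @(fun (x6 : @Nat) (x7 : @Eq.{1} @Nat (@OfNat.ofNat.{0} @Nat (nat_lit 4) (@instOfNatNat (nat_lit 4))) @x6) => @Nat) (nat_lit 726038449334658011187390141433938018) @x0 (@Eq.symm.{1} @Nat @x0 (@OfNat.ofNat.{0} @Nat (nat_lit 4) (@instOfNatNat (nat_lit 4))) @x5)) (@Cfsg.Agent.KO109d9b9.k4 @x0 (nat_lit 4))) @(fun (x4 : @Eq.{1}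 @Nat @x0 (@OfNat.ofNat.{0} @Nat (nat_lit 3) (@instOfNatNat (nat_lit 3)))) => @Eq.rec.{1, 1} @Nat (nat_lit 3) @(fun (x5 : @Nat) (x6 : @Eq.{1} @Nat (@OfNat.ofNat.{0} @Nat (nat_lit 3) (@instOfNatNat (nat_lit 3))) @x5) => @Nat) (nat_lit 316135199773439064679838769418249352) @x0 (@Eq.symm.{1} @Nat @x0 (@OfNat.ofNat.{0} @Nat (nat_lit 3) (@instOfNatNat (nat_lit 3))) @x4)) (@Cfsg.Agent.KO109d9b9.k4 @x0 (nat_lit 3))) @(fun (x3 : @Eq.{1} @Nat @x0 (@OfNat.ofNat.{0} @Nat (nat_lit 2) (@instOfNatNat (nat_lit 2)))) => @Eq.rec.{1, 1} @Nat (nat_lit 2) @(fun (x4 : @Nat) (x5 : @Eq.{1} @Nat (@OfNat.ofNat.{0} @Nat (nat_lit 2) (@instOfNatNat (nat_lit 2))) @x4) => @Nat) (nat_lit 944112378068428653973304136837505606) @x0 (@Eq.symm.{1} @Nat @x0 (@OfNat.ofNat.{0} @Nat (nat_lit 2) (@instOfNatNat (nat_lit 2))) @x3)) (@Cfsg.Agent.KO109d9b9.k4 @x0 (nat_lit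 2))) @(fun (x2 : @Eq.{1} @Nat @x0 (@OfNat.ofNat.{0} @Nat (nat_lit 1) (@instOfNatNat (nat_lit 1)))) => @Eq.rec.{1, 1} @Nat (nat_lit 1) @(fun (x3 : @Nat) (x4 : @Eq.{1} @Nat (@OfNat.ofNat.{0} @Nat (nat_lit 1) (@instOfNatNat (nat_lit 1))) @x3) => @Nat) (nat_lit 731113300341743120980327113948168290) @x0 (@Eq.symm.{1} @Nat @x0 (@OfNat.ofNat.{0} @Nat (nat_lit 1) (@instOfNatNat (nat_lit 1))) @x2)) (@Cfsg.Agent.KO109d9b9.k4 @x0 (nat_lit 1))) @(fun (x1 : @Eq.{1} @Nat @x0 (@OfNat.ofNat.{0} @Nat (nat_lit 0) (@instOfNatNat (nat_lit 0)))) => @Eq.rec.{1, 1} @Nat (nat_lit 0) @(fun (x2 : @Nat) (x3 : @Eq.{1} @Nat (@OfNat.ofNat.{0} @Nat (nat_lit 0) (@instOfNatNat (nat_lit 0))) @x2) => @Nat) (nat_lit 234127864083396158983920601914215425) @x0 (@Eq.symm.{1} @Nat @x0 (@OfNat.ofNat.{0} @Nat (nat_lit 0) (@instOfNatNat (nat_lit 0))) @x1)) (@Cfsg.Agent.KO109d9b9.k4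 @x0 (nat_lit 0)))) ?_); rewrite [← Cfsg.Agent.KO109d9b9.e4]; rfl') | exact @Cfsg.Agent.CoThreeStd.MTwelve.ptab | exact ()
private theorem _root_.Cfsg.Agent.KO109d9b9.e5 : (by first | exact @Cfsg.Agent.CoThreeStd.MTwelve.ptab = @_root_.Cfsg.Agent.KO109d9b9.k5 | exact True : Prop) := by first | (delta _root_.Cfsg.Agent.KO109d9b9.k5; exact @Subtype.property _ (fun g => @Cfsg.Agent.CoThreeStd.MTwelve.ptab = @g) _) | rfl | trivial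
private noncomputable def _root_.Cfsg.Agent.KO109d9b9.k6 : (by first | exact type_of% @Cfsg.Agent.CoThreeStd.MTwelve.act | exact Unit : Sort _) := by first | (refine @Subtype.val _ (fun g => @Cfsg.Agent.CoThreeStd.MTwelve.act = @g) (@Subtype.mk _ _ (@(fun (x0 : @List.{0} @Nat) (x1 : @Nat) => @List.rec.{1, 0} @Nat @(fun (x2 : @List.{0} @Nat) => (@Nat → @Nat)) @(fun (x2 : @Nat) => x2) @(fun (x2 : @Nat) (x3 : @List.{0} @Nat) (x4 : (@Nat → @Nat)) (x5 : @Nat) => @Nat.mod (@Nat.shiftRight (@Cfsg.Agent.KO109d9b9.k5 @x2) (@Nat.mul (nat_lit 5) (@x4 @x5))) (nat_lit 32)) @x0 @x1)) ?_); rewrite [← Cfsg.Agent.KO109d9b9.e5]; funext a0 a1; refine (congrFun (_root_.Cfsg.Agent.KO109d9b9.e0 (fun a0 a1 => @Cfsg.Agent.CoThreeStd.MTwelve.act a0 a1) ?_ (fun c0 c1 => ?_) a0) a1 :) <;> ((try delta Cfsg.Agent.CoThreeStd.MTwelve.act Cfsg.Agent.CoThreeStd.MTwelve.act._f);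 (try generalize @Cfsg.Agent.CoThreeStd.MTwelve.ptab = g0); rfl')) | exact @Cfsg.Agent.CoThreeStd.MTwelve.act | exact ()
private theorem _root_.Cfsg.Agent.KO109d9b9.e6 : (by first | exact @Cfsg.Agent.CoThreeStd.MTwelve.act = @_root_.Cfsg.Agent.KO109d9b9.k6 | exact True : Prop) := by first | (delta _root_.Cfsg.Agent.KO109d9b9.k6; exact @Subtype.property _ (fun g => @Cfsg.Agent.CoThreeStd.MTwelve.act = @g) _) | rfl | trivial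
private noncomputable def _root_.Cfsg.Agent.KO109d9b9.k7 : (by first | exact type_of% @Cfsg.Agent.CoThreeStd.MTwelve.eqW | exact Unit : Sort _) := by first | (refine @Subtype.val _ (fun g => @Cfsg.Agent.CoThreeStd.MTwelve.eqW = @g) (@Subtype.mk _ _ (@(fun (x0 : @List.{0} @Nat) (x1 : @List.{0} @Nat) => @Cfsg.Agent.KO109d9b9.k3 @(fun (x2 : @Nat) => @Nat.beq (@Cfsg.Agent.KO109d9b9.k6 @x0 @x2) (@Cfsg.Agent.KO109d9b9.k6 @x1 @x2)) (nat_lit 24))) ?_); rewrite [← Cfsg.Agent.KO109d9b9.e6, ← Cfsg.Agent.KO109d9b9.e3]; (try delta Cfsg.Agent.CoThreeStd.MTwelve.eqW); (try generalize @Cfsg.Agent.CoThreeStd.MTwelve.allB = g0); (try generalize @Cfsg.Agent.CoThreeStd.MTwelve.act = g1); rfl') | exact @Cfsg.Agent.CoThreeStd.MTwelve.eqW | exact ()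
private theorem _root_.Cfsg.Agent.KO109d9b9.e7 : (by first | exact @Cfsg.Agent.CoThreeStd.MTwelve.eqW = @_root_.Cfsg.Agent.KO109d9b9.k7 | exact True : Prop) := by first | (delta _root_.Cfsg.Agent.KO109d9b9.k7; exact @Subtype.property _ (fun g => @Cfsg.Agent.CoThreeStd.MTwelve.eqW = @g) _) | rfl | trivial

theorem LV_comm : (LV.all fun x => eqW ([1, 3] ++ x.1) (x.1 ++ [1, 3])) = true := by (first | (rewrite [Cfsg.Agent.KO109d9b9.e1.{0}, Cfsg.Agent.KO109d9b9.e7]; decide +kernel) | decide +kernel)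
private noncomputable def _root_.Cfsg.Agent.KO109d9b9.k8 : (by first | exact type_of% @Cfsg.Agent.H6.M11.qS | exact Unit : Sort _) := by first | (refine @Subtype.val _ (fun g => @Cfsg.Agent.H6.M11.qS = @g) (@Subtype.mk _ _ (@(fun (x0 : @Nat) => @Decidable.rec.{1} (@Eq.{1} @Nat @x0 (@OfNat.ofNat.{0} @Nat (nat_lit 0) (@instOfNatNat (nat_lit 0)))) @(fun (x1 : @Decidable (@Eq.{1} @Nat @x0 (@OfNat.ofNat.{0} @Nat (nat_lit 0) (@instOfNatNat (nat_lit 0))))) => @Nat) @(fun (x1 : @Not (@Eq.{1} @Nat @x0 (@OfNat.ofNat.{0} @Nat (nat_lit 0) (@instOfNatNat (nat_lit 0))))) => @Decidable.rec.{1} (@Eq.{1} @Nat @x0 (@OfNat.ofNat.{0} @Nat (nat_lit 1) (@instOfNatNat (nat_lit 1)))) @(fun (x2 : @Decidable (@Eq.{1} @Nat @x0 (@OfNat.ofNat.{0} @Nat (nat_lit 1) (@instOfNatNat (nat_lit 1))))) => @Nat) @(fun (x2 : @Not (@Eq.{1} @Nat @x0 (@OfNat.ofNat.{0}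 @Nat (nat_lit 1) (@instOfNatNat (nat_lit 1))))) => @Decidable.rec.{1} (@Eq.{1} @Nat @x0 (@OfNat.ofNat.{0} @Nat (nat_lit 2) (@instOfNatNat (nat_lit 2)))) @(fun (x3 : @Decidable (@Eq.{1} @Nat @x0 (@OfNat.ofNat.{0} @Nat (nat_lit 2) (@instOfNatNat (nat_lit 2))))) => @Nat) @(fun (x3 : @Not (@Eq.{1} @Nat @x0 (@OfNat.ofNat.{0} @Nat (nat_lit 2) (@instOfNatNat (nat_lit 2))))) => @Decidable.rec.{1} (@Eq.{1} @Nat @x0 (@OfNat.ofNat.{0} @Nat (nat_lit 3) (@instOfNatNat (nat_lit 3)))) @(fun (x4 : @Decidable (@Eq.{1} @Nat @x0 (@OfNat.ofNat.{0} @Nat (nat_lit 3) (@instOfNatNat (nat_lit 3))))) => @Nat) @(fun (x4 : @Not (@Eq.{1} @Nat @x0 (@OfNat.ofNat.{0} @Nat (nat_lit 3) (@instOfNatNat (nat_lit 3))))) => @Decidable.rec.{1} (@Eq.{1} @Nat @x0 (@OfNat.ofNat.{0} @Nat (nat_lit 4) (@instOfNatNat (nat_lit 4)))) @(fun (x5 : @Decidable (@Eq.{1} @Nat @x0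 (@OfNat.ofNat.{0} @Nat (nat_lit 4) (@instOfNatNat (nat_lit 4))))) => @Nat) @(fun (x5 : @Not (@Eq.{1} @Nat @x0 (@OfNat.ofNat.{0} @Nat (nat_lit 4) (@instOfNatNat (nat_lit 4))))) => @Decidable.rec.{1} (@Eq.{1} @Nat @x0 (@OfNat.ofNat.{0} @Nat (nat_lit 5) (@instOfNatNat (nat_lit 5)))) @(fun (x6 : @Decidable (@Eq.{1} @Nat @x0 (@OfNat.ofNat.{0} @Nat (nat_lit 5) (@instOfNatNat (nat_lit 5))))) => @Nat) @(fun (x6 : @Not (@Eq.{1} @Nat @x0 (@OfNat.ofNat.{0} @Nat (nat_lit 5) (@instOfNatNat (nat_lit 5))))) => nat_lit 944538608299847986500403370965142529) @(fun (x6 : @Eq.{1} @Nat @x0 (@OfNat.ofNat.{0} @Nat (nat_lit 5) (@instOfNatNat (nat_lit 5)))) => @Eq.rec.{1, 1} @Nat (nat_lit 5) @(fun (x7 : @Nat) (x8 : @Eq.{1} @Nat (@OfNat.ofNat.{0} @Nat (nat_lit 5) (@instOfNatNat (nat_lit 5))) @x7) => @Nat) (nat_lit 772730321123296239812015552021903559)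 @x0 (@Eq.symm.{1} @Nat @x0 (@OfNat.ofNat.{0} @Nat (nat_lit 5) (@instOfNatNat (nat_lit 5))) @x6)) (@Cfsg.Agent.KO109d9b9.k4 @x0 (nat_lit 5))) @(fun (x5 : @Eq.{1} @Nat @x0 (@OfNat.ofNat.{0} @Nat (nat_lit 4) (@instOfNatNat (nat_lit 4)))) => @Eq.rec.{1, 1} @Nat (nat_lit 4) @(fun (x6 : @Nat) (x7 : @Eq.{1} @Nat (@OfNat.ofNat.{0} @Nat (nat_lit 4) (@instOfNatNat (nat_lit 4))) @x6) => @Nat) (nat_lit 430038445248998715079147543949711493) @x0 (@Eq.symm.{1} @Nat @x0 (@OfNat.ofNat.{0} @Nat (nat_lit 4) (@instOfNatNat (nat_lit 4))) @x5)) (@Cfsg.Agent.KO109d9b9.k4 @x0 (nat_lit 4))) @(fun (x4 : @Eq.{1} @Nat @x0 (@OfNat.ofNat.{0} @Nat (nat_lit 3) (@instOfNatNat (nat_lit 3)))) => @Eq.rec.{1, 1} @Nat (nat_lit 3) @(fun (x5 : @Nat) (x6 : @Eq.{1} @Nat (@OfNat.ofNat.{0} @Nat (nat_lit 3) (@instOfNatNat (nat_lit 3))) @x5) => @Nat) (nat_lit 858988508355617674147934311568123277)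 @x0 (@Eq.symm.{1} @Nat @x0 (@OfNat.ofNat.{0} @Nat (nat_lit 3) (@instOfNatNat (nat_lit 3))) @x4)) (@Cfsg.Agent.KO109d9b9.k4 @x0 (nat_lit 3))) @(fun (x3 : @Eq.{1} @Nat @x0 (@OfNat.ofNat.{0} @Nat (nat_lit 2) (@instOfNatNat (nat_lit 2)))) => @Eq.rec.{1, 1} @Nat (nat_lit 2) @(fun (x4 : @Nat) (x5 : @Eq.{1} @Nat (@OfNat.ofNat.{0} @Nat (nat_lit 2) (@instOfNatNat (nat_lit 2))) @x4) => @Nat) (nat_lit 429787450429649068311601308113720814) @x0 (@Eq.symm.{1} @Nat @x0 (@OfNat.ofNat.{0} @Nat (nat_lit 2) (@instOfNatNat (nat_lit 2))) @x3)) (@Cfsg.Agent.KO109d9b9.k4 @x0 (nat_lit 2))) @(fun (x2 : @Eq.{1} @Nat @x0 (@OfNat.ofNat.{0} @Nat (nat_lit 1) (@instOfNatNat (nat_lit 1)))) => @Eq.rec.{1, 1} @Nat (nat_lit 1) @(fun (x3 : @Nat) (x4 : @Eq.{1} @Nat (@OfNat.ofNat.{0} @Nat (nat_lit 1) (@instOfNatNat (nat_lit 1))) @x3) => @Nat) (nat_lit 899189550535917157824658560767989893)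 @x0 (@Eq.symm.{1} @Nat @x0 (@OfNat.ofNat.{0} @Nat (nat_lit 1) (@instOfNatNat (nat_lit 1))) @x2)) (@Cfsg.Agent.KO109d9b9.k4 @x0 (nat_lit 1))) @(fun (x1 : @Eq.{1} @Nat @x0 (@OfNat.ofNat.{0} @Nat (nat_lit 0) (@instOfNatNat (nat_lit 0)))) => @Eq.rec.{1, 1} @Nat (nat_lit 0) @(fun (x2 : @Nat) (x3 : @Eq.{1} @Nat (@OfNat.ofNat.{0} @Nat (nat_lit 0) (@instOfNatNat (nat_lit 0))) @x2) => @Nat) (nat_lit 813182281009463176771678216195671138) @x0 (@Eq.symm.{1} @Nat @x0 (@OfNat.ofNat.{0} @Nat (nat_lit 0) (@instOfNatNat (nat_lit 0))) @x1)) (@Cfsg.Agent.KO109d9b9.k4 @x0 (nat_lit 0)))) ?_); rewrite [← Cfsg.Agent.KO109d9b9.e4]; rfl') | exact @Cfsg.Agent.H6.M11.qS | exact ()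
private theorem _root_.Cfsg.Agent.KO109d9b9.e8 : (by first | exact @Cfsg.Agent.H6.M11.qS = @_root_.Cfsg.Agent.KO109d9b9.k8 | exact True : Prop) := by first | (delta _root_.Cfsg.Agent.KO109d9b9.k8; exact @Subtype.property _ (fun g => @Cfsg.Agent.H6.M11.qS = @g) _) | rfl | trivial
private noncomputable def _root_.Cfsg.Agent.KO109d9b9.k9 : (by first | exact type_of% @Cfsg.Agent.H6.M11.aS | exact Unit : Sort _) := by first | (refine @Subtype.val _ (fun g => @Cfsg.Agent.H6.M11.aS = @g) (@Subtype.mk _ _ (@(fun (x0 : @List.{0} @Nat) (x1 : @Nat) => @List.rec.{1, 0} @Nat @(fun (x2 : @List.{0} @Nat) => (@Nat → @Nat)) @(fun (x2 : @Nat) => x2) @(fun (x2 : @Nat) (x3 : @List.{0} @Nat) (x4 : (@Nat → @Nat)) (x5 : @Nat) => @Nat.mod (@Nat.shiftRight (@Cfsg.Agent.KO109d9b9.k8 @x2) (@Nat.mul (nat_lit 5) (@x4 @x5))) (nat_lit 32)) @x0 @x1)) ?_);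 rewrite [← Cfsg.Agent.KO109d9b9.e8]; funext a0 a1; refine (congrFun (_root_.Cfsg.Agent.KO109d9b9.e0 (fun a0 a1 => @Cfsg.Agent.H6.M11.aS a0 a1) ?_ (fun c0 c1 => ?_) a0) a1 :) <;> ((try delta Cfsg.Agent.H6.M11.aS Cfsg.Agent.H6.M11.aS._f); (try generalize @Cfsg.Agent.H6.M11.qS = g0); rfl')) | exact @Cfsg.Agent.H6.M11.aS | exact ()
private theorem _root_.Cfsg.Agent.KO109d9b9.e9 : (by first | exact @Cfsg.Agent.H6.M11.aS = @_root_.Cfsg.Agent.KO109d9b9.k9 | exact True : Prop) := by first | (delta _root_.Cfsg.Agent.KO109d9b9.k9; exact @Subtype.property _ (fun g => @Cfsg.Agent.H6.M11.aS = @g) _) | rfl | trivial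
private noncomputable def _root_.Cfsg.Agent.KO109d9b9.k10.{ku0} : ((x0 : Sort (ku0+1)) → ((@List.{ku0} @x0) → ((@List.{ku0} @x0) → @List.{ku0} @x0))) := @(fun (x0 : Sort (ku0+1)) (x1 : @List.{ku0} @x0) (x2 : @List.{ku0} @x0) => @List.rec.{(ku0+1), ku0} @x0 @(fun (x3 : @List.{ku0} @x0) => ((@List.{ku0} @x0) → @List.{ku0} @x0)) @(fun (x3 : @List.{ku0} @x0) => x3) @(fun (x3 : x0) (x4 : @List.{ku0} @x0) (x5 : ((@List.{ku0} @x0) → @List.{ku0} @x0)) (x6 : @List.{ku0} @x0) => @List.cons.{ku0} @x0 @x3 (@x5 @x6)) @x1 @x2)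
private theorem _root_.Cfsg.Agent.KO109d9b9.e10.{ku0} : @List.append.{ku0} = @_root_.Cfsg.Agent.KO109d9b9.k10.{ku0} := by delta _root_.Cfsg.Agent.KO109d9b9.k10; funext a0 a1 a2; refine (congrFun (_root_.Cfsg.Agent.KO109d9b9.e0 (fun a1 a2 => @List.append.{ku0} a0 a1 a2) ?_ (fun c0 c1 => ?_) a1) a2 :) <;> (rfl')
private noncomputable def _root_.Cfsg.Agent.KO109d9b9.k11 : (by first | exact type_of% @Cfsg.Agent.H6.M11.tyB | exact Unit : Sort _) := by first | (refine @Subtype.val _ (fun g => @Cfsg.Agent.H6.M11.tyB = @g) (@Subtype.mk _ _ (@(fun (x0 : @List.{0} @Nat) (x1 : @Nat) (x2 : @List.{0} @Nat) (x3 : @List.{0} @Nat) => @Decidable.rec.{1} (@Eq.{1} @Nat @x1 (@OfNat.ofNat.{0} @Nat (nat_lit 0) (@instOfNatNat (nat_lit 0)))) @(fun (x4 : @Decidable (@Eq.{1} @Nat @x1 (@OfNat.ofNat.{0} @Nat (nat_lit 0) (@instOfNatNat (nat_lit 0)))))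 => @Bool) @(fun (x4 : @Not (@Eq.{1} @Nat @x1 (@OfNat.ofNat.{0} @Nat (nat_lit 0) (@instOfNatNat (nat_lit 0))))) => @Decidable.rec.{1} (@Eq.{1} @Nat @x1 (@OfNat.ofNat.{0} @Nat (nat_lit 1) (@instOfNatNat (nat_lit 1)))) @(fun (x5 : @Decidable (@Eq.{1} @Nat @x1 (@OfNat.ofNat.{0} @Nat (nat_lit 1) (@instOfNatNat (nat_lit 1))))) => @Bool) @(fun (x5 : @Not (@Eq.{1} @Nat @x1 (@OfNat.ofNat.{0} @Nat (nat_lit 1) (@instOfNatNat (nat_lit 1))))) => @Decidable.rec.{1} (@Eq.{1} @Nat @x1 (@OfNat.ofNat.{0} @Nat (nat_lit 2) (@instOfNatNat (nat_lit 2)))) @(fun (x6 : @Decidable (@Eq.{1} @Nat @x1 (@OfNat.ofNat.{0} @Nat (nat_lit 2) (@instOfNatNat (nat_lit 2))))) => @Bool) @(fun (x6 : @Not (@Eq.{1} @Nat @x1 (@OfNat.ofNat.{0} @Nat (nat_lit 2) (@instOfNatNat (nat_lit 2))))) => @Decidable.rec.{1} (@Eq.{1} @Nat @x1 (@OfNat.ofNat.{0} @Nat (nat_lit 3) (@instOfNatNat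 (nat_lit 3)))) @(fun (x7 : @Decidable (@Eq.{1} @Nat @x1 (@OfNat.ofNat.{0} @Nat (nat_lit 3) (@instOfNatNat (nat_lit 3))))) => @Bool) @(fun (x7 : @Not (@Eq.{1} @Nat @x1 (@OfNat.ofNat.{0} @Nat (nat_lit 3) (@instOfNatNat (nat_lit 3))))) => @Bool.rec.{1} @(fun (x8 : @Bool) => @Bool) (@Cfsg.Agent.KO109d9b9.k3 @(fun (x8 : @Nat) => @Nat.beq (@Cfsg.Agent.KO109d9b9.k9 (@Cfsg.Agent.KO109d9b9.k10.{0} @Nat @x2 @x0) @x8) (@Cfsg.Agent.KO109d9b9.k9 (@List.cons.{0} @Nat (nat_lit 6) (@Cfsg.Agent.KO109d9b9.k10.{0} @Nat @Cfsg.Agent.H6.M11.w20 @x2)) @x8)) (nat_lit 24)) @Bool.true (@Cfsg.Agent.KO109d9b9.k3 @(fun (x8 : @Nat) => @Nat.beq (@Cfsg.Agent.KO109d9b9.k9 (@Cfsg.Agent.KO109d9b9.k10.{0} @Nat @x2 @x0) @x8) (@Cfsg.Agent.KO109d9b9.k9 (@Cfsg.Agent.KO109d9b9.k10.{0} @Nat @Cfsg.Agent.H6.M11.w20 @x2) @x8)) (nat_lit 24))) @(fun (x7 : @Eq.{1} @Nat @x1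 (@OfNat.ofNat.{0} @Nat (nat_lit 3) (@instOfNatNat (nat_lit 3)))) => @Eq.rec.{1, 1} @Nat (nat_lit 3) @(fun (x8 : @Nat) (x9 : @Eq.{1} @Nat (@OfNat.ofNat.{0} @Nat (nat_lit 3) (@instOfNatNat (nat_lit 3))) @x8) => @Bool) (@Bool.rec.{1} @(fun (x8 : @Bool) => @Bool) @Bool.false (@Cfsg.Agent.KO109d9b9.k3 @(fun (x8 : @Nat) => @Nat.beq (@Cfsg.Agent.KO109d9b9.k9 (@Cfsg.Agent.KO109d9b9.k10.{0} @Nat @x2 @x0) @x8) (@Cfsg.Agent.KO109d9b9.k9 (@Cfsg.Agent.KO109d9b9.k10.{0} @Nat @x0 (@Cfsg.Agent.KO109d9b9.k10.{0} @Nat @x0 (@Cfsg.Agent.KO109d9b9.k10.{0} @Nat @x0 @x2))) @x8)) (nat_lit 24)) (@Cfsg.Agent.KO109d9b9.k3 @(fun (x8 : @Nat) => @Nat.beq (@Cfsg.Agent.KO109d9b9.k9 (@Cfsg.Agent.KO109d9b9.k10.{0} @Nat @x0 (@Cfsg.Agent.KO109d9b9.k10.{0} @Nat @x0 (@Cfsg.Agent.KO109d9b9.k10.{0} @Nat @x0 (@Cfsg.Agent.KO109d9b9.k10.{0} @Nat @x0 (@Cfsg.Agent.KO109d9b9.k10.{0}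 @Nat @x0 (@Cfsg.Agent.KO109d9b9.k10.{0} @Nat @x0 (@Cfsg.Agent.KO109d9b9.k10.{0} @Nat @x0 (@Cfsg.Agent.KO109d9b9.k10.{0} @Nat @x0 (@Cfsg.Agent.KO109d9b9.k10.{0} @Nat @x0 @x0))))))))) @x8) (@Cfsg.Agent.KO109d9b9.k9 (@List.nil.{0} @Nat) @x8)) (nat_lit 24))) @x1 (@Eq.symm.{1} @Nat @x1 (@OfNat.ofNat.{0} @Nat (nat_lit 3) (@instOfNatNat (nat_lit 3))) @x7)) (@Cfsg.Agent.KO109d9b9.k4 @x1 (nat_lit 3))) @(fun (x6 : @Eq.{1} @Nat @x1 (@OfNat.ofNat.{0} @Nat (nat_lit 2) (@instOfNatNat (nat_lit 2)))) => @Eq.rec.{1, 1} @Nat (nat_lit 2) @(fun (x7 : @Nat) (x8 : @Eq.{1} @Nat (@OfNat.ofNat.{0} @Nat (nat_lit 2) (@instOfNatNat (nat_lit 2))) @x7) => @Bool) (@Bool.rec.{1} @(fun (x7 : @Bool) => @Bool) @Bool.false (@Cfsg.Agent.KO109d9b9.k3 @(fun (x7 : @Nat) => @Nat.beq (@Cfsg.Agent.KO109d9b9.k9 @x3 @x7) (@Cfsg.Agent.KO109d9b9.k9 (@List.cons.{0} @Nat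 (nat_lit 6) (@Cfsg.Agent.KO109d9b9.k10.{0} @Nat @x0 (@Cfsg.Agent.KO109d9b9.k10.{0} @Nat @x3 @x0))) @x7)) (nat_lit 24)) (@Bool.rec.{1} @(fun (x7 : @Bool) => @Bool) @Bool.false (@Cfsg.Agent.KO109d9b9.k3 @(fun (x7 : @Nat) => @Nat.beq (@Cfsg.Agent.KO109d9b9.k9 (@Cfsg.Agent.KO109d9b9.k10.{0} @Nat @x2 @x0) @x7) (@Cfsg.Agent.KO109d9b9.k9 (@Cfsg.Agent.KO109d9b9.k10.{0} @Nat @x0 (@Cfsg.Agent.KO109d9b9.k10.{0} @Nat @x0 (@Cfsg.Agent.KO109d9b9.k10.{0} @Nat @x0 @x2))) @x7)) (nat_lit 24)) (@Cfsg.Agent.KO109d9b9.k3 @(fun (x7 : @Nat) => @Nat.beq (@Cfsg.Agent.KO109d9b9.k9 (@Cfsg.Agent.KO109d9b9.k10.{0} @Nat @x0 (@Cfsg.Agent.KO109d9b9.k10.{0} @Nat @x0 (@Cfsg.Agent.KO109d9b9.k10.{0} @Nat @x0 (@Cfsg.Agent.KO109d9b9.k10.{0} @Nat @x0 (@Cfsg.Agent.KO109d9b9.k10.{0} @Nat @x0 (@Cfsg.Agent.KO109d9b9.k10.{0} @Nat @x0 (@Cfsg.Agent.KO109d9b9.k10.{0} @Nat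 @x0 @x0))))))) @x7) (@Cfsg.Agent.KO109d9b9.k9 (@List.nil.{0} @Nat) @x7)) (nat_lit 24)))) @x1 (@Eq.symm.{1} @Nat @x1 (@OfNat.ofNat.{0} @Nat (nat_lit 2) (@instOfNatNat (nat_lit 2))) @x6)) (@Cfsg.Agent.KO109d9b9.k4 @x1 (nat_lit 2))) @(fun (x5 : @Eq.{1} @Nat @x1 (@OfNat.ofNat.{0} @Nat (nat_lit 1) (@instOfNatNat (nat_lit 1)))) => @Eq.rec.{1, 1} @Nat (nat_lit 1) @(fun (x6 : @Nat) (x7 : @Eq.{1} @Nat (@OfNat.ofNat.{0} @Nat (nat_lit 1) (@instOfNatNat (nat_lit 1))) @x6) => @Bool) (@Bool.rec.{1} @(fun (x6 : @Bool) => @Bool) @Bool.false (@Cfsg.Agent.KO109d9b9.k3 @(fun (x6 : @Nat) => @Nat.beq (@Cfsg.Agent.KO109d9b9.k9 @x2 @x6) (@Cfsg.Agent.KO109d9b9.k9 (@Cfsg.Agent.KO109d9b9.k10.{0} @Nat @x0 (@Cfsg.Agent.KO109d9b9.k10.{0} @Nat @x2 @x0)) @x6)) (nat_lit 24)) (@Cfsg.Agent.KO109d9b9.k3 @(fun (x6 : @Nat) => @Nat.beq (@Cfsg.Agent.KO109d9b9.k9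 (@Cfsg.Agent.KO109d9b9.k10.{0} @Nat @x0 (@Cfsg.Agent.KO109d9b9.k10.{0} @Nat @x0 (@Cfsg.Agent.KO109d9b9.k10.{0} @Nat @x0 (@Cfsg.Agent.KO109d9b9.k10.{0} @Nat @x0 (@Cfsg.Agent.KO109d9b9.k10.{0} @Nat @x0 @x0))))) @x6) (@Cfsg.Agent.KO109d9b9.k9 (@List.nil.{0} @Nat) @x6)) (nat_lit 24))) @x1 (@Eq.symm.{1} @Nat @x1 (@OfNat.ofNat.{0} @Nat (nat_lit 1) (@instOfNatNat (nat_lit 1))) @x5)) (@Cfsg.Agent.KO109d9b9.k4 @x1 (nat_lit 1))) @(fun (x4 : @Eq.{1} @Nat @x1 (@OfNat.ofNat.{0} @Nat (nat_lit 0) (@instOfNatNat (nat_lit 0)))) => @Eq.rec.{1, 1} @Nat (nat_lit 0) @(fun (x5 : @Nat) (x6 : @Eq.{1} @Nat (@OfNat.ofNat.{0} @Nat (nat_lit 0) (@instOfNatNat (nat_lit 0))) @x5) => @Bool) (@Cfsg.Agent.KO109d9b9.k3 @(fun (x5 : @Nat) => @Nat.beq (@Cfsg.Agent.KO109d9b9.k9 (@Cfsg.Agent.KO109d9b9.k10.{0} @Nat @x2 @x0) @x5) (@Cfsg.Agent.KO109d9b9.k9 (@List.cons.{0}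 @Nat (nat_lit 6) (@Cfsg.Agent.KO109d9b9.k10.{0} @Nat @x0 @x2)) @x5)) (nat_lit 24)) @x1 (@Eq.symm.{1} @Nat @x1 (@OfNat.ofNat.{0} @Nat (nat_lit 0) (@instOfNatNat (nat_lit 0))) @x4)) (@Cfsg.Agent.KO109d9b9.k4 @x1 (nat_lit 0)))) ?_); rewrite [← Cfsg.Agent.KO109d9b9.e4, ← Cfsg.Agent.KO109d9b9.e10.{0}, ← Cfsg.Agent.KO109d9b9.e9, ← Cfsg.Agent.KO109d9b9.e3]; (try delta Cfsg.Agent.H6.M11.tyB Cfsg.Agent.H6.M11.eqG); (try generalize @Cfsg.Agent.CoThreeStd.MTwelve.allB = g0); (try generalize @Cfsg.Agent.H6.M11.aS = g1); (try generalize @Cfsg.Agent.H6.M11.w20 = g2); rfl') | exact @Cfsg.Agent.H6.M11.tyB | exact ()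
private theorem _root_.Cfsg.Agent.KO109d9b9.e11 : (by first | exact @Cfsg.Agent.H6.M11.tyB = @_root_.Cfsg.Agent.KO109d9b9.k11 | exact True : Prop) := by first | (delta _root_.Cfsg.Agent.KO109d9b9.k11; exact @Subtype.property _ (fun g => @Cfsg.Agent.H6.M11.tyB = @g) _) | rfl | trivial

theorem LV_ty : (LV.all fun x => tyB x.1 x.2.1 x.2.2.1 x.2.2.2) = true := by (first | (rewrite [Cfsg.Agent.KO109d9b9.e1.{0}, Cfsg.Agent.KO109d9b9.e11]; decide +kernel) | decide +kernel)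
theorem LY_len : LY.length = 240 := by decide +kernel
theorem LY_comm : (LY.all fun x => eqW ([0] ++ x.1) (x.1 ++ [0])) = true := by (first | (rewrite [Cfsg.Agent.KO109d9b9.e1.{0}, Cfsg.Agent.KO109d9b9.e7]; decide +kernel) | decide +kernel)
theorem LY_ty : (LY.all fun x => tyB x.1 x.2.1 x.2.2.1 x.2.2.2) = true := by (first | (rewrite [Cfsg.Agent.KO109d9b9.e1.{0}, Cfsg.Agent.KO109d9b9.e11]; decide +kernel) | decide +kernel)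
private noncomputable def _root_.Cfsg.Agent.KO109d9b9.k12.{ku0} : ((x0 : Sort (ku0+1)) → ((@List.{ku0} (@List.{ku0} @x0)) → @List.{ku0} @x0)) := @(fun (x0 : Sort (ku0+1)) (x1 : @List.{ku0} (@List.{ku0} @x0)) => @List.rec.{(ku0+1), ku0} (@List.{ku0} @x0) @(fun (x2 : @List.{ku0} (@List.{ku0} @x0)) => @List.{ku0} @x0) (@List.nil.{ku0} @x0) @(fun (x2 : @List.{ku0} @x0) (x3 : @List.{ku0} (@List.{ku0} @x0)) (x4 : @List.{ku0} @x0) => @Cfsg.Agent.KO109d9b9.k10.{ku0} @x0 @x2 @x4) @x1)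
private theorem _root_.Cfsg.Agent.KO109d9b9.e12.{ku0} : @List.flatten.{ku0} = @_root_.Cfsg.Agent.KO109d9b9.k12.{ku0} := by delta _root_.Cfsg.Agent.KO109d9b9.k12; rewrite [← Cfsg.Agent.KO109d9b9.e10.{ku0}]; funext a0 a1; refine (_root_.Cfsg.Agent.KO109d9b9.e0 (fun a1 => @List.flatten.{ku0} a0 a1) ?_ (fun c0 c1 => ?_) a1 :) <;> (rfl')
private noncomputable def _root_.Cfsg.Agent.KO109d9b9.k13.{ku0, ku1} : ((x0 : Sort (ku0+1)) → ((x1 : Sort (ku1+1)) → ((x0 → x1) → ((@List.{ku0} @x0) → @List.{ku1} @x1)))) := @(fun (x0 : Sort (ku0+1)) (x1 : Sort (ku1+1)) (x2 : (x0 → x1)) (x3 : @List.{ku0} @x0) => @List.rec.{(ku1+1), ku0} @x0 @(fun (x4 : @List.{ku0} @x0) => @List.{ku1} @x1) (@List.nil.{ku1} @x1) @(fun (x4 : x0) (x5 : @List.{ku0} @x0) (x6 : @List.{ku1} @x1) => @List.cons.{ku1} @x1 (@x2 @x4) @x6) @x3)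
private theorem _root_.Cfsg.Agent.KO109d9b9.e13.{ku0, ku1} : @List.map.{ku0, ku1} = @_root_.Cfsg.Agent.KO109d9b9.k13.{ku0, ku1} := by delta _root_.Cfsg.Agent.KO109d9b9.k13; funext a0 a1 a2 a3; refine (_root_.Cfsg.Agent.KO109d9b9.e0 (fun a3 => @List.map.{ku0, ku1} a0 a1 a2 a3) ?_ (fun c0 c1 => ?_) a3 :) <;> (rfl')
private noncomputable def _root_.Cfsg.Agent.KO109d9b9.k14 : (by first | exact type_of% @Cfsg.Agent.H6.M11.GT | exact Unit : Sort _) := by first | (refine @Subtype.val _ (fun g => @Cfsg.Agent.H6.M11.GT = @g) (@Subtype.mk _ _ (@(fun (x0 : @Nat) => @Decidable.rec.{1} (@Eq.{1} @Nat @x0 (@OfNat.ofNat.{0} @Nat (nat_lit 0) (@instOfNatNat (nat_lit 0)))) @(fun (x1 : @Decidable (@Eq.{1} @Nat @x0 (@OfNat.ofNat.{0} @Nat (nat_lit 0) (@instOfNatNat (nat_lit 0))))) => @List.{0} @Nat) @(fun (x1 : @Not (@Eq.{1} @Nat @x0 (@OfNat.ofNat.{0}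 @Nat (nat_lit 0) (@instOfNatNat (nat_lit 0))))) => @List.cons.{0} @Nat (nat_lit 1) (@List.cons.{0} @Nat (nat_lit 0) (@List.cons.{0} @Nat (nat_lit 5) (@List.cons.{0} @Nat (nat_lit 4) (@List.nil.{0} @Nat))))) @(fun (x1 : @Eq.{1} @Nat @x0 (@OfNat.ofNat.{0} @Nat (nat_lit 0) (@instOfNatNat (nat_lit 0)))) => @Eq.rec.{1, 1} @Nat (nat_lit 0) @(fun (x2 : @Nat) (x3 : @Eq.{1} @Nat (@OfNat.ofNat.{0} @Nat (nat_lit 0) (@instOfNatNat (nat_lit 0))) @x2) => @List.{0} @Nat) (@List.cons.{0} @Nat (nat_lit 2) (@List.cons.{0} @Nat (nat_lit 3) (@List.nil.{0} @Nat))) @x0 (@Eq.symm.{1} @Nat @x0 (@OfNat.ofNat.{0} @Nat (nat_lit 0) (@instOfNatNat (nat_lit 0))) @x1)) (@Cfsg.Agent.KO109d9b9.k4 @x0 (nat_lit 0)))) ?_); rewrite [← Cfsg.Agent.KO109d9b9.e4]; rfl') | exact @Cfsg.Agent.H6.M11.GT | exact ()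
private theorem _root_.Cfsg.Agent.KO109d9b9.e14 : (by first | exact @Cfsg.Agent.H6.M11.GT = @_root_.Cfsg.Agent.KO109d9b9.k14 | exact True : Prop) := by first | (delta _root_.Cfsg.Agent.KO109d9b9.k14; exact @Subtype.property _ (fun g => @Cfsg.Agent.H6.M11.GT = @g) _) | rfl | trivial
private noncomputable def _root_.Cfsg.Agent.KO109d9b9.k15 : (by first | exact type_of% @Cfsg.Agent.H6.M11.ex3 | exact Unit : Sort _) := by first | (refine @Subtype.val _ (fun g => @Cfsg.Agent.H6.M11.ex3 = @g) (@Subtype.mk _ _ (@(fun (x0 : @List.{0} @Nat) => @Cfsg.Agent.KO109d9b9.k12.{0} @Nat (@Cfsg.Agent.KO109d9b9.k13.{0, 0} @Nat (@List.{0} @Nat) @Cfsg.Agent.KO109d9b9.k14 @x0))) ?_); rewrite [← Cfsg.Agent.KO109d9b9.e14, ← Cfsg.Agent.KO109d9b9.e13.{0, 0}, ← Cfsg.Agent.KO109d9b9.e12.{0}]; (try delta Cfsg.Agent.H6.M11.ex3); (try generalize @Cfsg.Agent.H6.M11.GT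 = g0); rfl') | exact @Cfsg.Agent.H6.M11.ex3 | exact ()
private theorem _root_.Cfsg.Agent.KO109d9b9.e15 : (by first | exact @Cfsg.Agent.H6.M11.ex3 = @_root_.Cfsg.Agent.KO109d9b9.k15 | exact True : Prop) := by first | (delta _root_.Cfsg.Agent.KO109d9b9.k15; exact @Subtype.property _ (fun g => @Cfsg.Agent.H6.M11.ex3 = @g) _) | rfl | trivial

theorem LT_ty : (LT.all fun x => tyB (ex3 x.1) x.2.1 x.2.2.1 x.2.2.2) = true := by (first | (rewrite [Cfsg.Agent.KO109d9b9.e1.{0}, Cfsg.Agent.KO109d9b9.e11, Cfsg.Agent.KO109d9b9.e15]; decide +kernel) | decide +kernel)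
theorem LT_eq : LT.map (fun x => x.1) = CT.map fun x => x.1 := by decide +kernel

/-- strictly increasing signatures -/
def incrT : ℕ → List (List ℕ × ℕ × List ℕ × List ℕ) → Bool
  | _, [] => true
  | a, x :: l => Nat.blt a (CoThreeStd.MTwelve.sig x.1 24) && incrT (CoThreeStd.MTwelve.sig x.1 24) l

theorem incrT_lt : ∀ {l : List (List ℕ × ℕ × List ℕ × List ℕ)} {a : ℕ}, incrT a l = true →
    ∀ m ∈ l, a < CoThreeStd.MTwelve.sig m.1 24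
  | [], _, _, m, hm => by simp at hm
  | m' :: l, a, h, m, hm => by
    rw [incrT, Bool.and_eq_true] at h
    have h1 : a < CoThreeStd.MTwelve.sig m'.1 24 := by simpa [Nat.blt] using h.1
    rcases List.mem_cons.mp hm with rfl | hm
    · exact h1
    · exact h1.trans (incrT_lt h.2 m hm)

theorem incrT_pairwise : ∀ {l : List (List ℕ × ℕ × List ℕ × List ℕ)} {a : ℕ}, incrT a l = true →
    l.Pairwise (fun m m' => CoThreeStd.MTwelve.sig m.1 24 < CoThreeStd.MTwelve.sig m'.1 24)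
  | [], _, _ => List.Pairwise.nil
  | m :: l, a, h => by
    rw [incrT, Bool.and_eq_true] at h
    exact List.Pairwise.cons (fun m' hm' => incrT_lt h.2 m' hm') (incrT_pairwise h.2)

theorem incrT_inj {l : List (List ℕ × ℕ × List ℕ × List ℕ)} {a : ℕ} (h : incrT a l = true) :
    Function.Injective fun i : Fin l.length => wd (l[i.1]).1 := by
  have hp := List.pairwise_iff_getElem.mp (incrT_pairwise h)
  intro i j hij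
  have h5 := sig_eq hij 24 le_rfl
  by_contra hne
  rcases lt_or_gt_of_ne (fun h6 => hne (Fin.ext h6)) with h6 | h6
  · exact absurd h5 (hp i.1 j.1 i.2 j.2 h6).ne
  · exact absurd h5 (hp j.1 i.1 j.2 i.2 h6).ne'

private noncomputable def _root_.Cfsg.Agent.KO109d9b9.k16 : (by first | exact type_of% @Cfsg.Agent.CoThreeStd.MTwelve.sig | exact Unit : Sort _) := by first | (refine @Subtype.val _ (fun g => @Cfsg.Agent.CoThreeStd.MTwelve.sig = @g) (@Subtype.mk _ _ (@(fun (x0 : @List.{0} @Nat) (x1 : @Nat) => @Nat.rec.{1} @(fun (x2 : @Nat) => @Nat) (nat_lit 0) @(fun (x2 : @Nat) (x3 : @Nat) => @Nat.add (@Nat.mul @x3 (nat_lit 32)) (@Cfsg.Agent.KO109d9b9.k6 @x0 @x2)) @x1)) ?_); rewrite [← Cfsg.Agent.KO109d9b9.e6]; funext a0 a1; refine (_root_.Cfsg.Agent.KO109d9b9.e2 (fun a1 => @Cfsg.Agent.CoThreeStd.MTwelve.sig a0 a1) ?_ (fun c0 => ?_)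 a1 :) <;> ((try delta Cfsg.Agent.CoThreeStd.MTwelve.sig Cfsg.Agent.CoThreeStd.MTwelve.sig._f); (try generalize @Cfsg.Agent.CoThreeStd.MTwelve.act = g0); rfl')) | exact @Cfsg.Agent.CoThreeStd.MTwelve.sig | exact ()
private theorem _root_.Cfsg.Agent.KO109d9b9.e16 : (by first | exact @Cfsg.Agent.CoThreeStd.MTwelve.sig = @_root_.Cfsg.Agent.KO109d9b9.k16 | exact True : Prop) := by first | (delta _root_.Cfsg.Agent.KO109d9b9.k16; exact @Subtype.property _ (fun g => @Cfsg.Agent.CoThreeStd.MTwelve.sig = @g) _) | rfl | trivial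
private noncomputable def _root_.Cfsg.Agent.KO109d9b9.k17 : (by first | exact type_of% @Cfsg.Agent.H6.M11.incrT | exact Unit : Sort _) := by first | (refine @Subtype.val _ (fun g => @Cfsg.Agent.H6.M11.incrT = @g) (@Subtype.mk _ _ (@(fun (x0 : @Nat) (x1 : @List.{0} (@Prod.{0, 0} (@List.{0} @Nat) (@Prod.{0, 0} @Nat (@Prod.{0, 0} (@List.{0} @Nat) (@List.{0} @Nat))))) => @List.rec.{1, 0} (@Prod.{0, 0} (@List.{0} @Nat) (@Prod.{0, 0} @Nat (@Prod.{0, 0} (@List.{0} @Nat) (@List.{0} @Nat)))) @(fun (x2 : @List.{0} (@Prod.{0, 0} (@List.{0} @Nat) (@Prod.{0, 0} @Nat (@Prod.{0, 0} (@List.{0} @Nat) (@List.{0} @Nat))))) => (@Nat → @Bool)) @(fun (x2 : @Nat) => @Bool.true) @(fun (x2 : @Prod.{0, 0} (@List.{0} @Nat) (@Prod.{0, 0} @Nat (@Prod.{0, 0} (@List.{0} @Nat) (@List.{0} @Nat)))) (x3 : @List.{0} (@Prod.{0, 0} (@List.{0} @Nat) (@Prod.{0, 0}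 @Nat (@Prod.{0, 0} (@List.{0} @Nat) (@List.{0} @Nat))))) (x4 : (@Nat → @Bool)) (x5 : @Nat) => @Bool.rec.{1} @(fun (x6 : @Bool) => @Bool) @Bool.false (@x4 (@Cfsg.Agent.KO109d9b9.k16 (@Prod.fst.{0, 0} (@List.{0} @Nat) (@Prod.{0, 0} @Nat (@Prod.{0, 0} (@List.{0} @Nat) (@List.{0} @Nat))) @x2) (nat_lit 24))) (@Nat.ble (@Nat.succ @x5) (@Cfsg.Agent.KO109d9b9.k16 (@Prod.fst.{0, 0} (@List.{0} @Nat) (@Prod.{0, 0} @Nat (@Prod.{0, 0} (@List.{0} @Nat) (@List.{0} @Nat))) @x2) (nat_lit 24)))) @x1 @x0)) ?_); rewrite [← Cfsg.Agent.KO109d9b9.e16]; funext a0 a1; refine (congrFun (_root_.Cfsg.Agent.KO109d9b9.e0 (fun a1 a0 => @Cfsg.Agent.H6.M11.incrT a0 a1) ?_ (fun c0 c1 => ?_) a1) a0 :) <;> ((try delta Cfsg.Agent.H6.M11.incrT Cfsg.Agent.H6.M11.incrT._f); (try generalize @Cfsg.Agent.CoThreeStd.MTwelve.sig = g0); rfl')) | exact @Cfsg.Agent.H6.M11.incrT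 | exact ()
private theorem _root_.Cfsg.Agent.KO109d9b9.e17 : (by first | exact @Cfsg.Agent.H6.M11.incrT = @_root_.Cfsg.Agent.KO109d9b9.k17 | exact True : Prop) := by first | (delta _root_.Cfsg.Agent.KO109d9b9.k17; exact @Subtype.property _ (fun g => @Cfsg.Agent.H6.M11.incrT = @g) _) | rfl | trivial

theorem LV_incr : incrT 0 LV = true := by (first | (rewrite [Cfsg.Agent.KO109d9b9.e17]; decide +kernel) | decide +kernel)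
theorem LY_incr : incrT 0 LY = true := by (first | (rewrite [Cfsg.Agent.KO109d9b9.e17]; decide +kernel) | decide +kernel)

/-- a list exhausts a centralizer -/
theorem cover_list {L : List (List ℕ × ℕ × List ℕ × List ℕ)} {u : List ℕ} (hi : incrT 0 L = true)
    (hc : (L.all fun x => eqW (u ++ x.1) (x.1 ++ u)) = true)
    (hlen : Nat.card (Subgroup.centralizer {wd u} : Subgroup H) ≤ L.length) {g : H}
    (hg : g ∈ (Subgroup.centralizer {wd u} : Subgroup H)) : ∃ x ∈ L, wd x.1 = g := by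
  let f : Fin L.length → (Subgroup.centralizer {wd u} : Subgroup H) := fun i => ⟨wd (L[i.1]).1, by
    rw [Subgroup.mem_centralizer_iff]
    rintro _ rfl
    have h1 := List.all_eq_true.1 hc _ (List.getElem_mem i.2)
    have h2 := wd_eq h1
    rwa [wd_append, wd_append] at h2⟩
  have hf : Function.Injective f := by
    intro i j hij
    exact incrT_inj hi (congrArg Subtype.val hij)
  have hb := Function.Injective.bijective_of_nat_card_le hf (by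
    rw [Nat.card_eq_fintype_card (α := Fin L.length), Fintype.card_fin]
    exact hlen)
  obtain ⟨i, hi'⟩ := hb.2 ⟨g, hg⟩
  exact ⟨_, List.getElem_mem i.2, congrArg Subtype.val hi'⟩

/-- the classification of the elements of the group of degree 12 -/
theorem classify (g : H) : (∃ m : H, m * g * m⁻¹ ∈ (Subgroup.centralizer {wd [0]} : Subgroup H)) ∨
    (∃ m : H, m * g * m⁻¹ ∈ (Subgroup.centralizer {wd [1, 3]} : Subgroup H)) ∨ (∃ m : H, m * g * m⁻¹ ∈ K3) ∨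
    (∃ m : H, m * g * m⁻¹ ∈ Subgroup.zpowers (ev vH [6])) ∨ (∃ m : H, m * g * m⁻¹ ∈ Subgroup.zpowers (ev vH [5])) := by
  obtain ⟨Δ, _, S⟩ := H354.TwoM12.exists_sh (T := H) ⟨MulEquiv.refl _⟩
  have hpos : 0 < orderOf g := orderOf_pos g
  have hdvd : orderOf g ∣ 95040 := by rw [← card_H]; exact orderOf_dvd_natCard g
  by_cases h2 : 2 ∣ orderOf g
  · -- even order
    obtain ⟨m, hm⟩ := h2
    have hm0 : 0 < m := by omega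
    have hz1 : g ^ m ≠ 1 := by
      intro h
      have := orderOf_dvd_of_pow_eq_one h
      have := Nat.le_of_dvd hm0 this
      omega
    have hz2 : g ^ m * g ^ m = 1 := by rw [← pow_add, ← two_mul, ← hm, pow_orderOf_eq_one]
    have hcomm : g * g ^ m = g ^ m * g := (Commute.refl g).pow_right m
    have key : ∀ (u c : H), c⁻¹ * u * c = g ^ m → (c * g * c⁻¹) * u = u * (c * g * c⁻¹) := by
      intro u c hc
      have hu : u = c * g ^ m * c⁻¹ := by rw [← hc]; group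
      rw [hu]
      calc c * g * c⁻¹ * (c * g ^ m * c⁻¹) = c * (g * g ^ m) * c⁻¹ := by group
        _ = c * (g ^ m * g) * c⁻¹ := by rw [hcomm]
        _ = _ := by group
    rcases inv_class (g ^ m) hz1 hz2 with ⟨c, hc⟩ | ⟨c, hc⟩
    · left
      refine ⟨c, ?_⟩
      rw [wd_y, Subgroup.mem_centralizer_iff]
      rintro _ rfl
      exact (key _ _ hc).symm
    · right; left
      refine ⟨c, ?_⟩
      rw [wd_pr, Subgroup.mem_centralizer_iff]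
      rintro _ rfl
      exact (key _ _ hc).symm
  · -- odd order
    right; right
    have hodd : Nat.Coprime (orderOf g) 64 := by
      have h3 : Nat.Coprime (orderOf g) 2 := ((Nat.Prime.coprime_iff_not_dvd Nat.prime_two).2 h2).symm
      exact Nat.Coprime.pow_right 6 h3
    have h1485 : orderOf g ∣ 1485 := by
      have : orderOf g ∣ 64 * 1485 := by norm_num; exact hdvd
      exact hodd.dvd_of_dvd_mul_left this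
    have hmem : ∀ q m : ℕ, orderOf g = q * m → orderOf (g ^ m) = q := by
      intro q m h
      have hm0 : m ≠ 0 := by rintro rfl; omega
      rw [orderOf_pow_of_dvd hm0 ⟨q, by rw [h, mul_comm]⟩, h, Nat.mul_div_cancel _ (Nat.pos_of_ne_zero hm0)]
    have hcent : ∀ m : ℕ, orderOf g ∣ Nat.card (Subgroup.centralizer ({g ^ m} : Set H)) := by
      intro m
      have h3 : g ∈ Subgroup.centralizer ({g ^ m} : Set H) := by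
        rw [Subgroup.mem_centralizer_iff]
        rintro _ rfl
        exact ((Commute.refl g).pow_left m)
      have h4 := orderOf_dvd_natCard (⟨g, h3⟩ : Subgroup.centralizer ({g ^ m} : Set H))
      rwa [Subgroup.orderOf_mk] at h4
    by_cases h11' : 11 ∣ orderOf g
    · right; right
      obtain ⟨m, hm⟩ := h11'
      have h3 := hcent m
      rw [S.cent_eleven (hmem 11 m hm)] at h3
      have h11 : orderOf g = 11 := Nat.dvd_antisymm h3 ⟨m, hm⟩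
      have ho : orderOf (ev vH [5]) = 11 := by
        have : Fact (Nat.Prime 11) := ⟨by norm_num⟩
        apply orderOf_eq_prime
        · rw [ev_pow, ← ev_nil vH]
          exact sat_H.base (by decide +kernel)
        · intro h
          rw [ev_vH] at h
          exact wd_ne (l' := []) 1 (by norm_num) (by decide +kernel) h
      have : Fact (Nat.Prime 11) := ⟨by norm_num⟩
      exact conj_into (p := 11) (n := 1) (K := Subgroup.zpowers (ev vH [5])) (by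
        rw [Nat.card_zpowers, ho, pow_one]) (by norm_num) (g := g) (j := 1) (by rw [h11, pow_one])
    by_cases h5 : 5 ∣ orderOf g
    · right; left
      obtain ⟨m, hm⟩ := h5
      have h3 := (hcent m).trans (S.cent_five (hmem 5 m hm))
      have h4 : orderOf g ∣ 5 := by
        have h5 : Nat.Coprime (orderOf g) 4 := by
          have h3 : Nat.Coprime (orderOf g) 2 := ((Nat.Prime.coprime_iff_not_dvd Nat.prime_two).2 h2).symm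
          exact Nat.Coprime.pow_right 2 h3
        exact h5.dvd_of_dvd_mul_left (n := 5) h3
      have h6 : orderOf g = 5 := Nat.dvd_antisymm h4 ⟨m, hm⟩
      have hd5 : orderOf (ev vH [6]) = 5 := by
        have : Fact (Nat.Prime 5) := ⟨Nat.prime_five⟩
        apply orderOf_eq_prime
        · rw [ev_pow, ← ev_nil vH]
          exact sat_H.base (by decide +kernel)
        · intro h
          rw [ev_vH] at h
          exact wd_ne (l' := []) 1 (by norm_num) (by decide +kernel) h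
      have : Fact (Nat.Prime 5) := ⟨Nat.prime_five⟩
      exact conj_into (p := 5) (n := 1) (K := Subgroup.zpowers (ev vH [6])) (by
        rw [Nat.card_zpowers, hd5, pow_one]) (by norm_num) (g := g) (j := 1) (by rw [h6, pow_one])
    · left
      have h27 : orderOf g ∣ 3 ^ 3 := by
        have c55 : Nat.Coprime (orderOf g) 55 := by
          have a1 : Nat.Coprime (orderOf g) 5 := ((Nat.Prime.coprime_iff_not_dvd Nat.prime_five).2 h5).symm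
          have a2 : Nat.Coprime (orderOf g) 11 := ((Nat.Prime.coprime_iff_not_dvd (by norm_num)).2 h11').symm
          exact a1.mul_right a2
        have : orderOf g ∣ 55 * 3 ^ 3 := by norm_num; exact h1485
        exact c55.dvd_of_dvd_mul_left this
      obtain ⟨j, -, hj⟩ := (Nat.dvd_prime_pow Nat.prime_three).1 h27
      have : Fact (Nat.Prime 3) := ⟨Nat.prime_three⟩
      exact conj_into (p := 3) (n := 3) card_K3 (by norm_num) hj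

theorem sig_evG (w : List ℕ) : H932.Mt.sig (ev vG w) = ev vH w := by
  have h : ∀ i, wd (WG i) = wd (W i) := by
    intro i
    rcases Nat.lt_or_ge i 9 with hi | hi
    · have h1 : ∀ i : Fin 9, eqW (WG i.1) (W i.1) = true := by decide +kernel
      exact wd_eq (h1 ⟨i, hi⟩)
    · obtain ⟨k, rfl⟩ := Nat.exists_eq_add_of_le hi
      rw [Nat.add_comm]
      rfl
  rw [map_ev]
  congr 1
  funext i
  rw [vG, sig_GW, h]
  rfl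

/-- induction over the classes of the double cover -/
theorem gam_induct (S : Γ → Prop) (hconj : ∀ a b, IsConj a b → S a → S b) (hneg : ∀ a, S a → S (neg * a))
    (hty : ∀ a, Ty a → S a) (h5 : ∀ k : ℤ, S (ev vG [6] ^ k)) (h11 : ∀ k : ℤ, S (ev vG [5] ^ k)) (g : Γ) : S g := by
  have key : ∀ (m : H) (b : Γ), m * H932.Mt.sig g * m⁻¹ = H932.Mt.sig b → S b → S g := by
    intro m b hm hb
    obtain ⟨M, rfl⟩ := sig_surjective m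
    rw [← map_inv, ← map_mul, ← map_mul] at hm
    have h1 : IsConj (M * g * M⁻¹) g := by
      rw [isConj_comm, isConj_iff]
      exact ⟨M, rfl⟩
    rcases eq_or_of_sig hm with h2 | h2
    · exact hconj _ _ h1 (h2 ▸ hb)
    · exact hconj _ _ h1 (by rw [h2]; exact hneg _ hb)
  rcases classify (H932.Mt.sig g) with ⟨m, hm⟩ | ⟨m, hm⟩ | ⟨m, hm⟩ | ⟨m, hm⟩ | ⟨m, hm⟩
  · obtain ⟨x, hx, hx'⟩ := cover_list LY_incr LY_comm (by rw [LY_len, wd_y, card_cent_y]) hm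
    exact key m (GW x.1) (by rw [sig_GW, hx']) (hty _ (ty_of (List.all_eq_true.1 LY_ty x hx)))
  · obtain ⟨x, hx, hx'⟩ := cover_list LV_incr LV_comm (by rw [LV_len, wd_pr, card_cent_v]) hm
    exact key m (GW x.1) (by rw [sig_GW, hx']) (hty _ (ty_of (List.all_eq_true.1 LV_ty x hx)))
  · obtain ⟨n, hn⟩ := mem_K3 hm
    have hn' : n.1 < CT.length := by rw [CT_len]; exact n.2
    rw [List.getD_eq_getElem _ _ hn'] at hn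
    have h1 : (CT[n.1]).1 ∈ LT.map fun x => x.1 := by
      rw [LT_eq]
      exact List.mem_map_of_mem (List.getElem_mem hn')
    obtain ⟨x, hx, hx'⟩ := List.mem_map.1 h1
    exact key m (GW (ex3 x.1)) (by rw [sig_GW, hx', hn]) (hty _ (ty_of (List.all_eq_true.1 LT_ty x hx)))
  · obtain ⟨k, hk⟩ := Subgroup.mem_zpowers_iff.1 hm
    exact key m (ev vG [6] ^ k) (by rw [map_zpow, sig_evG, hk]) (h5 k)
  · obtain ⟨k, hk⟩ := Subgroup.mem_zpowers_iff.1 hm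
    exact key m (ev vG [5] ^ k) (by rw [map_zpow, sig_evG, hk]) (h11 k)

end Cfsg.Agent.H6.M11
end

-- part: H6/M11/GamFr
section
/-!
# Class functions on the double cover of the Mathieu group of degree 12 (helper6)
-/

set_option autoImplicit false
set_option maxRecDepth 100000

namespace Cfsg.Agent.H6.M11

open Cfsg Cfsg.Agent.H932.Mt

theorem neg_neg : neg * neg = 1 := neg_mul_neg'

theorem isConj_pow' {G : Type*} [Group G] {a b : G} (h : IsConj a b) (n : ℕ) : IsConj (a ^ n) (b ^ n) := by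
  obtain ⟨c, hc⟩ := isConj_iff.1 h
  rw [isConj_iff]
  exact ⟨c, by rw [← hc, conj_pow]⟩

theorem isConj_inv' {G : Type*} [Group G] {a b : G} (h : IsConj a b) : IsConj a⁻¹ b⁻¹ := by
  obtain ⟨c, hc⟩ := isConj_iff.1 h
  rw [isConj_iff]
  exact ⟨c, by rw [← hc]; group⟩

theorem neg_mul_pow (g : Γ) {n : ℕ} (hn : n % 2 = 1) : (neg * g) ^ n = neg * g ^ n := by
  have hc : Commute neg g := neg_comm g
  rw [hc.mul_pow]
  congr 1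
  obtain ⟨m, rfl⟩ : ∃ m, n = 2 * m + 1 := ⟨n / 2, by omega⟩
  rw [pow_succ, pow_mul, pow_two, neg_neg, one_pow, one_mul]

theorem neg_inv : (neg : Γ)⁻¹ = neg := inv_eq_of_mul_eq_one_left neg_neg

theorem neg_mul_inv (g : Γ) : (neg * g)⁻¹ = neg * g⁻¹ := by
  rw [mul_inv_rev, neg_inv, neg_comm]

theorem dvd_orderOf_neg {p : ℕ} (hp : p.Prime) (h2 : p ≠ 2) {g : Γ} (h : p ∣ orderOf (neg * g)) : p ∣ orderOf g := by
  have h1 : (neg * g) ^ (2 * orderOf g) = 1 := by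
    have hc : Commute neg g := neg_comm g
    rw [hc.mul_pow, pow_mul, pow_two, neg_neg, one_pow, one_mul, mul_comm, pow_mul, pow_orderOf_eq_one, one_pow]
  have h3 := h.trans (orderOf_dvd_of_pow_eq_one h1)
  rcases (Nat.Prime.dvd_mul hp).1 h3 with h4 | h4
  · exact absurd ((Nat.prime_dvd_prime_iff_eq hp Nat.prime_two).1 h4) h2
  · exact h4

theorem isConj_orderOf {G : Type*} [Group G] {a b : G} (h : IsConj a b) : orderOf a = orderOf b := by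
  obtain ⟨c, hc⟩ := isConj_iff.1 h
  rw [← hc]
  exact (orderOf_injective (MulAut.conj c).toMonoidHom (MulAut.conj c).injective a).symm

theorem g20_pow : g20 ^ 10 = neg := by
  have h1 : GW (w20 ++ (w20 ++ (w20 ++ (w20 ++ (w20 ++ (w20 ++ (w20 ++ (w20 ++ (w20 ++ w20))))))))) = GW [6] :=
    GW_eq (by decide +kernel)
  simp only [GW_append] at h1
  have h2 : GW [6] = neg := by rw [GW_six, GW_nil, mul_one]
  rw [← h2, ← h1, g20]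
  simp only [pow_succ, pow_zero, one_mul, mul_assoc]

theorem g20_cube : IsConj (g20 ^ 3) g20 := by
  have h1 : GW ([3, 1, 2] ++ (w20 ++ (w20 ++ w20))) = GW (w20 ++ [3, 1, 2]) := GW_eq (by decide +kernel)
  rw [GW_append, GW_append, GW_append, GW_append] at h1
  rw [isConj_iff]
  refine ⟨GW [3, 1, 2], ?_⟩
  rw [mul_inv_eq_iff_eq_mul, g20, ← h1]
  simp only [pow_succ, pow_zero, one_mul, mul_assoc]

theorem g20_pow' : g20 ^ 20 = 1 := by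
  rw [show 20 = 10 * 2 from rfl, pow_mul, g20_pow, pow_two, neg_neg]

section

variable {F : Type*} [Field F] {χ θ : Γ → F} {p : ℕ}

/-- class functions on the powers of an element of order 20 -/
theorem fun_pow20 {G : Type*} [Group G] {g z : G} (hz : g ^ 10 = z) (hz2 : z * z = 1) (hcube : IsConj (g ^ 3) g)
    {χ : G → F} (hχ : ∀ a b, IsConj a b → χ a = χ b) (hn : ∀ g, χ (z * g) = - χ g) (h0 : χ g = 0) {j : ℕ}
    (hj : j.Coprime 20) : χ (g ^ j) = 0 := by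
  have h20 : g ^ 20 = 1 := by rw [show 20 = 10 * 2 from rfl, pow_mul, hz, pow_two, hz2]
  have h3 : ∀ a, χ (g ^ (3 * a)) = χ (g ^ a) := by
    intro a
    rw [pow_mul]
    exact hχ _ _ (isConj_pow' hcube a)
  have hm : ∀ a, g ^ a = g ^ (a % 20) := by
    intro a
    conv_lhs => rw [← Nat.div_add_mod a 20, pow_add, pow_mul, h20, one_pow, one_mul]
  have h10 : ∀ a, χ (g ^ (10 + a)) = - χ (g ^ a) := by
    intro a
    rw [pow_add, hz, hn]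
  have e1 : χ (g ^ 1) = 0 := by rw [pow_one]; exact h0
  have e3 : χ (g ^ 3) = 0 := by rw [show 3 = 3 * 1 from rfl, h3]; exact e1
  have e9 : χ (g ^ 9) = 0 := by rw [show 9 = 3 * 3 from rfl, h3]; exact e3
  have e7 : χ (g ^ 7) = 0 := by
    have h4 : χ (g ^ 27) = 0 := by rw [show 27 = 3 * 9 from rfl, h3]; exact e9
    rw [hm 27] at h4
    exact h4
  have e11 : χ (g ^ 11) = 0 := by rw [show 11 = 10 + 1 from rfl, h10, e1, neg_zero]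
  have e13 : χ (g ^ 13) = 0 := by rw [show 13 = 10 + 3 from rfl, h10, e3, neg_zero]
  have e17 : χ (g ^ 17) = 0 := by rw [show 17 = 10 + 7 from rfl, h10, e7, neg_zero]
  have e19 : χ (g ^ 19) = 0 := by rw [show 19 = 10 + 9 from rfl, h10, e9, neg_zero]
  rw [hm]
  have hlt : j % 20 < 20 := Nat.mod_lt _ (by norm_num)
  have hc : (j % 20).gcd 20 = 1 := by
    rw [← Nat.gcd_rec]
    exact hj.symm
  have hcase : j % 20 = 1 ∨ j % 20 = 3 ∨ j % 20 = 7 ∨ j % 20 = 9 ∨ j % 20 = 11 ∨ j % 20 = 13 ∨ j % 20 = 17 ∨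
      j % 20 = 19 := by
    revert hc hlt
    generalize j % 20 = n
    intro hlt hc
    interval_cases n <;> first | omega | (exfalso; revert hc; decide)
  rcases hcase with h | h | h | h | h | h | h | h <;> rw [h] <;> assumption

/-- traces on the powers of the element of order 20 -/
theorem fun_g20 (hχ : ∀ a b, IsConj a b → χ a = χ b) (hn : ∀ g, χ (neg * g) = - χ g) (h0 : χ g20 = 0) {j : ℕ}
    (hj : j.Coprime 20) : χ (g20 ^ j) = 0 := fun_pow20 g20_pow neg_neg g20_cube hχ hn h0 hj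

/-- **the class function is determined up to conjugation** -/
theorem fun_types (hp : p.Prime) (hp5 : 5 ≤ p) (hχ : ∀ a b, IsConj a b → χ a = χ b)
    (hn : ∀ g, χ (neg * g) = - χ g) (h2 : (2 : F) ≠ 0) (hx : χ (ev vG [5])⁻¹ = χ (ev vG [5]))
    (h20 : p ≠ 5 → χ g20 = 0)
    (hθ : ((p % 8 = 1 ∨ p % 8 = 3) ∧ θ = χ) ∨ ((p % 8 = 5 ∨ p % 8 = 7) ∧ θ = fun g => χ g⁻¹)) (g : Γ)
    (hreg : ¬ p ∣ orderOf g) : χ (g ^ p) = θ g := by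
  have hodd : p % 2 = 1 := by
    rcases hp.eq_two_or_odd with h | h
    · omega
    · exact h
  have hθc : ∀ a b, IsConj a b → θ a = θ b := by
    intro a b h
    rcases hθ with ⟨-, rfl⟩ | ⟨-, rfl⟩
    · exact hχ a b h
    · exact hχ _ _ (isConj_inv' h)
  have hθn : ∀ g, θ (neg * g) = - θ g := by
    intro g
    rcases hθ with ⟨-, rfl⟩ | ⟨-, rfl⟩
    · exact hn g
    · show χ (neg * g)⁻¹ = - χ g⁻¹
      rw [neg_mul_inv, hn]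
  have hθr : ∀ g, χ g⁻¹ = χ g → θ g = χ g := by
    intro g h
    rcases hθ with ⟨-, rfl⟩ | ⟨-, rfl⟩
    · rfl
    · exact h
  have hz : ∀ g, IsConj g (neg * g) → χ g = 0 := by
    intro g h
    have h1 := hχ _ _ h
    rw [hn] at h1
    have h3 : 2 * χ g = 0 := by linear_combination h1
    exact (mul_eq_zero.1 h3).resolve_left h2
  -- the statement
  let S : Γ → Prop := fun g => ¬ p ∣ orderOf g → χ (g ^ p) = θ g
  have hSconj : ∀ a b, IsConj a b → S a → S b := by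
    intro a b hab ha hb
    rw [← isConj_orderOf hab] at hb
    rw [← hχ _ _ (isConj_pow' hab p), ← hθc _ _ hab]
    exact ha hb
  have hSneg : ∀ a, S a → S (neg * a) := by
    intro a ha hb
    have h1 : ¬ p ∣ orderOf a := by
      intro h
      apply hb
      have h3 : a = neg * (neg * a) := by rw [← mul_assoc, neg_neg, one_mul]
      rw [h3] at h
      exact dvd_orderOf_neg hp (by omega) h
    rw [neg_mul_pow a hodd, hn, hθn, ha h1]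
  have hSten : ∀ a : Γ, a ^ 10 = 1 → IsConj a (a ^ 3) → S a := by
    intro a h10 h3 hr
    have hm : ∀ n, a ^ n = a ^ (n % 10) := by
      intro n
      conv_lhs => rw [← Nat.div_add_mod n 10, pow_add, pow_mul, h10, one_pow, one_mul]
    have e3 : χ (a ^ 3) = χ a := (hχ _ _ h3).symm
    have e9 : χ (a ^ 9) = χ a := by
      have h4 := hχ _ _ (isConj_pow' h3 3)
      rw [← pow_mul] at h4
      rw [← e3, h4]
    have e7 : χ (a ^ 7) = χ a := by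
      have h4 := hχ _ _ (isConj_pow' h3 9)
      rw [← pow_mul, hm (3 * 9)] at h4
      rw [← e9, h4]
    have ei : a⁻¹ = a ^ 9 := by
      rw [inv_eq_iff_mul_eq_one, ← pow_succ']
      exact h10
    rw [hθr a (by rw [ei, e9])]
    by_cases hp5' : p = 5
    · subst hp5'
      have h4 : orderOf a ∣ 2 := by
        have h5 : orderOf a ∣ 5 * 2 := orderOf_dvd_of_pow_eq_one h10
        exact ((Nat.Prime.coprime_iff_not_dvd Nat.prime_five).2 hr).symm.dvd_of_dvd_mul_left h5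
      have h5 : a ^ 2 = 1 := orderOf_dvd_iff_pow_eq_one.1 h4
      rw [show 5 = 2 * 2 + 1 from rfl, pow_succ, pow_mul, h5, one_pow, one_mul]
    · rw [hm]
      have hlt : p % 10 < 10 := Nat.mod_lt _ (by norm_num)
      have h5 : p % 5 ≠ 0 := by
        intro h
        exact hp5' ((Nat.prime_dvd_prime_iff_eq Nat.prime_five hp).1 (Nat.dvd_of_mod_eq_zero h)).symm
      have hcase : p % 10 = 1 ∨ p % 10 = 3 ∨ p % 10 = 7 ∨ p % 10 = 9 := by omega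
      rcases hcase with h | h | h | h <;> rw [h]
      · rw [pow_one]
      · exact e3
      · exact e7
      · exact e9
  have hSg20 : S g20 := by
    intro hr
    have hp5' : p ≠ 5 := by
      rintro rfl
      apply hr
      -- 5 divides the order
      by_contra h5
      have h6 : (g20 ^ 4) ^ 5 = 1 := by rw [← pow_mul]; exact g20_pow'
      have h7 : orderOf (g20 ^ 4) ∣ 5 := orderOf_dvd_of_pow_eq_one h6
      have h8 : orderOf (g20 ^ 4) ∣ orderOf g20 := orderOf_pow_dvd 4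
      rcases (Nat.dvd_prime Nat.prime_five).1 h7 with h9 | h9
      · rw [orderOf_eq_one_iff] at h9
        have h10 : g20 ^ 10 = g20 ^ 2 := by
          rw [show 10 = 4 * 2 + 2 from rfl, pow_add, pow_mul, h9, one_pow, one_mul]
        have h11 : g20 ^ 4 = 1 := h9
        have h12 : GW (w20 ++ (w20 ++ (w20 ++ w20))) = 1 := by
          rw [← h11, g20]
          simp only [GW_append, pow_succ, pow_zero, one_mul, mul_assoc]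
        have h13 := congrArg (fun x : Γ => ((x.1.1 0 : Fin 24) : ℕ)) h12
        simp only [GW_apply] at h13
        revert h13
        decide +kernel
      · rw [h9] at h8
        exact h5 h8
    have h20' := h20 hp5'
    have hcop : p.Coprime 20 := by
      rw [Nat.Prime.coprime_iff_not_dvd hp]
      intro h
      have h1 : p ∣ 2 * 2 * 5 := h
      rcases (Nat.Prime.dvd_mul hp).1 h1 with h3 | h3
      · rcases (Nat.Prime.dvd_mul hp).1 h3 with h4 | h4 <;>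
        · have := Nat.le_of_dvd (by norm_num) h4; omega
      · exact hp5' ((Nat.prime_dvd_prime_iff_eq hp Nat.prime_five).1 h3)
    have hi : g20⁻¹ = g20 ^ 19 := by
      rw [inv_eq_iff_mul_eq_one, ← pow_succ']
      exact g20_pow'
    rw [fun_g20 hχ hn h20' hcop, hθr g20 (by rw [hi, fun_g20 hχ hn h20' (by norm_num), h20']), h20']
  have hSty : ∀ a, Ty a → S a := by
    intro a ha
    rcases ha with h | ⟨h6, h⟩ | ⟨h8, h3, -⟩ | ⟨h10, h3⟩ | h | h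
    · intro _
      have h1 : χ (a ^ p) = 0 := hz _ (by
        have := isConj_pow' h p
        rwa [neg_mul_pow a hodd] at this)
      have h3 : χ a = 0 := hz _ h
      have h4 : χ a⁻¹ = 0 := hz _ (by
        have := isConj_inv' h
        rwa [neg_mul_inv] at this)
      rw [h1, hθr a (by rw [h3, h4]), h3]
    · intro _
      have h1 : χ a⁻¹ = χ a := hχ _ _ h
      rw [hθr a h1]
      have hm : a ^ p = a ^ (p % 6) := by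
        conv_lhs => rw [← Nat.div_add_mod p 6, pow_add, pow_mul, h6, one_pow, one_mul]
      have h3 : p % 3 ≠ 0 := by
        intro h
        have := (Nat.prime_dvd_prime_iff_eq Nat.prime_three hp).1 (Nat.dvd_of_mod_eq_zero h)
        omega
      have hcase : p % 6 = 1 ∨ p % 6 = 5 := by omega
      rcases hcase with h | h
      · rw [hm, h, pow_one]
      · have ei : a⁻¹ = a ^ 5 := by
          rw [inv_eq_iff_mul_eq_one, ← pow_succ']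
          exact h6
        rw [hm, h, ← ei, h1]
    · intro _
      have hm : a ^ p = a ^ (p % 8) := by
        conv_lhs => rw [← Nat.div_add_mod p 8, pow_add, pow_mul, h8, one_pow, one_mul]
      have ei : a⁻¹ = a ^ 7 := by
        rw [inv_eq_iff_mul_eq_one, ← pow_succ']
        exact h8
      rw [hm]
      rcases hθ with ⟨h | h, rfl⟩ | ⟨h | h, rfl⟩ <;> rw [h]
      · rw [pow_one]
      · exact (hχ _ _ h3).symm
      · show χ (a ^ 5) = χ a⁻¹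
        have h4 := hχ _ _ (isConj_inv' h3)
        have h5 : (a ^ 3)⁻¹ = a ^ 5 := by
          rw [inv_eq_iff_mul_eq_one, ← pow_add]
          exact h8
        rw [h4, h5]
      · show χ (a ^ 7) = χ a⁻¹
        rw [ei]
    · exact hSten a h10 h3
    · exact hSconj _ _ h.symm hSg20
    · exact hSconj _ _ h.symm (hSneg _ hSg20)
  refine gam_induct S hSconj hSneg hSty ?_ ?_ g hreg
  · intro k
    have h5 : ev vG [6] ^ 5 = 1 := by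
      rw [ev_pow, ← ev_nil vG]
      exact sat_G.base (by decide +kernel)
    have h1 : IsConj (ev vG [6]) (ev vG [6] ^ 3) := by
      have h3 := sat_G.cert (c := [3, 2, 1]) (a := [6, 6, 6]) (b := [6]) (by decide +kernel)
      rw [isConj_comm, isConj_iff]
      refine ⟨ev vG [3, 2, 1], ?_⟩
      rw [mul_inv_eq_iff_eq_mul, ev_pow]
      exact h3
    apply hSten
    · rw [← zpow_natCast, ← zpow_mul, mul_comm, zpow_mul, zpow_natCast, show 10 = 5 * 2 from rfl, pow_mul, h5, one_pow,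
        one_zpow]
    · obtain ⟨c, hc⟩ := isConj_iff.1 h1
      rw [isConj_iff]
      refine ⟨c, ?_⟩
      rw [← conj_zpow, hc, ← zpow_natCast, ← zpow_natCast, ← zpow_mul, ← zpow_mul, mul_comm]
  · intro k hr
    have hx11 : (ev vG [5]) ^ 11 = 1 := by
      rw [ev_pow, ← ev_nil vG]
      exact sat_G.base (by decide +kernel)
    have hdx : ev vG [6] * ev vG [5] * (ev vG [6])⁻¹ = ev vG [5] ^ 4 := by
      have e2 : ev vG [6, 5] = ev vG [5, 5, 5, 5, 6] := sat_G.base (by decide +kernel)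
      rw [mul_inv_eq_iff_eq_mul, ← ev_append, ev_pow, ← ev_append]
      exact e2
    have hfun := fun_pow hx11 hdx χ (fun g m => (hχ _ _ (isConj_iff.2 ⟨m, rfl⟩)).symm) hx
    have hm : ∀ n : ℕ, ev vG [5] ^ n = ev vG [5] ^ (n % 11) := by
      intro n
      conv_lhs => rw [← Nat.div_add_mod n 11, pow_add, pow_mul, hx11, one_pow, one_mul]
    obtain ⟨n, hn'⟩ : ∃ n : ℕ, ev vG [5] ^ n = ev vG [5] ^ k := by
      have h1 : ev vG [5] ^ k ∈ Subgroup.zpowers (ev vG [5]) := ⟨k, rfl⟩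
      have hfin : IsOfFinOrder (ev vG [5]) := isOfFinOrder_iff_pow_eq_one.2 ⟨11, by norm_num, hx11⟩
      exact hfin.mem_powers_iff_mem_zpowers.2 h1
    rw [← hn'] at hr ⊢
    by_cases h0 : n % 11 = 0
    · have h1 : ev vG [5] ^ n = 1 := by rw [hm, h0, pow_zero]
      rw [h1, one_pow, hθr 1 (by rw [inv_one])]
    · have hinv : (ev vG [5] ^ n)⁻¹ = ev vG [5] ^ (n * 10) := by
        rw [inv_eq_iff_mul_eq_one, ← pow_add, show n + n * 10 = 11 * n by ring, pow_mul, hx11, one_pow]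
      have hne : (n * 10) % 11 ≠ 0 := by omega
      rw [hθr _ (by rw [hinv, hfun _ hne, hfun _ h0]), hfun _ h0, ← pow_mul]
      by_cases hp11 : p = 11
      · exfalso
        subst hp11
        apply hr
        have h11 : (ev vG [5] ^ n) ^ 11 = 1 := by rw [← pow_mul, mul_comm, pow_mul, hx11, one_pow]
        rcases (Nat.dvd_prime hp).1 (orderOf_dvd_of_pow_eq_one h11) with h1 | h1
        · exfalso
          rw [orderOf_eq_one_iff] at h1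
          have hox : orderOf (ev vG [5]) = 11 := by
            have : Fact (Nat.Prime 11) := ⟨hp⟩
            apply orderOf_eq_prime hx11
            intro h
            rw [ev_vG] at h
            have h13 := congrArg (fun x : Γ => ((x.1.1 2 : Fin 24) : ℕ)) h
            simp only [GW_apply] at h13
            revert h13
            decide +kernel
          have h3 := orderOf_dvd_of_pow_eq_one h1
          rw [hox] at h3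
          exact h0 (Nat.mod_eq_zero_of_dvd h3)
        · rw [h1]
      · apply hfun
        intro h
        rcases (Nat.Prime.dvd_mul (by norm_num : Nat.Prime 11)).1 (Nat.dvd_of_mod_eq_zero h) with h1 | h1
        · exact h0 (Nat.mod_eq_zero_of_dvd h1)
        · exact hp11 ((Nat.prime_dvd_prime_iff_eq (by norm_num) hp).1 h1).symm

end

end Cfsg.Agent.H6.M11
end

-- part: H6/M11/Cover10
section
/-!
# Faithful representations of degree 10 of the double cover of the Mathieu group of degree 12 (helper6)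

The trace of the element of order 20 is zero.
-/

set_option autoImplicit false
set_option linter.unusedSectionVars false
set_option linter.unusedVariables false
set_option maxRecDepth 100000

namespace Cfsg.Agent.H6.M11

open Module LinearMap Cfsg.Agent.H932.Mt

variable {k : Type*} [Field k] {V : Type*} [AddCommGroup V] [Module k V] [FiniteDimensional k V] {R : Γ →* End k V}
  {ω ξ : k}

variable (R) in
/-- trace of a word -/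
noncomputable def tg (w : List ℕ) : k := LinearMap.trace k V (R (GW w))

theorem tw_vG (w : List ℕ) : tw vG R w = tg R (w.flatMap WG) := by
  rw [tw, op, ev_vG, tg]

theorem tg_conj {w w' : List ℕ} (c : List ℕ) (h : eqG (c ++ w) (w' ++ c) = true) : tg R w = tg R w' := by
  have h1 := GW_eq h
  rw [GW_append, GW_append] at h1
  have h2 : GW w = (GW c)⁻¹ * (GW w' * GW c) := by rw [← h1, inv_mul_cancel_left]
  rw [tg, tg, h2, map_mul, LinearMap.trace_mul_comm, ← map_mul, mul_assoc, mul_inv_cancel, mul_one]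

theorem tg_six (hneg : R neg = -1) (w : List ℕ) : tg R (6 :: w) = - tg R w := by
  rw [tg, GW_six, map_mul, hneg, neg_mul, one_mul, map_neg, tg]

theorem tg_zero (hneg : R neg = -1) (h2 : (2 : k) ≠ 0) {w : List ℕ} (c : List ℕ)
    (h : eqG (c ++ w) (6 :: (w ++ c)) = true) : tg R w = 0 := by
  have h1 : tg R w = tg R (6 :: w) := tg_conj c h
  rw [tg_six hneg] at h1
  have h3 : 2 * tg R w = 0 := by linear_combination h1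
  exact (mul_eq_zero.1 h3).resolve_left h2

/-- casts of numbers at most 6 -/
theorem cast_small (h2 : (2 : k) ≠ 0) (h3 : (3 : k) ≠ 0) (h5 : (5 : k) ≠ 0) {a b : ℕ} (h : (a : k) = (b : k))
    (h1 : a ≤ b + 6) (h1' : b ≤ a + 6) : a = b := by
  have key : ∀ c : ℕ, 0 < c → c ≤ 6 → (c : k) ≠ 0 := by
    intro c hc hc4
    interval_cases c
    · simp
    · exact_mod_cast h2
    · exact_mod_cast h3
    · intro h4
      have h5 : (2 : k) * 2 = 0 := by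
        rw [← h4]; norm_num
      exact h2 ((mul_eq_zero.1 h5).elim id id)
    · exact_mod_cast h5
    · intro h4
      have h5 : (2 : k) * 3 = 0 := by
        rw [← h4]; norm_num
      exact (mul_eq_zero.1 h5).elim h2 h3
  rcases lt_trichotomy a b with hab | hab | hab
  · exfalso
    obtain ⟨c, rfl⟩ := Nat.exists_eq_add_of_lt hab
    push_cast at h
    refine key (c + 1) (by omega) (by omega) ?_
    push_cast
    linear_combination -h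
  · exact hab
  · exfalso
    obtain ⟨c, rfl⟩ := Nat.exists_eq_add_of_lt hab
    push_cast at h
    refine key (c + 1) (by omega) (by omega) ?_
    push_cast
    linear_combination h

/-- on the fixed space of `E` the involution `z` is `-1` -/
theorem basic_ten (hneg : R neg = -1) (hω : IsPrimitiveRoot ω 3) (h2 : (2 : k) ≠ 0) (hn : finrank k V = 10)
    (hE : op vG R [0] ≠ 1) : Cp vG R = ⊥ ∧ tw vG R [3] = -2 := by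
  have h3 : (3 : k) ≠ 0 := three_ne hω
  have h := sat_G
  obtain ⟨f, a, α, β, ε, hε, -, hV, hCp, -, -, -, -, hT2, -, hβ, -⟩ := h.basic (R := R) hω h2 hE (by omega)
  have hT4 : tw vG R [2, 2] = 0 := by
    rw [tw_vG]
    exact tg_zero hneg h2 [2, 3, 1] (by decide +kernel)
  have hfa : (f = 0 ∧ a = 1) ∨ (f = 2 ∧ a = 0) := by omega
  rcases hfa with ⟨rfl, rfl⟩ | ⟨rfl, rfl⟩
  · refine ⟨Submodule.finrank_eq_zero.1 hCp, ?_⟩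
    rw [hT2]
    push_cast
    ring
  · exfalso
    have hP := h.isProj_pP (R := R) hω h2
    have hmem : ∀ w : List ℕ, (∀ i ∈ w, i = 2 ∨ i = 3) → ∀ u ∈ Cp vG R, op vG R w u ∈ Cp vG R := by
      intro w hw u hu
      exact mem_of_comm hP (h.comm_pP h3 w hw) hu
    have hz1 : ∀ u ∈ Cp vG R, op vG R [2, 2, 2, 2] u = u := by
      intro u hu
      have h1 := (Submodule.mem_inf.1 hu).2
      rw [End.mem_eigenspace_iff, one_smul] at h1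
      exact h1
    have hZZ : op vG R [2, 2] * (op vG R [2, 2] * pP vG R) = pP vG R := by
      rw [← mul_assoc, ← op_append]
      ext u
      rw [Module.End.mul_apply]
      exact hz1 _ (hP.map_mem u)
    obtain ⟨d1, d2⟩ := two_dims h2 hP (h.comm_pP h3 [2, 2] (by decide)) hZZ
    rw [trace_pP, show ([2, 2] : List ℕ) ++ [2, 2, 2, 2] = [2, 2, 2, 2, 2, 2] from rfl, h.tE_yy h3, h.tE_y6 h3, hT4,
      add_zero, mul_zero] at d2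
    rw [hCp] at d1
    generalize hA : finrank k (Cp vG R ⊓ End.eigenspace (op vG R [2, 2]) 1 : Submodule k V) = A at *
    generalize hB : finrank k (Cp vG R ⊓ End.eigenspace (op vG R [2, 2]) (-1) : Submodule k V) = B at *
    have hAB : A = B := cast_eq h2 h3 (by linear_combination -d2) (by omega) (by omega)
    have hB1 : B = 1 := by omega
    subst hB1
    set L : Submodule k V := Cp vG R ⊓ End.eigenspace (op vG R [2, 2]) (-1) with hL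
    have hLne : L ≠ ⊥ := by
      intro hc
      rw [hc, finrank_bot] at hB
      exact zero_ne_one hB
    obtain ⟨u, hu, hu0⟩ := (Submodule.ne_bot_iff _).1 hLne
    have hline : ∀ w ∈ L, ∃ c : k, w = c • u := by
      intro w hw
      have h1 := (finrank_eq_one_iff_of_nonzero' (⟨u, hu⟩ : L) (fun hc => hu0 (congrArg Subtype.val hc))).1 hB ⟨w, hw⟩
      obtain ⟨c, hc⟩ := h1
      exact ⟨c, (congrArg Subtype.val hc).symm⟩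
    obtain ⟨hu1, hu2⟩ := Submodule.mem_inf.1 hu
    rw [End.mem_eigenspace_iff, neg_one_smul] at hu2
    -- `y` and `s` preserve the line
    have hy : op vG R [2] u ∈ L := by
      refine Submodule.mem_inf.2 ⟨hmem [2] (by decide) u hu1, ?_⟩
      rw [End.mem_eigenspace_iff, neg_one_smul, ← Module.End.mul_apply, ← op_append,
        show ([2, 2] : List ℕ) ++ [2] = [2] ++ [2, 2] from rfl, op_append, Module.End.mul_apply, hu2, map_neg]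
    have hs : op vG R [3] u ∈ L := by
      refine Submodule.mem_inf.2 ⟨hmem [3] (by decide) u hu1, ?_⟩
      have r1 : op vG R ([2, 2] ++ [3]) = op vG R ([3] ++ ([2, 2] ++ [2, 2, 2, 2])) :=
        h.op_eq (by decide +kernel)
      rw [End.mem_eigenspace_iff, neg_one_smul, ← Module.End.mul_apply, ← op_append, r1, op_append, op_append,
        Module.End.mul_apply, Module.End.mul_apply, hz1 u hu1, hu2, map_neg]
    obtain ⟨c, hc⟩ := hline _ hy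
    obtain ⟨d, hd⟩ := hline _ hs
    have hc2 : c * c = -1 := by
      have h1 : op vG R ([2] ++ [2]) u = (c * c) • u := by
        rw [op_append, Module.End.mul_apply, hc, map_smul, hc, smul_smul]
      have h4 : (c * c) • u = (-1 : k) • u := by rw [← h1, neg_one_smul]; exact hu2
      exact smul_left_injective k hu0 h4
    have hd0 : d ≠ 0 := by
      rintro rfl
      rw [zero_smul] at hd
      have : op vG R [3] u = op vG R [3] 0 := by rw [hd, map_zero]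
      exact hu0 (op_injective vG R [3] this)
    have r2 : op vG R ([3] ++ [2]) = op vG R ([2] ++ ([2] ++ ([2] ++ [3]))) := h.op_eq (by decide +kernel)
    have h5 := congrArg (fun A : End k V => A u) r2
    simp only [op_append, Module.End.mul_apply, hc, hd, map_smul, smul_smul] at h5
    have h6 := smul_left_injective k hu0 h5
    have h7 : c * d * (1 - c * c) = 0 := by linear_combination h6
    rw [hc2] at h7
    have hc0 : c ≠ 0 := by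
      rintro rfl
      rw [zero_mul] at hc2
      exact one_ne_zero (α := k) (by linear_combination hc2)
    rcases mul_eq_zero.1 h7 with h8 | h8
    · exact (mul_ne_zero hc0 hd0) h8
    · exact h2 (by linear_combination h8)

/-- the trace of the elements of order 5 -/
theorem trace_five (hneg : R neg = -1) (hω : IsPrimitiveRoot ω 3) (hξ : IsPrimitiveRoot ξ 5) (h2 : (2 : k) ≠ 0)
    (hn : finrank k V = 10) (hE : op vG R [0] ≠ 1) : tw vG R [6] = 0 := by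
  have h3 : (3 : k) ≠ 0 := three_ne hω
  have h := sat_G
  have P5 : (op vG R [6]) ^ 5 = 1 := h.toL.pow_five
  have hξ5 := hξ.pow_eq_one
  have step : ∀ b c : ℕ, (3 * b) % 5 = c % 5 → finrank k (End.eigenspace (op vG R [6]) (ξ ^ b)) ≤
      finrank k (End.eigenspace (op vG R [6]) (ξ ^ c)) := by
    intro b c h1
    have e1 : (ξ ^ b) ^ 3 = ξ ^ c := by
      rw [← pow_mul, mul_comm b 3, pow_eq_pow_mod _ hξ5, h1, ← pow_eq_pow_mod _ hξ5]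
    refine finrank_le_of_mapsTo (op_injective vG R [3, 2, 1]) ?_
    intro u hu
    rw [End.mem_eigenspace_iff] at hu ⊢
    have r1 : op vG R ([3, 2, 1] ++ [6, 6, 6]) = op vG R ([6] ++ [3, 2, 1]) := by
      unfold op
      rw [ev_append, ev_append, h.cert (c := [3, 2, 1]) (a := [6, 6, 6]) (b := [6]) (by decide +kernel)]
    have r2 := congrArg (fun A : End k V => A u) r1
    simp only [op_append, Module.End.mul_apply] at r2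
    have e3 : op vG R [6, 6, 6] u = (ξ ^ b) ^ 3 • u := by
      rw [op_cons, op_cons vG R 6 [6], Module.End.mul_apply, Module.End.mul_apply, hu, map_smul, hu, map_smul, map_smul,
        hu, smul_smul, smul_smul]
      congr 1
      ring
    rw [e3, map_smul, e1] at r2
    exact r2.symm
  have a1 := step 1 3 rfl
  have a2 := step 3 4 rfl
  have a3 := step 4 2 rfl
  have a4 := step 2 1 rfl
  have esum := finrank_top_eq_sum hξ (by norm_num) P5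
  rw [Fin.sum_univ_eq_sum_range (fun b => finrank k (End.eigenspace (op vG R [6]) (ξ ^ b))) 5] at esum
  simp only [Finset.sum_range_succ, Finset.sum_range_zero, zero_add] at esum
  rw [hn, pow_zero] at esum
  -- the fixed space has dimension at most 4
  have hle : finrank k (End.eigenspace (op vG R [6]) 1) < 6 := by
    by_contra hc
    push Not at hc
    have hmap : finrank k (End.eigenspace (op vG R [6]) 1) ≤ finrank k (End.eigenspace (op vG R [4, 6, 4, 4]) 1) := by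
      refine finrank_le_of_mapsTo (op_injective vG R [4]) ?_
      intro u hu
      rw [End.mem_eigenspace_iff, one_smul] at hu ⊢
      have r1 : op vG R ([4, 6, 4, 4] ++ [4]) = op vG R ([4] ++ [6]) := by
        unfold op
        rw [ev_vG, ev_vG]
        exact congrArg R (GW_eq (by decide +kernel))
      rw [← Module.End.mul_apply, ← op_append, r1, op_append, Module.End.mul_apply, hu]
    have hinf : 0 < finrank k (End.eigenspace (op vG R [6]) 1 ⊓ End.eigenspace (op vG R [4, 6, 4, 4]) 1 : Submodule k V) := by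
      have h1 := Submodule.finrank_sup_add_finrank_inf_eq (End.eigenspace (op vG R [6]) 1)
        (End.eigenspace (op vG R [4, 6, 4, 4]) 1)
      have h4 := Submodule.finrank_le (End.eigenspace (op vG R [6]) 1 ⊔ End.eigenspace (op vG R [4, 6, 4, 4]) 1)
      omega
    have hne : (End.eigenspace (op vG R [6]) 1 ⊓ End.eigenspace (op vG R [4, 6, 4, 4]) 1 : Submodule k V) ≠ ⊥ := by
      intro hc
      rw [hc, finrank_bot] at hinf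
      exact lt_irrefl _ hinf
    obtain ⟨u, hu, hu0⟩ := (Submodule.ne_bot_iff _).1 hne
    obtain ⟨hu1, hu2⟩ := Submodule.mem_inf.1 hu
    rw [End.mem_eigenspace_iff, one_smul] at hu1 hu2
    have hw : ∀ l : List Bool, op vG R (l.flatMap fun b => if b then [4, 6, 4, 4] else [6]) u = u := by
      intro l
      induction l with
      | nil => rw [List.flatMap_nil, op_nil]; rfl
      | cons b l ih =>
        rw [List.flatMap_cons, op_append, Module.End.mul_apply, ih]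
        cases b
        · exact hu1
        · exact hu2
    have hz : op vG R [2, 2, 2, 2] u = u := by
      rw [← hw (beta% delta% lq26044ec823 fun a c _ _ g h _ =>
 (a g<|a h<|a g<|a h<|a g<|a h<|a h<|a g<|a g<|a h<|a g<|a h<|a g<|c))]
      conv_rhs => rw [hw]
      have r1 : (beta% delta% lq26044ec823 fun a c _ _ g h i =>
 op i R ((a g<|a h<|a g<|a h<|a g<|a h<|a h<|a g<|a g<|a h<|a g<|a h<|a g<|c).flatMap
 fun b => if b then (a 4<|a 6<|a 4<|a 4<|c) else (a 6<|c)) :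
 Module.End k V) = op vG R [2, 2, 2, 2] := by
        unfold op
        rw [ev_vG, ev_vG]
        exact congrArg R (GW_eq (by decide +kernel))
      rw [← r1, hw, hw]
    have h0 : op vG R [0] u = u := by
      have r1 : (beta% delta% lq26044ec823 fun a c _ _ g h i =>
 op i R ((a h<|a g<|a g<|a h<|a h<|a g<|a h<|a g<|a h<|a h<|a g<|a g<|a g<|a g<|c).flatMap
 fun b => if b then (a 4<|a 6<|a 4<|a 4<|c) else (a 6<|c)) :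
 Module.End k V) = op vG R [0] := by
        unfold op
        rw [ev_vG, ev_vG]
        exact congrArg R (GW_eq (by decide +kernel))
      rw [← r1, hw]
    have h1 : op vG R [1] u = u := by
      have r1 : (beta% delta% lq26044ec823 fun a c _ _ g h i =>
 op i R ((a g<|a g<|a h<|a g<|a h<|a h<|a h<|a g<|a h<|a g<|a h<|a g<|a g<|a h<|c).flatMap
 fun b => if b then (a 4<|a 6<|a 4<|a 4<|c) else (a 6<|c)) :
 Module.End k V) = op vG R [1] := by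
        unfold op
        rw [ev_vG, ev_vG]
        exact congrArg R (GW_eq (by decide +kernel))
      rw [← r1, hw]
    have hCp : u ∈ Cp vG R := by
      refine Submodule.mem_inf.2 ⟨mem_Wt.2 ⟨by rw [h0, one_smul], by rw [h1, one_smul]⟩, ?_⟩
      rw [End.mem_eigenspace_iff, one_smul]
      exact hz
    rw [(basic_ten hneg hω h2 hn hE).1, Submodule.mem_bot] at hCp
    exact hu0 hCp
  have htr := trace_eq_sum hξ (by norm_num) P5 1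
  rw [pow_one, Fin.sum_univ_eq_sum_range
    (fun b => ξ ^ (b * 1) * (finrank k (End.eigenspace (op vG R [6]) (ξ ^ b)) : k)) 5] at htr
  simp only [Finset.sum_range_succ, Finset.sum_range_zero, zero_add] at htr
  have b1 : finrank k (End.eigenspace (op vG R [6]) (ξ ^ 1)) = 2 := by omega
  have b2 : finrank k (End.eigenspace (op vG R [6]) (ξ ^ 2)) = 2 := by omega
  have b3 : finrank k (End.eigenspace (op vG R [6]) (ξ ^ 3)) = 2 := by omega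
  have b4 : finrank k (End.eigenspace (op vG R [6]) (ξ ^ 4)) = 2 := by omega
  have b0 : finrank k (End.eigenspace (op vG R [6]) 1) = 2 := by omega
  rw [b1, b2, b3, b4, Nat.zero_mul, pow_zero, b0] at htr
  rw [tw, htr]
  have hξs : 1 + ξ + ξ ^ 2 + ξ ^ 3 + ξ ^ 4 = 0 := by
    have h5 : (ξ - 1) * (1 + ξ + ξ ^ 2 + ξ ^ 3 + ξ ^ 4) = 0 := by
      linear_combination hξ5
    exact (mul_eq_zero.1 h5).resolve_left (sub_ne_zero.2 (hξ.ne_one (by norm_num)))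
  push_cast
  linear_combination 2 * hξs

end Cfsg.Agent.H6.M11
end

-- part: H6/M11/Cover20
section
/-!
# Faithful representations of degree 10 of the double cover of the Mathieu group of degree 12 (helper6)

The trace of the element of order 20 is zero.
-/

set_option autoImplicit false
set_option linter.unusedSectionVars false
set_option linter.unusedVariables false
set_option maxRecDepth 100000

namespace Cfsg.Agent.H6.M11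

open Module LinearMap Cfsg.Agent.H932.Mt

variable {k : Type*} [Field k] {V : Type*} [AddCommGroup V] [Module k V] [FiniteDimensional k V] {R : Γ →* End k V}
  {ω ξ η i : k}

variable (R) in
/-- the operator of `y` -/
noncomputable def Yo : End k V := R (GW [0])

variable (R) in
/-- the operator of an element of order 5 commuting with `y` -/
noncomputable def Fo : End k V := R (GW [6, 1, 2, 3, 4])

/-- powers of the word -/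
def wf : ℕ → List ℕ
  | 0 => []
  | n + 1 => [6, 1, 2, 3, 4] ++ wf n

theorem Fo_pow (n : ℕ) : (Fo R) ^ n = R (GW (wf n)) := by
  induction n with
  | zero => rw [pow_zero, wf, GW_nil, map_one]
  | succ n ih => rw [pow_succ', ih, wf, GW_append, map_mul]; rfl

theorem Fo_five : (Fo R) ^ 5 = 1 := by
  rw [Fo_pow, show GW (wf 5) = GW [] from GW_eq (by decide +kernel), GW_nil, map_one]

theorem Yo_sq (hneg : R neg = -1) : Yo R * Yo R = -1 := by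
  rw [Yo, ← map_mul, ← GW_append, show GW ([0] ++ [0]) = GW [6] from GW_eq (by decide +kernel), GW_six, GW_nil, mul_one,
    hneg]

theorem Yo_Fo : Yo R * Fo R = Fo R * Yo R := by
  rw [Yo, Fo, ← map_mul, ← map_mul, ← GW_append, ← GW_append]
  exact congrArg R (GW_eq (by decide +kernel))

variable (R i) in
/-- projection to the eigenspace of `y` -/
noncomputable def PY : End k V := (2 : k)⁻¹ • (1 - i • Yo R)

theorem isProj_PY (hneg : R neg = -1) (h2 : (2 : k) ≠ 0) (hi : i * i = -1) : IsProj (End.eigenspace (Yo R) i) (PY R i) := by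
  have hY := Yo_sq hneg
  have hY' : ∀ u, Yo R (Yo R u) = -u := by
    intro u
    rw [← Module.End.mul_apply, hY]
    rfl
  refine ⟨fun u => ?_, fun u hu => ?_⟩
  · have e : i • i • (Yo R u) = -(Yo R u) := by rw [smul_smul, hi, neg_one_smul]
    rw [End.mem_eigenspace_iff, PY, LinearMap.smul_apply, LinearMap.sub_apply, Module.End.one_apply,
      LinearMap.smul_apply, map_smul, map_sub, map_smul, hY', smul_comm i, smul_sub i, e, smul_neg,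
      sub_neg_eq_add, sub_neg_eq_add, add_comm]
  · rw [End.mem_eigenspace_iff] at hu
    rw [PY, LinearMap.smul_apply, LinearMap.sub_apply, Module.End.one_apply, LinearMap.smul_apply, hu, smul_smul, hi,
      neg_one_smul, sub_neg_eq_add, half_add h2]

theorem PY_comm : Commute (PY R i) (Fo R) := by
  unfold PY
  refine Commute.smul_left ?_ _
  refine Commute.sub_left (Commute.one_left _) (Commute.smul_left ?_ _)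
  exact Yo_Fo

variable (R i) in
/-- trace on the eigenspace of `y` -/
noncomputable def te (w : List ℕ) : k := tg R w - i * tg R (0 :: w)

theorem Yo_mul (w : List ℕ) : Yo R * R (GW w) = R (GW (0 :: w)) := by
  rw [Yo, ← map_mul, ← GW_append, List.singleton_append]

/-- the trace formula -/
theorem trace_spec (h2 : (2 : k) ≠ 0) (h5 : ((5 : ℕ) : k) ≠ 0) (b : ℕ) (w : List ℕ) :
    2 * ((5 : ℕ) : k) * LinearMap.trace k V (PY R i * sp 5 η (Fo R) b * R (GW w)) =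
      te R i (wf 0 ++ w) + (η ^ b)⁻¹ * te R i (wf 1 ++ w) + (η ^ b)⁻¹ ^ 2 * te R i (wf 2 ++ w) +
        (η ^ b)⁻¹ ^ 3 * te R i (wf 3 ++ w) + (η ^ b)⁻¹ ^ 4 * te R i (wf 4 ++ w) := by
  have e0 : ∀ j : ℕ, LinearMap.trace k V ((1 - i • Yo R) * (((η ^ b)⁻¹ • Fo R) ^ j * R (GW w))) =
      (η ^ b)⁻¹ ^ j * te R i (wf j ++ w) := by
    intro j
    rw [smul_pow, smul_mul_assoc, mul_smul_comm, map_smul, smul_eq_mul, Fo_pow, ← map_mul, ← GW_append, sub_mul, one_mul,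
      smul_mul_assoc, map_sub, map_smul, smul_eq_mul, Yo_mul]
    rfl
  have e1 : LinearMap.trace k V (PY R i * sp 5 η (Fo R) b * R (GW w)) = (2 : k)⁻¹ * (((5 : ℕ) : k)⁻¹ *
      ∑ j ∈ Finset.range 5, (η ^ b)⁻¹ ^ j * te R i (wf j ++ w)) := by
    rw [PY, sp, av, smul_mul_assoc, smul_mul_assoc, map_smul, smul_eq_mul, mul_smul_comm, smul_mul_assoc, map_smul,
      smul_eq_mul, mul_assoc, Finset.sum_mul, Finset.mul_sum, map_sum, Finset.sum_congr rfl fun j _ => e0 j]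
  rw [e1]
  have e2 : ∀ S : k, 2 * ((5 : ℕ) : k) * ((2 : k)⁻¹ * (((5 : ℕ) : k)⁻¹ * S)) = S := by
    intro S
    rw [mul_assoc, ← mul_assoc ((5 : ℕ) : k), mul_comm ((5 : ℕ) : k) (2 : k)⁻¹, mul_assoc, ← mul_assoc ((5 : ℕ) : k),
      mul_inv_cancel₀ h5, one_mul, ← mul_assoc, mul_inv_cancel₀ h2, one_mul]
  rw [e2]
  simp only [Finset.sum_range_succ, Finset.sum_range_zero, zero_add, pow_zero, one_mul, pow_one]

/-! ### the traces -/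

theorem tD (hD : tw vG R [6] = 0) {w : List ℕ} (c : List ℕ) (h : eqG (c ++ w) ([6].flatMap WG ++ c) = true) :
    tg R w = 0 := by
  rw [tg_conj c h, ← tw_vG, hD]

theorem tS (hneg : R neg = -1) (hs : tw vG R [3] = -2) {w : List ℕ} (c : List ℕ)
    (h : eqG (c ++ w) (6 :: [3].flatMap WG ++ c) = true) : tg R w = 2 := by
  rw [tg_conj c h, tg_six hneg, ← tw_vG, hs, _root_.neg_neg]

theorem tY (hneg : R neg = -1) {w : List ℕ} (c : List ℕ) (h : eqG (c ++ w) (6 :: w20 ++ c) = true) :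
    tg R w = - tg R w20 := by
  rw [tg_conj c h, tg_six hneg]

/-- the traces on the powers -/
theorem te_nil (hneg : R neg = -1) (h2 : (2 : k) ≠ 0) (hD : tw vG R [6] = 0) :
    te R i (wf 0 ++ []) = (finrank k V : k) ∧ te R i (wf 1 ++ []) = -(i * tg R w20) ∧
      te R i (wf 2 ++ []) = i * tg R w20 ∧ te R i (wf 3 ++ []) = i * tg R w20 ∧
      te R i (wf 4 ++ []) = -(i * tg R w20) := by
  refine ⟨?_, ?_, ?_, ?_, ?_⟩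
  · have h1 : tg R (0 :: (wf 0 ++ [])) = 0 := tg_zero hneg h2 [1] (by decide +kernel)
    have h3 : tg R (wf 0 ++ []) = (finrank k V : k) := by
      rw [wf, List.nil_append, tg, GW_nil, map_one, LinearMap.trace_one]
    rw [te, h1, h3, mul_zero, sub_zero]
  · have h1 : tg R (wf 1 ++ []) = 0 := tD hD [4, 0, 5, 4, 2, 5, 1] (by decide +kernel)
    have h3 : tg R (0 :: (wf 1 ++ [])) = tg R w20 := tg_conj [] (by decide +kernel)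
    rw [te, h1, h3, zero_sub]
  · have h1 : tg R (wf 2 ++ []) = 0 := tD hD [0, 5, 2, 3, 1, 5, 4, 5, 3] (by decide +kernel)
    have h3 : tg R (0 :: (wf 2 ++ [])) = - tg R w20 := tY hneg [2, 3, 1] (by decide +kernel)
    rw [te, h1, h3, zero_sub, mul_neg, _root_.neg_neg]
  · have h1 : tg R (wf 3 ++ []) = 0 := tD hD [4, 0, 5, 4, 2, 5, 3, 2] (by decide +kernel)
    have h3 : tg R (0 :: (wf 3 ++ [])) = - tg R w20 := tY hneg [3, 1, 2] (by decide +kernel)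
    rw [te, h1, h3, zero_sub, mul_neg, _root_.neg_neg]
  · have h1 : tg R (wf 4 ++ []) = 0 := tD hD [4, 1, 0, 5, 4, 2, 5, 1] (by decide +kernel)
    have h3 : tg R (0 :: (wf 4 ++ [])) = tg R w20 := tg_conj [3, 4, 3, 1] (by decide +kernel)
    rw [te, h1, h3, zero_sub]

theorem te_one (hneg : R neg = -1) (h2 : (2 : k) ≠ 0) (hs : tw vG R [3] = -2) (hD : tw vG R [6] = 0) :
    te R i (wf 0 ++ [6, 3, 1]) = 2 ∧ te R i (wf 1 ++ [6, 3, 1]) = tg R (wf 1 ++ [6, 3, 1]) ∧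
      te R i (wf 2 ++ [6, 3, 1]) = -(i * tg R w20) ∧ te R i (wf 3 ++ [6, 3, 1]) = -(i * tg R w20) ∧
      te R i (wf 4 ++ [6, 3, 1]) = tg R (wf 1 ++ [6, 3, 1]) := by
  refine ⟨?_, ?_, ?_, ?_, ?_⟩
  · have h1 : tg R (wf 0 ++ [6, 3, 1]) = 2 := tS hneg hs [2] (by decide +kernel)
    have h3 : tg R (0 :: (wf 0 ++ [6, 3, 1])) = 0 := tg_zero hneg h2 [1] (by decide +kernel)
    rw [te, h1, h3, mul_zero, sub_zero]
  · have h3 : tg R (0 :: (wf 1 ++ [6, 3, 1])) = 0 := tg_zero hneg h2 [2, 3, 2] (by decide +kernel)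
    rw [te, h3, mul_zero, sub_zero]
  · have h1 : tg R (wf 2 ++ [6, 3, 1]) = 0 := tD hD [0, 5, 2, 3, 1, 5, 4, 5] (by decide +kernel)
    have h3 : tg R (0 :: (wf 2 ++ [6, 3, 1])) = tg R w20 := tg_conj [2, 1] (by decide +kernel)
    rw [te, h1, h3, zero_sub]
  · have h1 : tg R (wf 3 ++ [6, 3, 1]) = 0 := tD hD [4, 0, 5, 4, 2, 5, 3, 2, 1] (by decide +kernel)
    have h3 : tg R (0 :: (wf 3 ++ [6, 3, 1])) = tg R w20 := tg_conj [2, 3, 4, 2] (by decide +kernel)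
    rw [te, h1, h3, zero_sub]
  · have h1 : tg R (wf 4 ++ [6, 3, 1]) = tg R (wf 1 ++ [6, 3, 1]) := tg_conj [1, 2, 3] (by decide +kernel)
    have h3 : tg R (0 :: (wf 4 ++ [6, 3, 1])) = 0 := tg_zero hneg h2 [1, 2, 1] (by decide +kernel)
    rw [te, h1, h3, mul_zero, sub_zero]

theorem te_two (hneg : R neg = -1) (h2 : (2 : k) ≠ 0) (hs : tw vG R [3] = -2) (hD : tw vG R [6] = 0) :
    te R i (wf 0 ++ [2, 3, 1, 2]) = 2 ∧ te R i (wf 1 ++ [2, 3, 1, 2]) = i * tg R w20 ∧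
      te R i (wf 2 ++ [2, 3, 1, 2]) = tg R (wf 1 ++ [6, 3, 1]) ∧
      te R i (wf 3 ++ [2, 3, 1, 2]) = tg R (wf 1 ++ [6, 3, 1]) ∧
      te R i (wf 4 ++ [2, 3, 1, 2]) = i * tg R w20 := by
  refine ⟨?_, ?_, ?_, ?_, ?_⟩
  · have h1 : tg R (wf 0 ++ [2, 3, 1, 2]) = 2 := tS hneg hs [] (by decide +kernel)
    have h3 : tg R (0 :: (wf 0 ++ [2, 3, 1, 2])) = 0 := tg_zero hneg h2 [1, 2, 1] (by decide +kernel)
    rw [te, h1, h3, mul_zero, sub_zero]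
  · have h1 : tg R (wf 1 ++ [2, 3, 1, 2]) = 0 := tD hD [4, 3, 0, 5, 4, 2, 5, 2, 1] (by decide +kernel)
    have h3 : tg R (0 :: (wf 1 ++ [2, 3, 1, 2])) = - tg R w20 := tY hneg [2, 3, 2] (by decide +kernel)
    rw [te, h1, h3, zero_sub, mul_neg, _root_.neg_neg]
  · have h1 : tg R (wf 2 ++ [2, 3, 1, 2]) = tg R (wf 1 ++ [6, 3, 1]) := tg_conj [2, 1] (by decide +kernel)
    have h3 : tg R (0 :: (wf 2 ++ [2, 3, 1, 2])) = 0 := tg_zero hneg h2 [3] (by decide +kernel)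
    rw [te, h1, h3, mul_zero, sub_zero]
  · have h1 : tg R (wf 3 ++ [2, 3, 1, 2]) = tg R (wf 1 ++ [6, 3, 1]) := tg_conj [3, 1, 2] (by decide +kernel)
    have h3 : tg R (0 :: (wf 3 ++ [2, 3, 1, 2])) = 0 := tg_zero hneg h2 [1] (by decide +kernel)
    rw [te, h1, h3, mul_zero, sub_zero]
  · have h1 : tg R (wf 4 ++ [2, 3, 1, 2]) = 0 := tD hD [4, 0, 5, 4, 2, 5, 2, 3] (by decide +kernel)
    have h3 : tg R (0 :: (wf 4 ++ [2, 3, 1, 2])) = - tg R w20 := tY hneg [4] (by decide +kernel)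
    rw [te, h1, h3, zero_sub, mul_neg, _root_.neg_neg]

/-! ### the multiplicities -/

theorem proj_b (hneg : R neg = -1) (hη : IsPrimitiveRoot η 5) (h2 : (2 : k) ≠ 0) (hi : i * i = -1) (b : ℕ) :
    IsProj (End.eigenspace (Yo R) i ⊓ End.eigenspace (Fo R) (η ^ b) : Submodule k V) (PY R i * sp 5 η (Fo R) b) := by
  have : NeZero (5 : ℕ) := ⟨by norm_num⟩
  have h5 : ((5 : ℕ) : k) ≠ 0 := hη.neZero'.out
  refine IsProj.mul (isProj_PY hneg h2 hi) (isProj_sp h5 (hη.ne_zero (by norm_num)) hη.pow_eq_one Fo_five b) ?_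
  exact comm_av (PY_comm.smul_right _)

theorem mult (hneg : R neg = -1) (hη : IsPrimitiveRoot η 5) (h2 : (2 : k) ≠ 0) (hi : i * i = -1)
    (hn : finrank k V = 10) (hD : tw vG R [6] = 0) (b : ℕ) :
    10 * (finrank k (End.eigenspace (Yo R) i ⊓ End.eigenspace (Fo R) (η ^ b) : Submodule k V) : k) =
      10 - i * tg R w20 * ((η ^ b)⁻¹ - (η ^ b)⁻¹ ^ 2 - (η ^ b)⁻¹ ^ 3 + (η ^ b)⁻¹ ^ 4) := by
  have : NeZero (5 : ℕ) := ⟨by norm_num⟩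
  have h5 : ((5 : ℕ) : k) ≠ 0 := hη.neZero'.out
  obtain ⟨t0, t1, t3, t4, t5⟩ := te_nil (i := i) hneg h2 hD
  have h6 := trace_spec (R := R) (i := i) (η := η) h2 h5 b []
  rw [GW_nil, map_one, mul_one, trace_isProj (proj_b hneg hη h2 hi b), t0, t1, t3, t4, t5, hn] at h6
  push_cast at h6
  linear_combination h6

/-- the contradiction -/
theorem no_two (hneg : R neg = -1) (hη : IsPrimitiveRoot η 5) (h2 : (2 : k) ≠ 0) (hi : i * i = -1)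
    (hs : tw vG R [3] = -2) (hD : tw vG R [6] = 0)
    (hbot : (End.eigenspace (Yo R) i ⊓ End.eigenspace (Fo R) (η ^ 2) : Submodule k V) = ⊥)
    (ht : -(i * tg R w20) = 2 + 4 * (η + η ^ 4)) : False := by
  have : NeZero (5 : ℕ) := ⟨by norm_num⟩
  have h5 : ((5 : ℕ) : k) ≠ 0 := hη.neZero'.out
  have hη5 := hη.pow_eq_one
  have hηs : 1 + η + η ^ 2 + η ^ 3 + η ^ 4 = 0 := by
    have h5 : (η - 1) * (1 + η + η ^ 2 + η ^ 3 + η ^ 4) = 0 := by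
      linear_combination hη5
    exact (mul_eq_zero.1 h5).resolve_left (sub_ne_zero.2 (hη.ne_one (by norm_num)))
  have hz : PY R i * sp 5 η (Fo R) 2 = 0 := by
    have h1 := proj_b hneg hη h2 hi 2
    rw [hbot] at h1
    ext u
    exact (Submodule.mem_bot k).1 (h1.map_mem u)
  have hinv : (η ^ 2)⁻¹ = η ^ 3 := by
    exact inv_eq_of_mul_eq_one_left (by linear_combination hη5)
  have key : ∀ w : List ℕ, te R i (wf 0 ++ w) + η ^ 3 * te R i (wf 1 ++ w) + (η ^ 3) ^ 2 * te R i (wf 2 ++ w) +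
        (η ^ 3) ^ 3 * te R i (wf 3 ++ w) + (η ^ 3) ^ 4 * te R i (wf 4 ++ w) = 0 := by
    intro w
    rw [← hinv, ← trace_spec h2 h5 2 w, hz, zero_mul, map_zero, mul_zero]
  have A := key [6, 3, 1]
  have B := key [2, 3, 1, 2]
  obtain ⟨t0, t1, t3, t4, t5⟩ := te_one (i := i) hneg h2 hs hD
  obtain ⟨s0, s1, s3, s4, s5⟩ := te_two (i := i) hneg h2 hs hD
  rw [t0, t1, t3, t4, t5] at A
  rw [s0, s1, s3, s4, s5] at B
  generalize tg R (wf 1 ++ [6, 3, 1]) = r at A B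
  generalize i * tg R w20 = T at A B ht
  have e6 : (η ^ 3) ^ 2 = η := by linear_combination η * hη5
  have e9 : (η ^ 3) ^ 3 = η ^ 4 := by linear_combination η ^ 4 * hη5
  have e12 : (η ^ 3) ^ 4 = η ^ 2 := by linear_combination (η ^ 7 + η ^ 2) * hη5
  rw [e6, e9, e12] at A B
  set a := η + η ^ 4 with ha
  have ha2 : a ^ 2 = 1 - a := by
    rw [ha]
    linear_combination hηs + (η ^ 3 + 2) * hη5
  have hT : T = -(2 + 4 * a) := by rw [← ht, _root_.neg_neg]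
  have hb : η ^ 2 + η ^ 3 = -1 - a := by rw [ha]; linear_combination hηs
  have A' : 6 - 2 * a + r * (-1 - a) = 0 := by
    have : 2 + (η ^ 2 + η ^ 3) * r - a * T = 0 := by rw [ha]; linear_combination A
    rw [hb, hT] at this
    linear_combination this - 4 * ha2
  have B' : 8 + 2 * a + r * a = 0 := by
    have : 2 + (η ^ 2 + η ^ 3) * T + a * r = 0 := by rw [ha]; linear_combination B
    rw [hb, hT] at this
    linear_combination this - 4 * ha2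
  have C : 2 * 2 * 2 * (1 + 2 * a) = 0 := by
    linear_combination a * A' + (1 + a) * B'
  have hne : (1 + 2 * a) ≠ 0 := by
    intro h0
    apply h5
    push_cast
    linear_combination (1 + 2 * a) * h0 - 4 * ha2
  exact (mul_ne_zero (mul_ne_zero (mul_ne_zero h2 h2) h2) hne) C

theorem trace_g20 (hneg : R neg = -1) (hω : IsPrimitiveRoot ω 3) (hη : IsPrimitiveRoot η 5) (h2 : (2 : k) ≠ 0)
    (hi : i * i = -1) (hn : finrank k V = 10) (hE : op vG R [0] ≠ 1) : tg R w20 = 0 := by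
  have : NeZero (5 : ℕ) := ⟨by norm_num⟩
  have h3 : (3 : k) ≠ 0 := three_ne hω
  have h5 : ((5 : ℕ) : k) ≠ 0 := hη.neZero'.out
  have h5' : (5 : k) ≠ 0 := by exact_mod_cast h5
  have hη5 := hη.pow_eq_one
  have hs := (basic_ten hneg hω h2 hn hE).2
  have hD := trace_five hneg hω hη h2 hn hE
  have hηs : 1 + η + η ^ 2 + η ^ 3 + η ^ 4 = 0 := by
    have h5 : (η - 1) * (1 + η + η ^ 2 + η ^ 3 + η ^ 4) = 0 := by
      linear_combination hη5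
    exact (mul_eq_zero.1 h5).resolve_left (sub_ne_zero.2 (hη.ne_one (by norm_num)))
  have hi0 : i ≠ 0 := by
    rintro rfl
    rw [mul_zero] at hi
    exact one_ne_zero (α := k) (by linear_combination hi)
  -- the eigenspace of `y`
  have hdim : finrank k (End.eigenspace (Yo R) i) = 5 := by
    have h6 : LinearMap.trace k V (PY R i) = (finrank k (End.eigenspace (Yo R) i) : k) :=
      trace_isProj (isProj_PY hneg h2 hi)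
    have h7 : 2 * LinearMap.trace k V (PY R i) = 10 := by
      have h8 : tg R [0] = 0 := tg_zero hneg h2 [1] (by decide +kernel)
      rw [PY, map_smul, map_sub, map_smul, LinearMap.trace_one, smul_eq_mul, smul_eq_mul, Yo,
        show LinearMap.trace k V (R (GW [0])) = 0 from h8, mul_zero, sub_zero, ← mul_assoc, mul_inv_cancel₀ h2, one_mul, hn]
      norm_num
    rw [h6] at h7
    have h9 : (finrank k (End.eigenspace (Yo R) i) : k) = ((5 : ℕ) : k) := by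
      apply mul_left_cancel₀ h2
      rw [h7]; push_cast; norm_num
    have h10 := Submodule.finrank_le (End.eigenspace (Yo R) i)
    exact cast_small h2 h3 h5' h9 (by omega) (by omega)
  have hsum := finrank_eq_sum hη (by norm_num) (Fo_five (R := R)) (End.eigenspace (Yo R) i) (by
    intro u hu
    rw [End.mem_eigenspace_iff] at hu ⊢
    rw [← Module.End.mul_apply, Yo_Fo, Module.End.mul_apply, hu, map_smul])
  rw [Fin.sum_univ_eq_sum_range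
    (fun b => finrank k (End.eigenspace (Yo R) i ⊓ End.eigenspace (Fo R) (η ^ b) : Submodule k V)) 5, hdim] at hsum
  simp only [Finset.sum_range_succ, Finset.sum_range_zero, zero_add] at hsum
  have m0 := mult hneg hη h2 hi hn hD 0
  have m1 := mult hneg hη h2 hi hn hD 1
  have m2 := mult hneg hη h2 hi hn hD 2
  have m3 := mult hneg hη h2 hi hn hD 3
  have m4 := mult hneg hη h2 hi hn hD 4
  have i1 : (η ^ 1)⁻¹ = η ^ 4 := inv_eq_of_mul_eq_one_left (by linear_combination hη5)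
  have i2 : (η ^ 2)⁻¹ = η ^ 3 := inv_eq_of_mul_eq_one_left (by linear_combination hη5)
  have i3 : (η ^ 3)⁻¹ = η ^ 2 := inv_eq_of_mul_eq_one_left (by linear_combination hη5)
  have i4 : (η ^ 4)⁻¹ = η ^ 1 := inv_eq_of_mul_eq_one_left (by linear_combination hη5)
  rw [pow_zero, inv_one] at m0
  rw [i1] at m1
  rw [i2] at m2
  rw [i3] at m3
  rw [i4] at m4
  have hbot : ∀ b : ℕ, finrank k (End.eigenspace (Yo R) i ⊓ End.eigenspace (Fo R) (η ^ b) : Submodule k V) = 0 →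
      (End.eigenspace (Yo R) i ⊓ End.eigenspace (Fo R) (η ^ b) : Submodule k V) = ⊥ :=
    fun b hb => Submodule.finrank_eq_zero.1 hb
  have hb2 := hbot 2
  have hb4 := hbot 4
  rw [pow_zero] at hsum
  generalize finrank k (End.eigenspace (Yo R) i ⊓ End.eigenspace (Fo R) 1 : Submodule k V) = A0 at *
  generalize finrank k (End.eigenspace (Yo R) i ⊓ End.eigenspace (Fo R) (η ^ 1) : Submodule k V) = A1 at *
  generalize finrank k (End.eigenspace (Yo R) i ⊓ End.eigenspace (Fo R) (η ^ 2) : Submodule k V) = A2 at *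
  generalize finrank k (End.eigenspace (Yo R) i ⊓ End.eigenspace (Fo R) (η ^ 3) : Submodule k V) = A3 at *
  generalize finrank k (End.eigenspace (Yo R) i ⊓ End.eigenspace (Fo R) (η ^ 4) : Submodule k V) = A4 at *
  have h10 : (10 : k) ≠ 0 := by
    intro h
    have : (2 : k) * 5 = 0 := by rw [← h]; norm_num
    exact (mul_eq_zero.1 this).elim h2 h5'
  have a0 : A0 = 1 := cast_small h2 h3 h5' (mul_left_cancel₀ h10 (by rw [m0]; push_cast; ring)) (by omega) (by omega)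
  set T := i * tg R w20 with hT
  set a := η + η ^ 4 with ha
  have ha2 : a ^ 2 = 1 - a := by
    rw [ha]
    linear_combination hηs + (η ^ 3 + 2) * hη5
  have n1 : 10 * (A1 : k) = 10 - T * (1 + 2 * a) := by
    rw [m1, ha]
    linear_combination T * (hηs + (η ^ 3 + η ^ 7 + η ^ 2 - η ^ 11 - η ^ 6 - η) * hη5)
  have n4 : 10 * (A4 : k) = 10 - T * (1 + 2 * a) := by
    rw [m4, ha]
    linear_combination T * hηs
  have n2 : 10 * (A2 : k) = 10 + T * (1 + 2 * a) := by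
    rw [m2, ha]
    linear_combination T * (-hηs + (η + η ^ 4 - η ^ 7 - η ^ 2) * hη5)
  have n3 : 10 * (A3 : k) = 10 + T * (1 + 2 * a) := by
    rw [m3, ha]
    linear_combination T * (-hηs + (η - η ^ 3) * hη5)
  have a14 : A1 = A4 := cast_small h2 h3 h5' (mul_left_cancel₀ h10 (by rw [n1, n4])) (by omega) (by omega)
  have a23 : A2 = A3 := cast_small h2 h3 h5' (mul_left_cancel₀ h10 (by rw [n2, n3])) (by omega) (by omega)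
  have hcase : (A1 = 0 ∧ A4 = 0 ∧ A2 = 2) ∨ A1 = 1 ∨ (A1 = 2 ∧ A2 = 0) := by omega
  have hne : (1 + 2 * a) ≠ 0 := by
    intro h0
    apply h5
    push_cast
    linear_combination (1 + 2 * a) * h0 - 4 * ha2
  rcases hcase with ⟨h1, h4, h6⟩ | h1 | ⟨h1, h6⟩
  · exfalso
    have hη' : IsPrimitiveRoot (η ^ 2) 5 := hη.pow_of_coprime 2 (by norm_num)
    refine no_two hneg hη' h2 hi hs hD ?_ ?_
    · rw [← pow_mul]
      exact hb4 h4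
    · rw [← hT]
      rw [h6] at n2
      push_cast at n2
      apply mul_left_cancel₀ hne
      linear_combination n2 + 8 * ha2 - (1 + 2 * a) * (4 * hηs + 4 * η ^ 3 * hη5)
  · rw [h1] at n1
    have h7 : T * (1 + 2 * a) = 0 := by push_cast at n1; linear_combination n1
    have h8 : T = 0 := (mul_eq_zero.1 h7).resolve_right hne
    exact (mul_eq_zero.1 h8).resolve_left hi0
  · exfalso
    refine no_two hneg hη h2 hi hs hD (hb2 h6) ?_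
    rw [← hT]
    rw [h1] at n1
    push_cast at n1
    apply mul_left_cancel₀ hne
    linear_combination -n1 - 8 * ha2

end Cfsg.Agent.H6.M11
end

-- part: H6/M11/StageCover
section
/-!
# Cores with socle the Mathieu group of degree 12, dimension at most 11, characteristic at least 5 (helper6)
-/

set_option autoImplicit false
set_option linter.unusedSectionVars false
set_option linter.unusedVariables false
set_option maxRecDepth 100000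

namespace Cfsg.Agent.H6.M11

open Matrix hiding neg
open Module Cfsg Cfsg.Geo Cfsg.Agent.H915.LD Cfsg.Agent.H932.Mt

universe u

variable {ι : Type} [Fintype ι] [DecidableEq ι] {F : Type u} [Field F] [Finite F] {P : Subgroup (GL ι F)}

/-- a double cover is `Γ` -/
theorem exists_equiv (hC : Core P) (e : Soc P ≃* Spor.M12) (h2 : (2 : F) ≠ 0) (z : P)
    (hz : ((z : GL ι F) : Matrix ι ι F) = -1) :
    ∃ φ : Γ →* P, Function.Surjective φ ∧ Function.Injective φ ∧ φ neg = z := by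
  obtain ⟨φ, hφ, hφe⟩ := exists_cover hC e
  have hne := hC.nonempty
  have hz1 : z ≠ 1 := by
    rintro rfl
    obtain ⟨i⟩ := hne
    have h3 := congrFun (congrFun hz i) i
    simp only [Subgroup.coe_one, Units.val_one, Matrix.one_apply_eq, Matrix.neg_apply] at h3
    apply h2
    linear_combination h3
  have hφn : φ neg = z := by
    obtain ⟨x, hx⟩ := hφ z
    have h3 : toSoc P z = 1 := by
      have h6 : z ∈ (scalars ι F).subgroupOf P := by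
        rw [Subgroup.mem_subgroupOf, mem_scalars_iff]
        exact ⟨-1, by rw [hz]; simp⟩
      exact (QuotientGroup.eq_one_iff z).2 h6
    have h4 := hφe x
    rw [hx, h3, map_one] at h4
    rcases eq_of_sig h4.symm with h5 | h5
    · rw [h5, map_one] at hx
      exact absurd hx.symm hz1
    · rw [← h5]; exact hx
  refine ⟨φ, hφ, ?_, hφn⟩
  rw [injective_iff_map_eq_one]
  intro a ha
  have h4 := hφe a
  rw [ha, map_one, map_one] at h4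
  rcases eq_of_sig h4.symm with h5 | h5
  · exact h5
  · rw [h5, hφn] at ha
    exact absurd ha hz1

/-- **double cover, `p ≥ 5`, dimension at most 11** -/
theorem cover_five (hC : Core P) (p : ℕ) [hp : Fact p.Prime] [CharP F p] (hp5 : 5 ≤ p) (e : Soc P ≃* Spor.M12)
    (hn : Fintype.card ι ≤ 11) (heven : Even (Fintype.card ι)) (z : P)
    (hz : ((z : GL ι F) : Matrix ι ι F) = -1) :
    Fintype.card ι = 10 ∧ (((p % 8 = 1 ∨ p % 8 = 3) ∧ Fr P p) ∨ ((p % 8 = 5 ∨ p % 8 = 7) ∧ Cj P p)) := by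
  have hp2 : p ≠ 2 := by omega
  have hp3 : p ≠ 3 := by omega
  have h2 : (2 : F) ≠ 0 := cast_ne F hp.out Nat.prime_two hp2
  obtain ⟨φ, hφ, hinj, hφn⟩ := exists_equiv hC e h2 z hz
  let v : ℕ → P := fun i => φ (vG i)
  have hv : Sat v := sat_G.map φ
  have hv0 : v 0 ≠ 1 := by
    intro h0
    apply vG_zero_ne
    exact hinj (by rw [map_one]; exact h0)
  have hev : ∀ w, ev v w = φ (ev vG w) := fun w => (map_ev vG φ w).symm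
  have h9 := nine_le_of p hp3 hp2 hv hv0 (by omega)
  have h10 : Fintype.card ι = 10 := by
    obtain ⟨m, hm⟩ := heven
    omega
  refine ⟨h10, ?_⟩
  let χ : Γ → F := fun g => tr ((φ g : P) : GL ι F)
  have hχ : ∀ a b, IsConj a b → χ a = χ b := fun a b hab => tr_isConj (φ.map_isConj hab)
  have hnχ : ∀ g, χ (neg * g) = - χ g := by
    intro g
    show tr ((φ (neg * g) : P) : GL ι F) = - tr ((φ g : P) : GL ι F)
    rw [map_mul, hφn]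
    unfold tr
    rw [Subgroup.coe_mul, Units.val_mul, hz, neg_one_mul, Matrix.trace_neg]
  have hx : χ (ev vG [5])⁻¹ = χ (ev vG [5]) := by
    have h1 := real_eleven p hp3 hv hv0 (by omega)
    rw [hev, ← map_inv] at h1
    exact h1
  have h20 : p ≠ 5 → χ g20 = 0 := by
    intro hp5'
    have hck : CharP (AlgebraicClosure F) p := charP_of_injective_algebraMap (algebraMap F _).injective p
    obtain ⟨ω, hω⟩ := exists_root (AlgebraicClosure F) 3 (cast_ne _ hp.out Nat.prime_three hp3)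
    obtain ⟨η, hη⟩ := exists_root (AlgebraicClosure F) 5 (cast_ne _ hp.out Nat.prime_five hp5')
    have h2k : (2 : AlgebraicClosure F) ≠ 0 := cast_ne _ hp.out Nat.prime_two hp2
    obtain ⟨i, hi⟩ := IsAlgClosed.exists_pow_nat_eq (-1 : AlgebraicClosure F) (n := 2) (by norm_num)
    have hneg : ((rep P (AlgebraicClosure F)).comp φ) neg = -1 := by
      rw [MonoidHom.comp_apply, hφn, rep_apply, hz]
      have h8 : (-1 : Matrix ι ι F).map (algebraMap F (AlgebraicClosure F)) = -1 := by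
        rw [Matrix.map_neg _ (map_neg (algebraMap F (AlgebraicClosure F))), Matrix.map_one _ (map_zero _) (map_one _)]
      rw [h8, map_neg, Matrix.toLin'_one]
      rfl
    have h7 := trace_g20 (R := (rep P (AlgebraicClosure F)).comp φ) (i := i) hneg hω hη h2k (by rw [← hi]; ring)
      (by rw [Module.finrank_fintype_fun_eq_card]; exact h10) (by
        intro h
        have h8 : rep P (AlgebraicClosure F) (φ (ev vG [0])) = 1 := h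
        have h1 := rep_eq_one _ h8
        rw [ev_cons, ev_nil, mul_one] at h1
        exact hv0 h1)
    have h8 : algebraMap F (AlgebraicClosure F) (χ g20) = 0 := by
      rw [← h7]
      show _ = LinearMap.trace _ _ (rep P (AlgebraicClosure F) (φ (GW w20)))
      rw [trace_rep]
      rfl
    exact (map_eq_zero _).1 h8
  have hpow : ∀ g : Γ, tr ((φ g : P) : GL ι F) ^ p = χ (g ^ p) := by
    intro g
    have h1 := tr_pow_char p ((φ g : P) : GL ι F) 1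
    rw [pow_one] at h1
    rw [← h1]
    show _ = tr ((φ (g ^ p) : P) : GL ι F)
    rw [map_pow, Subgroup.coe_pow]
  have hlift : ∀ g ∈ P, ¬ p ∣ orderOf g → ∃ x : Γ, ((φ x : P) : GL ι F) = g ∧ ¬ p ∣ orderOf x := by
    intro g hg hr
    obtain ⟨x, hx⟩ := hφ ⟨g, hg⟩
    refine ⟨x, by rw [hx], ?_⟩
    rw [← orderOf_injective φ hinj x, hx, Subgroup.orderOf_mk]
    exact hr
  have hodd : p % 2 = 1 := by
    rcases hp.out.eq_two_or_odd with h0 | h0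
    · omega
    · exact h0
  have hcase : (p % 8 = 1 ∨ p % 8 = 3) ∨ (p % 8 = 5 ∨ p % 8 = 7) := by omega
  rcases hcase with hm | hm
  · refine Or.inl ⟨hm, Fr.of_reg' p ?_⟩
    intro g hg hr
    obtain ⟨x, rfl, hr'⟩ := hlift g hg hr
    rw [hpow]
    exact fun_types (θ := χ) hp.out hp5 hχ hnχ h2 hx h20 (Or.inl ⟨hm, rfl⟩) x hr'
  · refine Or.inr ⟨hm, Cj.of_reg' p ?_⟩
    intro g hg hr
    obtain ⟨x, rfl, hr'⟩ := hlift g hg hr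
    rw [hpow]
    refine (fun_types (θ := fun g => χ g⁻¹) hp.out hp5 hχ hnχ h2 hx h20 (Or.inr ⟨hm, rfl⟩) x hr').trans ?_
    show tr ((φ x⁻¹ : P) : GL ι F) = _
    rw [map_inv, Subgroup.coe_inv]

/-- **Stage 1 for the Mathieu group of degree 12, `p ≥ 5`, dimension at most 11.** -/
theorem m12_five (hC : Core P) (p : ℕ) [hp : Fact p.Prime] [CharP F p] (hp5 : 5 ≤ p)
    (h : Spor.IsoM12 (Soc P)) (hn : Fintype.card ι ≤ 11) :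
    SD P ∨ (Fintype.card ι = 10 ∧ (((p % 8 = 1 ∨ p % 8 = 3) ∧ Fr P p) ∨ ((p % 8 = 5 ∨ p % 8 = 7) ∧ Cj P p))) := by
  rcases m12_ne_three hC p (by omega) h (by omega) with h1 | ⟨-, h3, h4, z, hz⟩
  · exact Or.inl h1
  · obtain ⟨e⟩ := h
    exact Or.inr (cover_five hC p hp5 e hn h3 z hz)

/-- **characteristic not 3, dimension at most 11** -/
theorem m12_small (hC : Core P) (p : ℕ) [hp : Fact p.Prime] [CharP F p] (hp3 : p ≠ 3)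
    (h : Spor.IsoM12 (Soc P)) (hn : Fintype.card ι ≤ 11) :
    SD P ∨ (Fintype.card ι = 10 ∧ (((p % 8 = 1 ∨ p % 8 = 3) ∧ Fr P p) ∨ ((p % 8 = 5 ∨ p % 8 = 7) ∧ Cj P p))) := by
  by_cases hp2 : p = 2
  · exact Or.inl (m12_odd hC p hp3 h (by omega) (Or.inr hp2))
  · refine m12_five hC p ?_ h hn
    have h2 := hp.out.two_le
    by_contra hc
    have : p = 4 := by omega
    rw [this] at hp
    exact absurd hp.out (by norm_num)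

end Cfsg.Agent.H6.M11
end

private theorem dce_6a83035ad1b0 : _root_.True := by
  try have : _root_.True := by simp only [_root_.Cfsg.Agent.H6.M11.incrT.eq_def]
  try have : _root_.True := by simp only [_root_.Cfsg.Agent.H6.M11.wf.eq_def]
  try have : _root_.True := by simp only [_root_.Cfsg.Agent.H6.M11.Fo.eq_1]
  try have : _root_.True := by simp only [_root_.Cfsg.Agent.H6.M11.te.eq_1]
  try have : _root_.True := by simp only [_root_.Cfsg.Agent.H6.M11.Yo.eq_1]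
  try have : _root_.True := by simp only [_root_.Cfsg.Agent.H6.M11.tg.eq_1]
  try have : _root_.True := by simp only [_root_.Cfsg.Agent.H6.M11.PY.eq_1]
  try have : _root_.True := by simp only [_root_.Cfsg.Agent.H6.M11.g20.eq_1]
  try have : _root_.True := by simp only [_root_.Cfsg.Agent.H6.M11.wf.eq_1]
  try have : _root_.True := by simp only [_root_.Cfsg.Agent.H6.M11.incrT.eq_1]
  try have : _root_.True := by simp only [_root_.Cfsg.Agent.H6.M11.wf.eq_2]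
  try have : _root_.True := by simp only [_root_.Cfsg.Agent.H6.M11.incrT.eq_2]
  exact _root_.True.intro
end
end
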